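import Cfsg.Agent.H908.TenDim
import Cfsg.Agent.S0752

/-!
# No quaternion groups in `Ω₁₀(q)` containing `-1` (helper908)
-/

set_option autoImplicit false
set_option linter.unusedSectionVars false

namespace Cfsg.Agent.H908.Ten

open Cfsg Cfsg.Geo Module
open Matrix hiding mul_apply'
open Cfsg.Agent.H637.JW

universe u v

theorem even_of_alt {K V : Type*} [Field K] [AddCommGroup V] [Module K V] [FiniteDimensional K V]
    (B : LinearMap.BilinForm K V) (hA : B.IsAlt) (hnd : ∀ u, (∀ v, B u v = 0) → u = 0) : Even (finrank K V) := by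
  obtain ⟨m, k, b, h1, h2, h3, h4⟩ := S0752.result B hA
  have hk : k = 0 := by
    by_contra hk
    exact b.ne_zero _ (hnd _ (h4 ⟨0, Nat.pos_of_ne_zero hk⟩))
  subst hk
  rw [Module.finrank_eq_card_basis b, Fintype.card_sum, Fintype.card_sum, Fintype.card_fin, Fintype.card_fin, add_zero]
  exact ⟨m, rfl⟩

namespace OT

variable {F : Type u} [Field F] {T : Type v} [Group T] (h : OT F T)

include h in
/-- **No quaternion groups containing `-1`.** -/
theorem no_quat (h2 : (2 : F) ≠ 0) {x y : T} (hx : ∀ v, h.σ x (h.σ x v) = -v) (hy : ∀ v, h.σ y (h.σ y v) = -v)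
    (hxy : ∀ v, h.σ x (h.σ y v) = -h.σ y (h.σ x v)) : False := by
  have h2' : (2 : AlgebraicClosure F) ≠ 0 := by
    intro h0
    apply h2
    apply (algebraMap F (AlgebraicClosure F)).injective
    rw [map_zero, ← h0]
    exact map_ofNat _ 2
  obtain ⟨i, hi⟩ : ∃ i : AlgebraicClosure F, i * i = -1 := by
    obtain ⟨i, hi⟩ := IsAlgClosed.exists_pow_nat_eq (-1 : AlgebraicClosure F) (n := 2) (by norm_num)
    exact ⟨i, by rw [← pow_two, hi]⟩
  -- the two eigenspaces
  have hmap : ∀ j : AlgebraicClosure F, finrank (AlgebraicClosure F) ((h.σ x).eigenspace j) ≤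
      finrank (AlgebraicClosure F) ((h.σ x).eigenspace (-j)) := by
    intro j
    refine finrank_le_of_map (σ := h.σ) y fun v hv => ?_
    rw [Module.End.mem_eigenspace_iff] at hv ⊢
    rw [hxy, hv, map_smul, neg_smul]
  have hdim : finrank (AlgebraicClosure F) ((h.σ x).eigenspace i) +
      finrank (AlgebraicClosure F) ((h.σ x).eigenspace (-i)) = 10 := by
    have h3 := two_inf h2' (A := (-i) • h.σ x) (U := ⊤) (fun v _ => by
      rw [LinearMap.smul_apply, LinearMap.smul_apply, map_smul, hx, smul_smul, smul_neg, ← neg_smul, neg_mul_neg, hi,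
        neg_neg, one_smul]) (fun _ _ => trivial)
    rw [finrank_top, Module.finrank_fin_fun] at h3
    have e1 : (⊤ ⊓ ((-i) • h.σ x).eigenspace 1 : Submodule (AlgebraicClosure F) _) = (h.σ x).eigenspace i := by
      ext v
      rw [Submodule.mem_inf, Module.End.mem_eigenspace_iff, Module.End.mem_eigenspace_iff, LinearMap.smul_apply, one_smul]
      constructor
      · rintro ⟨-, hv⟩
        have := congrArg (fun w => i • w) hv
        simp only [smul_smul, mul_neg, hi, neg_neg, one_smul] at this
        exact this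
      · intro hv
        refine ⟨trivial, ?_⟩
        rw [hv, smul_smul, neg_mul, hi, neg_neg, one_smul]
    have e2 : (⊤ ⊓ ((-i) • h.σ x).eigenspace (-1) : Submodule (AlgebraicClosure F) _) = (h.σ x).eigenspace (-i) := by
      ext v
      rw [Submodule.mem_inf, Module.End.mem_eigenspace_iff, Module.End.mem_eigenspace_iff, LinearMap.smul_apply,
        neg_one_smul]
      constructor
      · rintro ⟨-, hv⟩
        have := congrArg (fun w => i • w) hv
        simp only [smul_smul, mul_neg, hi, neg_neg, one_smul, smul_neg] at this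
        rw [this, neg_smul]
      · intro hv
        refine ⟨trivial, ?_⟩
        rw [hv, smul_smul, neg_mul_neg, hi, neg_one_smul]
    rw [e1, e2] at h3
    exact h3
  have h5 : finrank (AlgebraicClosure F) ((h.σ x).eigenspace i) = 5 := by
    have h3 := hmap i
    have h4 := hmap (-i)
    rw [neg_neg] at h4
    omega
  -- the form on the eigenspace
  let C : LinearMap.BilinForm (AlgebraicClosure F) ((h.σ x).eigenspace i) :=
    LinearMap.mk₂ (AlgebraicClosure F) (fun u v => h.B u.1 (h.σ y v.1))
      (fun u u' v => h.B_add_left _ _ _) (fun c u v => h.B_smul_left _ _ _)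
      (fun u v v' => by
        rw [Submodule.coe_add, map_add, h.B_add_right])
      (fun c u v => by
        rw [Submodule.coe_smul, map_smul, h.B_smul_right]
        rfl)
  have hC : ∀ u v, C u v = h.B u.1 (h.σ y v.1) := fun _ _ => rfl
  have hneg : ∀ u v, h.B u (-v) = -h.B u v := by
    intro u v
    rw [← neg_one_smul (AlgebraicClosure F) v, h.B_smul_right, neg_one_mul]
  have halt : C.IsAlt := by
    intro v
    rw [hC]
    have h3 := h.B_inv y v.1 (h.σ y v.1)
    rw [hy, hneg, h.B_comm] at h3
    have h4 : (2 : AlgebraicClosure F) * h.B v.1 (h.σ y v.1) = 0 := by linear_combination -h3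
    exact (mul_eq_zero.1 h4).resolve_left h2'
  have hnd : ∀ u, (∀ v, C u v = 0) → u = 0 := by
    intro u hu
    apply Subtype.ext
    apply h.B_nondeg
    intro w
    rw [h.B_comm]
    -- decompose `w`
    have hux := Module.End.mem_eigenspace_iff.1 u.2
    have hw1 : h.B u.1 (w + (-i) • h.σ x w) = 0 := by
      -- this vector lies in the eigenspace for `i`
      have h6 : h.σ x (w + (-i) • h.σ x w) = i • (w + (-i) • h.σ x w) := by
        rw [map_add, map_smul, hx, smul_add, smul_smul, mul_neg, hi, neg_neg, one_smul, smul_neg, neg_smul, neg_neg,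
          add_comm]
      generalize w + (-i) • h.σ x w = z at h6 ⊢
      have h7 := h.B_inv x u.1 z
      rw [hux, h6, h.B_smul_left, h.B_smul_right, ← mul_assoc, hi] at h7
      have h8 : (2 : AlgebraicClosure F) * h.B u.1 z = 0 := by linear_combination -h7
      exact (mul_eq_zero.1 h8).resolve_left h2'
    have hw2 : h.B u.1 (w - (-i) • h.σ x w) = 0 := by
      have h6 : h.σ x (w - (-i) • h.σ x w) = (-i) • (w - (-i) • h.σ x w) := by
        rw [map_sub, map_smul, hx, smul_sub, smul_smul, neg_mul_neg, hi]
        module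
      generalize w - (-i) • h.σ x w = z at h6 ⊢
      have h7 : -h.σ y z ∈ (h.σ x).eigenspace i := by
        rw [Module.End.mem_eigenspace_iff, map_neg, hxy, h6, map_smul, neg_smul, neg_neg, smul_neg]
      have h8 := hu ⟨_, h7⟩
      rw [hC] at h8
      change h.B u.1 (h.σ y (-h.σ y z)) = 0 at h8
      rwa [map_neg, hy, neg_neg] at h8
    have h9 : (2 : AlgebraicClosure F) * h.B u.1 w = 0 := by
      rw [h.B_add_right] at hw1
      rw [sub_eq_add_neg, h.B_add_right, hneg] at hw2
      linear_combination hw1 + hw2
    exact (mul_eq_zero.1 h9).resolve_left h2'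
  have h6 := even_of_alt C halt hnd
  rw [h5] at h6
  exact absurd h6 (by decide)

end OT

end Cfsg.Agent.H908.Ten
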