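import Cfsg.Agent.H908.TenTrace
import Cfsg.Agent.H908.TenQuat
import Cfsg.Agent.H933.O10.Base
import Cfsg.Agent.S2119

/-!
# `A₇` is never the socle of a residual core in `Ω₁₀(q)` (helper908)
-/

set_option autoImplicit false
set_option linter.unusedSectionVars false

namespace Cfsg.Agent.H908.Ten

open Cfsg Cfsg.Geo Module Equiv Equiv.Perm
open Matrix hiding mul_apply'
open Cfsg.Agent.H637.JW Cfsg.Agent.H637.SevenA7 Cfsg.Agent.H933.O10 Cfsg.Agent.H915.LD
open scoped commutatorElement

universe u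

variable {F : Type u} [Field F] {p : ℕ} {Q : (Fin 10 → F) → F} {H P : Subgroup (GL (Fin 10) F)}

/-- the core itself -/
def ofCx (hX : Cx p Q H P) : OT F P where
  ρ := P.subtype
  Q := Q
  nd := hX.hQ
  mem := fun g => hX.le_omega g.2
  irr := by rw [Subgroup.range_subtype]; exact hX.hc.absIrred
  inj := Subtype.val_injective

theorem s_not_mem : s ∉ Subgroup.zpowers r := by
  intro hm
  obtain ⟨k, hk⟩ := Subgroup.mem_zpowers_iff.1 hm
  have h1 : s * r = r * s := by rw [← hk]; group
  exact absurd h1 (by decide +kernel)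

/-- **The centre of the core is trivial.** -/
theorem injective_of_A7 [Finite F] (hX : Cx p Q H P) (e : Soc P ≃* A7) :
    Function.Injective (e.toMonoidHom.comp (toSoc P)) := by
  classical
  have hfin : Finite P := inferInstance
  set f : P →* A7 := e.toMonoidHom.comp (toSoc P) with hf
  have hsurj : Function.Surjective f := e.surjective.comp (toSoc_surjective P)
  have hkc : f.ker ≤ Subgroup.center P := by
    rw [hf, ker_comp]; exact scalars_le_center
  have hcen : ∀ {k : P}, f k = 1 → ∀ x, x * k = k * x := fun {k} hk x =>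
    Subgroup.mem_center_iff.1 (hkc ((MonoidHom.mem_ker).2 hk)) x
  have hsc : ∀ k : P, f k = 1 → (k : GL (Fin 10) F) = 1 ∨
      ((k : GL (Fin 10) F) : Matrix (Fin 10) (Fin 10) F) = -1 := by
    intro k hk
    have h1 : k ∈ f.ker := hk
    rw [hf, ker_comp, Subgroup.mem_subgroupOf, mem_scalars_iff] at h1
    obtain ⟨c, hc⟩ := h1
    have h2 := hX.scalar_sq k.2 hc
    rcases mul_self_eq_one_iff.1 (show (c : F) * c = 1 by rw [← pow_two, h2]) with h3 | h3
    · left
      apply Units.ext
      rw [hc, h3, one_smul]; rfl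
    · right
      rw [hc, h3, neg_one_smul]
  rw [injective_iff_map_eq_one]
  by_contra hcon
  push Not at hcon
  obtain ⟨z, hz, hz1⟩ := hcon
  have hzm : ((z : GL (Fin 10) F) : Matrix (Fin 10) (Fin 10) F) = -1 := by
    rcases hsc z hz with h1 | h1
    · exact absurd (Subtype.ext h1) hz1
    · exact h1
  have h2 : (2 : F) ≠ 0 := by
    intro h0
    apply hz1
    apply Subtype.ext
    apply Units.ext
    rw [hzm]
    ext i j
    have : (-1 : F) = 1 := by linear_combination -h0
    rw [Matrix.neg_apply, ← neg_one_mul, this, one_mul]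
    rfl
  have hker : ∀ k : P, f k = 1 → k = 1 ∨ k = z := by
    intro k hk
    rcases hsc k hk with h1 | h1
    · exact Or.inl (Subtype.ext h1)
    · exact Or.inr (Subtype.ext (Units.ext (by rw [h1, hzm])))
  have hzz : z * z = 1 := by
    apply Subtype.ext
    apply Units.ext
    change ((z : GL (Fin 10) F) : Matrix (Fin 10) (Fin 10) F) * ((z : GL (Fin 10) F) : Matrix (Fin 10) (Fin 10) F) = 1
    rw [hzm, neg_mul_neg, one_mul]
  have hksq : ∀ k : P, f k = 1 → k * k = 1 := by
    intro k hk
    rcases hker k hk with rfl | rfl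
    · exact one_mul 1
    · exact hzz
  have hp2 : IsPGroup 2 f.ker := fun k => ⟨1, Subtype.ext (by
    rw [pow_one, pow_two]
    exact hksq k.1 k.2)⟩
  -- the dihedral group
  obtain ⟨D, hD, hidx, hrD, hsD, hgen⟩ := H908.exists_dih (T := A7) Alt.card_A7 (by decide) (a := r) (b := s)
    (by decide +kernel) (by decide +kernel) s_not_mem (by decide +kernel) (by decide +kernel)
  obtain ⟨R, hR⟩ := hsurj r
  obtain ⟨S, hS⟩ := hsurj s
  have hcomm := H908.ker_of_dihedral (Y := P) hX.core.commutator_top (f := f) hsurj hkc hp2 hD hidx (a := R) (b := S)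
    (by rw [hR]; exact hrD) (by rw [hS]; exact hsD) (by rw [hR, hS]; exact hgen) (by rw [hR]; decide +kernel)
    (by rw [hR]; decide +kernel) (by rw [hR, hS]; decide +kernel) hz
  have hzc : z = ⁅S, R ^ 2⁆ := hcomm.resolve_left hz1
  set X : P := R ^ 2 with hXd
  have hfX : f X = t := by rw [hXd, map_pow, hR, pow_two, r_sq]
  have hSX : S * X = z * (X * S) := by rw [hzc, commutatorElement_def]; group
  have hzcen := hcen hz
  -- squares
  have hsq : ∀ u w : P, f (u * u) = 1 → IsConj (f u) (f w) → w * w = u * u := by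
    intro u w hu hc
    obtain ⟨g, hg⟩ := isConj_iff.1 hc
    obtain ⟨g, rfl⟩ := hsurj g
    have hk : f (w * (g * u * g⁻¹)⁻¹) = 1 := by
      rw [map_mul, map_inv, map_mul, map_mul, map_inv, hg, mul_inv_cancel]
    obtain ⟨k, hkd⟩ : ∃ k, k = w * (g * u * g⁻¹)⁻¹ := ⟨_, rfl⟩
    rw [← hkd] at hk
    have hw : w = k * (g * u * g⁻¹) := by rw [hkd]; group
    have hk2 := hksq k hk
    have hkx := hcen hk
    calc w * w = k * ((g * u * g⁻¹) * k) * (g * u * g⁻¹) := by rw [hw]; group
      _ = k * (k * (g * u * g⁻¹)) * (g * u * g⁻¹) := by rw [hkx]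
      _ = (k * k) * (g * (u * u) * g⁻¹) := by group
      _ = u * u := by rw [hk2, one_mul, hcen hu, mul_inv_cancel_right]
  have hSS : f (S * S) = 1 := by rw [map_mul, hS, s_sq]
  have h3 : X * X = S * S := hsq S X hSS (by rw [hS, hfX]; exact cj_t)
  have h4 : (S * X) * (S * X) = S * S := hsq S (S * X) hSS (by rw [hS, map_mul, hS, hfX]; exact cj_s_t)
  have h5 : S * S = z := by
    have h6 : X * S = z * (S * X) := by
      rw [hSX, ← mul_assoc, hzz, one_mul]
    calc S * S = (S * X) * (S * X) := h4.symm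
      _ = S * (X * S) * X := by group
      _ = S * (z * (S * X)) * X := by rw [h6]
      _ = z * ((S * S) * (X * X)) := by rw [← mul_assoc S z, hzcen S]; group
      _ = z * ((S * S) * (S * S)) := by rw [h3]
      _ = z := by rw [hksq _ hSS, mul_one]
  have hneg : ∀ v, (ofCx hX).σ z v = -v := by
    intro v
    rw [OT.σ_apply]
    change (algebraMap F (AlgebraicClosure F)).mapMatrix ((z : GL (Fin 10) F) : Matrix (Fin 10) (Fin 10) F) *ᵥ v = -v
    rw [hzm, map_neg, map_one, Matrix.neg_mulVec, Matrix.one_mulVec]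
  refine (ofCx hX).no_quat h2 (x := S) (y := X) (fun v => ?_) (fun v => ?_) (fun v => ?_)
  · rw [← mul_apply', h5, hneg]
  · rw [← mul_apply', h3, h5, hneg]
  · rw [← mul_apply', hSX, mul_apply', hneg, mul_apply']

/-- **`A₇` is never the socle of a residual core in dimension ten.** -/
theorem o10_a7 [Finite F] (hX : Cx p Q H P) (e : Soc P ≃* alternatingGroup (Fin 7)) : False := by
  classical
  have hinj := injective_of_A7 hX e
  have hsurj : Function.Surjective (e.toMonoidHom.comp (toSoc P)) := e.surjective.comp (toSoc_surjective P)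
  let E : P ≃* A7 := MulEquiv.ofBijective (e.toMonoidHom.comp (toSoc P)) ⟨hinj, hsurj⟩
  let h : OT F A7 := (ofCx hX).congr E.symm
  have h7 := h.seven_eq_zero
  have hcp := hX.char
  have hp : p = 7 := by
    have h1 : ((7 : ℕ) : F) = 0 := by exact_mod_cast h7
    rw [CharP.cast_eq_zero_iff F p] at h1
    exact (Nat.prime_dvd_prime_iff_eq hX.prime (by norm_num)).1 h1
  subst hp
  have h2 : (2 : F) ≠ 0 := by
    intro h2
    exact one_ne_zero (α := F) (by linear_combination h7 - 3 * h2)
  have h3 : (3 : F) ≠ 0 := by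
    intro h3
    exact one_ne_zero (α := F) (by linear_combination h7 - 2 * h3)
  have hχ : ∀ x : P, h.χ (E x) = H915.LD.tr (x : GL (Fin 10) F) := by
    intro x
    change ((ofCx hX).ρ (E.symm (E x)) : Matrix (Fin 10) (Fin 10) F).trace = _
    rw [E.symm_apply_apply]
    rfl
  let ψ : P →* GL (Fin 5) F := ((Lam.ψ7 h7).comp (alternatingGroup (Fin 7)).subtype).comp E.toMonoidHom
  have hψ : ∀ x : P, ψ x = Lam.ψ7 h7 ((E x : A7) : Perm (Fin 7)) := fun _ => rfl
  refine Lam.lam_false h2 h3 hX.hQ hX.hH hX.hc ψ (fun x => ?_) (fun x => Lam.ψ7_mem h7 _) (fun k hk => ?_)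
  · rw [← hχ, h.trace_formula, ← map_mul, hψ, hψ, H915.LD.tr, H915.LD.tr, Lam.ψ7_trace, Lam.ψ7_trace, map_mul]
    rfl
  · -- the automorphism of `A₇` induced by `k`
    let α : P ≃* P :=
      { toFun := fun x => ⟨k * x * k⁻¹, hX.hc.normal k hk x x.2⟩
        invFun := fun x => ⟨k⁻¹ * x * k, by
          have := hX.hc.normal k⁻¹ (inv_mem hk) x x.2
          rwa [inv_inv] at this⟩
        left_inv := fun x => Subtype.ext (by
          change k⁻¹ * (k * (x : GL (Fin 10) F) * k⁻¹) * k = x
          group)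
        right_inv := fun x => Subtype.ext (by
          change k * (k⁻¹ * (x : GL (Fin 10) F) * k) * k⁻¹ = x
          group)
        map_mul' := fun x y => Subtype.ext (by
          change k * ((x : GL (Fin 10) F) * y) * k⁻¹ = k * x * k⁻¹ * (k * y * k⁻¹)
          group) }
    obtain ⟨σ, hσ⟩ := (S2119.result 7 (by norm_num) (by norm_num)).2 (E.symm.trans (α.trans E))
    refine ⟨Lam.ψ7 h7 σ, Lam.ψ7_mem h7 σ, fun x y hxy => ?_⟩
    have h4 : α x = y := Subtype.ext hxy.symm
    have h5 : E y = (MulAut.conjNormal σ : MulAut A7) (E x) := by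
      rw [hσ]
      change E y = E (α (E.symm (E x)))
      rw [E.symm_apply_apply, h4]
    have h6 : ((E y : A7) : Perm (Fin 7)) = σ * ((E x : A7) : Perm (Fin 7)) * σ⁻¹ := by
      rw [h5, MulAut.conjNormal_apply]
    rw [hψ, hψ, h6, map_mul, map_mul, map_inv]

end Cfsg.Agent.H908.Ten
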