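import Cfsg.Agent.H906.TraceField

/-!
# Traces and `p`-regular elements (any dimension)

`trace_pow_char`: `tr(M ^ p) = tr(M) ^ p` in characteristic `p`.
`card_eq_of_reg`: all traces of `p`-regular elements in the prime field => the field is prime (no subfield).
`forms_of_reg`: `tr(h) ^ (p ^ b) = tr(h⁻¹)` for all `p`-regular `h` => a quadratic, symplectic or unitary form.
-/

set_option autoImplicit false
set_option linter.unusedSectionVars false

namespace Cfsg.Agent.H908

open Cfsg Cfsg.Geo Polynomial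
open scoped MatrixGroups Matrix
open Cfsg.Agent.H906 (realisable_of_trace exists_unitary_of_trace exists_bilinear_of_trace)

section

variable {ι : Type} [Fintype ι] [DecidableEq ι] {F : Type*} [Field F]

theorem charpoly_pow_char (p : ℕ) [hp : Fact p.Prime] [CharP F p] (M : Matrix ι ι F) :
    (M ^ p).charpoly = M.charpoly.map (frobenius F p) := by
  cases (isEmpty_or_nonempty ι).symm
  · apply Polynomial.expand_injective hp.out.pos
    rw [← Polynomial.map_expand, Polynomial.map_frobenius_expand]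
    unfold Matrix.charpoly
    have h1 : (Polynomial.expand F p) (Matrix.charmatrix (M ^ p)).det =
        (((Polynomial.expand F p : F[X] →+* F[X])).mapMatrix (Matrix.charmatrix (M ^ p))).det := by
      rw [← RingHom.map_det]
      rfl
    rw [h1, ← Matrix.det_pow]
    congr 1
    refine matPolyEquiv.injective ?_
    rw [matPolyEquiv_eq_X_pow_sub_C, map_pow, map_pow, Matrix.matPolyEquiv_charmatrix,
      sub_pow_char_of_commute]
    exact (C M).commute_X
  · have h1 : ∀ N : Matrix ι ι F, N.charpoly = 1 := fun N => by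
      unfold Matrix.charpoly
      exact Matrix.det_isEmpty
    rw [h1, h1, Polynomial.map_one]

theorem trace_pow_char (p : ℕ) [hp : Fact p.Prime] [CharP F p] (M : Matrix ι ι F) :
    (M ^ p).trace = M.trace ^ p := by
  cases isEmpty_or_nonempty ι
  · simp [Matrix.trace, zero_pow hp.out.ne_zero]
  · rw [Matrix.trace_eq_neg_charpoly_coeff, Matrix.trace_eq_neg_charpoly_coeff, charpoly_pow_char p,
      Polynomial.coeff_map, ← frobenius_def, map_neg]

theorem trace_pow_char_pow (p : ℕ) [hp : Fact p.Prime] [CharP F p] (M : Matrix ι ι F) (k : ℕ) :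
    (M ^ p ^ k).trace = M.trace ^ p ^ k := by
  induction k with
  | zero => simp
  | succ k ih => rw [pow_succ, pow_mul, trace_pow_char p, ih, ← pow_mul]

/-- There is an exponent `N` such that `g ↦ g ^ N` preserves traces and has `p`-regular values. -/
theorem exists_reg_pow [Finite F] (p : ℕ) [hp : Fact p.Prime] [CharP F p] :
    ∃ N : ℕ, ∀ g : GL ι F, ((g ^ N : GL ι F) : Matrix ι ι F).trace =
      (g : Matrix ι ι F).trace ∧ (orderOf (g ^ N)).Coprime p := by
  classical
  have := Fintype.ofFinite F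
  have hfinG : Finite (GL ι F) := inferInstance
  obtain ⟨b, hb0, hb⟩ := FiniteField.card F p
  set c := Nat.card (GL ι F) with hc
  refine ⟨(p ^ (b : ℕ)) ^ c, fun g => ⟨?_, ?_⟩⟩
  · rw [Units.val_pow_eq_pow_val, ← pow_mul, trace_pow_char_pow p, pow_mul, ← hb]
    exact FiniteField.pow_card_pow _ _
  · have ho : 0 < orderOf g := orderOf_pos g
    obtain ⟨a, o', hnd, ho'⟩ := Nat.exists_eq_pow_mul_and_not_dvd ho.ne' p hp.out.ne_one
    have hac : a ≤ c := by
      have h1 : a < p ^ a := Nat.lt_pow_self hp.out.one_lt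
      have h2 : p ^ a ≤ orderOf g := by
        rw [ho']
        exact Nat.le_mul_of_pos_right _ (Nat.pos_of_ne_zero (by rintro rfl; exact hnd (dvd_zero _)))
      have h3 : orderOf g ≤ c := Nat.le_of_dvd Nat.card_pos (orderOf_dvd_natCard g)
      omega
    have hdvd : p ^ a ∣ (p ^ (b : ℕ)) ^ c :=
      (pow_dvd_pow p hac).trans (pow_dvd_pow_of_dvd (dvd_pow_self p b.2.ne') c)
    obtain ⟨e, he⟩ := hdvd
    have h1 : (g ^ (p ^ (b : ℕ)) ^ c) ^ o' = 1 := by
      rw [← pow_mul, he, mul_right_comm, ← ho', pow_mul, pow_orderOf_eq_one, one_pow]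
    exact Nat.Coprime.coprime_dvd_left (orderOf_dvd_of_pow_eq_one h1)
      ((Nat.coprime_comm.1 ((Nat.Prime.coprime_iff_not_dvd hp.out).2 hnd)))

variable {P : Subgroup (GL ι F)}

/-- A trace identity `tr(g) ^ m = tr(g)` follows from `p`-regular elements. -/
theorem trace_of_reg [Finite F] (p : ℕ) [hp : Fact p.Prime] [CharP F p] (m : ℕ)
    (h : ∀ g ∈ P, (orderOf g).Coprime p → (g : Matrix ι ι F).trace ^ m = (g : Matrix ι ι F).trace) :
    ∀ g ∈ P, (g : Matrix ι ι F).trace ^ m = (g : Matrix ι ι F).trace := by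
  obtain ⟨N, hN⟩ := exists_reg_pow (ι := ι) (F := F) p
  intro g hg
  obtain ⟨h1, h2⟩ := hN g
  have := h _ (P.pow_mem hg N) h2
  rwa [h1] at this

/-- A trace identity `tr(g) ^ m = tr(g⁻¹)` follows from `p`-regular elements. -/
theorem trace_inv_of_reg [Finite F] (p : ℕ) [hp : Fact p.Prime] [CharP F p] (m : ℕ)
    (h : ∀ g ∈ P, (orderOf g).Coprime p →
      (g : Matrix ι ι F).trace ^ m = ((g⁻¹ : GL ι F) : Matrix ι ι F).trace) :
    ∀ g ∈ P, (g : Matrix ι ι F).trace ^ m = ((g⁻¹ : GL ι F) : Matrix ι ι F).trace := by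
  obtain ⟨N, hN⟩ := exists_reg_pow (ι := ι) (F := F) p
  intro g hg
  obtain ⟨h1, h2⟩ := hN g
  obtain ⟨h3, -⟩ := hN g⁻¹
  have := h _ (P.pow_mem hg N) h2
  rwa [h1, ← inv_pow, h3] at this

theorem pow_eq_of_no_subfield [Finite F] (hP : ActsAbsolutelyIrreducibly (matrixSet P))
    (hns : ∀ F₀ : Subfield F, F₀ ≠ ⊤ → ¬ RealisableOver F₀ (matrixSet P))
    (p : ℕ) [hp : Fact p.Prime] [CharP F p] (a : ℕ)
    (htr : ∀ g ∈ P, (g : Matrix ι ι F).trace ^ p ^ a = (g : Matrix ι ι F).trace)
    (x : F) : x ^ p ^ a = x := by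
  have : ExpChar F p := ExpChar.prime hp.out
  set F₀ : Subfield F := RingHom.eqLocusField (iterateFrobenius F p a) (RingHom.id F) with hF₀
  have hmem : ∀ x : F, x ∈ F₀ ↔ x ^ p ^ a = x := fun x => Iff.rfl
  have h1 : F₀ = ⊤ := by
    by_contra hne
    exact hns F₀ hne (realisable_of_trace hP F₀ (fun g hg => (hmem _).2 (htr g hg)))
  rw [← hmem, h1]
  trivial

/-- `x ^ (p ^ a) = x` for all `x` bounds the field. -/
theorem card_le_of_pow_eq [Finite F] {m : ℕ} (hm : 2 ≤ m) (h : ∀ x : F, x ^ m = x) :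
    Nat.card F ≤ m := by
  classical
  have := Fintype.ofFinite F
  have hne : (X ^ m - X : F[X]) ≠ 0 := FiniteField.X_pow_card_sub_X_ne_zero F (by omega)
  have h1 : (Finset.univ : Finset F) ⊆ (X ^ m - X : F[X]).roots.toFinset := by
    intro x _
    rw [Multiset.mem_toFinset, Polynomial.mem_roots hne]
    simp [h x]
  have h2 := Finset.card_le_card h1
  rw [Finset.card_univ] at h2
  rw [Nat.card_eq_fintype_card]
  refine h2.trans ((Multiset.toFinset_card_le _).trans ((Polynomial.card_roots' _).trans ?_))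
  rw [FiniteField.X_pow_card_sub_X_natDegree_eq F (by omega)]

theorem card_eq_of_reg [Finite F] (hP : ActsAbsolutelyIrreducibly (matrixSet P))
    (hns : ∀ F₀ : Subfield F, F₀ ≠ ⊤ → ¬ RealisableOver F₀ (matrixSet P))
    (p : ℕ) [hp : Fact p.Prime] [CharP F p]
    (htr : ∀ g ∈ P, (orderOf g).Coprime p → (g : Matrix ι ι F).trace ^ p = (g : Matrix ι ι F).trace) :
    Nat.card F = p := by
  classical
  have h1 := pow_eq_of_no_subfield hP hns p 1 (by
    rw [pow_one]
    exact trace_of_reg p p htr)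
  rw [pow_one] at h1
  have h2 := card_le_of_pow_eq hp.out.two_le h1
  have := Fintype.ofFinite F
  obtain ⟨b, hb0, hb⟩ := FiniteField.card F p
  rw [Nat.card_eq_fintype_card, hb] at h2 ⊢
  have h3 : p ≤ p ^ (b : ℕ) := Nat.le_self_pow b.2.ne' p
  omega

/-- a real absolutely irreducible group in odd characteristic fixes a quadratic or a symplectic form. -/
theorem quad_or_symp_of_real (h2 : (2 : F) ≠ 0) [Nonempty ι] (hP : ActsAbsolutelyIrreducibly (matrixSet P))
    (htr : ∀ g ∈ P, ((g⁻¹ : GL ι F) : Matrix ι ι F).trace = ((g : Matrix ι ι F).trace)) :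
    (∃ Q : (ι → F) → F, IsNondegenerateQuadraticForm Q ∧ FixesQuadForm (matrixSet P) Q) ∨
    (∃ f : (ι → F) → (ι → F) → F, IsSymplecticForm f ∧ FixesForm (matrixSet P) f) := by
  obtain ⟨f, hf, hn, hfix, hsym | hskew⟩ := exists_bilinear_of_trace hP htr
  · left
    have hpol : ∀ u v, QuadraticMap.polar (fun v => f v v * 2⁻¹) u v = f u v := by
      intro u v
      simp only [QuadraticMap.polar, hf.add_left, hf.add_right]
      rw [hsym v u]
      field_simp
      ring
    refine ⟨fun v => f v v * 2⁻¹, ⟨?_, ?_, ?_⟩, ?_⟩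
    · intro c v
      simp only [hf.smul_left, hf.smul_right]
      ring
    · have : QuadraticMap.polar (fun v => f v v * 2⁻¹) = f := by
        funext u v; exact hpol u v
      rw [this]; exact hf
    · have : QuadraticMap.polar (fun v => f v v * 2⁻¹) = f := by
        funext u v; exact hpol u v
      rw [this]; exact hn
    · intro s hs v
      simp only
      rw [hfix s hs]
  · right
    refine ⟨f, ⟨hf, hskew, ?_, hn⟩, hfix⟩
    intro v
    have := hskew v v
    have h3 : (2 : F) * f v v = 0 := by linear_combination this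
    exact (mul_eq_zero.1 h3).resolve_left h2

/-- `tr(h) ^ (p ^ b) = tr(h⁻¹)` for all `p`-regular `h`. -/
theorem forms_of_reg [Finite F] (h2 : (2 : F) ≠ 0) [Nonempty ι] (hP : ActsAbsolutelyIrreducibly (matrixSet P))
    (p : ℕ) [hp : Fact p.Prime] [CharP F p] (b : ℕ)
    (hns : ∀ F₀ : Subfield F, F₀ ≠ ⊤ → ¬ RealisableOver F₀ (matrixSet P))
    (htr : ∀ g ∈ P, (orderOf g).Coprime p → (g : Matrix ι ι F).trace ^ p ^ b =
      ((g⁻¹ : GL ι F) : Matrix ι ι F).trace) :
    (∀ x : F, x ^ (p ^ b * p ^ b) = x) ∧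
    (((∃ Q : (ι → F) → F, IsNondegenerateQuadraticForm Q ∧ FixesQuadForm (matrixSet P) Q) ∨
        (∃ f : (ι → F) → (ι → F) → F, IsSymplecticForm f ∧ FixesForm (matrixSet P) f)) ∨
      ((∃ x : F, x ^ p ^ b ≠ x) ∧ ∃ (σ : F ≃+* F) (f : (ι → F) → (ι → F) → F),
        (∀ x, σ x = x ^ p ^ b) ∧ IsUnitaryForm σ f ∧ FixesForm (matrixSet P) f)) := by
  have htr' := trace_inv_of_reg p (p ^ b) htr
  have hexp : ExpChar F p := ExpChar.prime hp.out
  have : PerfectRing F p := PerfectRing.ofFiniteOfIsReduced p F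
  have h1 : ∀ x : F, x ^ (p ^ b * p ^ b) = x := by
    rw [← pow_add]
    apply pow_eq_of_no_subfield hP hns
    intro g hg
    rw [pow_add, pow_mul, htr' g hg, htr' g⁻¹ (P.inv_mem hg), inv_inv]
  refine ⟨h1, ?_⟩
  by_cases hall : ∀ x : F, x ^ p ^ b = x
  · left
    exact quad_or_symp_of_real h2 hP (fun g hg => by rw [← htr' g hg, hall])
  · right
    push Not at hall
    refine ⟨hall, iterateFrobeniusEquiv F p b, ?_⟩
    have hσ : ∀ x, iterateFrobeniusEquiv F p b x = x ^ p ^ b := fun x => iterateFrobeniusEquiv_def _ _ _ _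
    obtain ⟨f, hf, hfix⟩ := exists_unitary_of_trace hP (iterateFrobeniusEquiv F p b) (by
      intro h
      obtain ⟨x, hx⟩ := hall
      apply hx
      rw [← hσ, h]; rfl) (by
      intro a
      rw [hσ, hσ, ← pow_mul, h1]) (by
      intro g hg
      rw [hσ, htr' g hg])
    exact ⟨f, hσ, hf, hfix⟩

end

end Cfsg.Agent.H908
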