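import Cfsg.Agent.GH.Cov.QuatLift

/-!
# Central 2-extensions of perfect groups with a Sylow 2-subgroup of order 4 or dihedral of order 8

The kernel is generated by one commutator (so it has order at most two, and it is trivial when the lifts of a four-group commute).
-/

set_option autoImplicit false

namespace Cfsg.Agent.H908

open Subgroup
open scoped commutatorElement

variable {Y B : Type*} [Group Y] [Group B]

/-- The kernel lies in the commutator subgroup of a Sylow 2-subgroup. -/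
theorem ker_le_commutator [Finite Y] (hperf : commutator Y = ⊤)
    {f : Y →* B} (hc : f.ker ≤ center Y) (h2 : IsPGroup 2 f.ker) (P : Sylow 2 Y) {z : Y}
    (hz : f z = 1) : z ∈ ⁅(P : Subgroup Y), (P : Subgroup Y)⁆ := by
  have : Fact (Nat.Prime 2) := ⟨Nat.prime_two⟩
  have hzP : z ∈ (P : Subgroup Y) := Cfsg.Agent.GH.Cov.QuatLift.ker_le_sylow h2 P hz
  let z' : (P : Subgroup Y) := ⟨z, hzP⟩
  have hA : ∀ a : Abelianization (P : Subgroup Y), ∃ n : ℕ, a ^ 2 ^ n = 1 := by
    intro a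
    obtain ⟨x, rfl⟩ := QuotientGroup.mk_surjective a
    obtain ⟨n, hn⟩ := P.isPGroup' x
    refine ⟨n, ?_⟩
    have h1 : (Abelianization.of x) ^ 2 ^ n = 1 := by rw [← map_pow, hn, map_one]
    exact h1
  have h1 := Cfsg.Agent.Transfer.CentralTransfer.transfer_of_mem_center'
    (Abelianization.of (G := (P : Subgroup Y))) z' (hc hz)
  have h3 : Abelianization.of z' = 1 := by
    obtain ⟨n, hn⟩ := hA (Abelianization.of z')
    refine Cfsg.Agent.GH.Cov.Lft.eq_one_of_odd_two (m := (P : Subgroup Y).index) ?_ ?_ hn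
    · rw [← Nat.not_even_iff_odd, even_iff_two_dvd]
      exact P.not_dvd_index
    · rw [← h1]
      have h4 : ∀ (g : Y →* Abelianization (P : Subgroup Y)) (y : Y), g y = 1 := by
        intro g y
        have h5 : y ∈ commutator Y := by rw [hperf]; trivial
        have h6 : commutator Y ≤ g.ker := Abelianization.commutator_subset_ker g
        exact h6 h5
      exact h4 _ _
  have h4 : z' ∈ commutator (P : Subgroup Y) := by
    rw [← Abelianization.ker_of]
    exact h3
  rw [← map_subtype_commutator]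
  exact ⟨z', h4, rfl⟩

/-- The version for the preimage of a Sylow 2-subgroup. -/
theorem mem_commutator_comap [Finite Y] (hperf : commutator Y = ⊤) {f : Y →* B} (hs : Function.Surjective f)
    (hc : f.ker ≤ center Y) (h2 : IsPGroup 2 f.ker) {D : Subgroup B} (hD : IsPGroup 2 D) (hidx : ¬ 2 ∣ D.index)
    {z : Y} (hz : f z = 1) : z ∈ ⁅D.comap f, D.comap f⁆ := by
  have : Fact (Nat.Prime 2) := ⟨Nat.prime_two⟩
  have h1 : IsPGroup 2 (D.comap f) := hD.comap_of_ker_isPGroup f h2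
  have h3 : ¬ 2 ∣ (D.comap f).index := by rwa [Subgroup.index_comap_of_surjective _ hs]
  have := ker_le_commutator hperf hc h2 (h1.toSylow h3) hz
  exact this

/-- If `D` is generated by the commuting-modulo-`N` elements then its commutator is in `N`. -/
theorem commutator_le_of {S N : Subgroup Y} {K : Subgroup Y} (hK : K ≤ center Y) {a b : Y}
    (hN : ∀ s ∈ S, ∀ n ∈ N, s * n * s⁻¹ ∈ N)
    (hgen : ∀ s ∈ S, ∃ (i j : ℕ), ∃ k ∈ K, s = k * (a ^ i * b ^ j)) (ha : a ∈ S) (hb : b ∈ S)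
    (hab : ⁅b, a⁆ ∈ N) : ⁅S, S⁆ ≤ N := by
  -- elements commuting with `y` modulo `N`
  have key : ∀ y ∈ S, ∀ x ∈ S, ∀ x' ∈ S, ⁅x, y⁆ ∈ N → ⁅x', y⁆ ∈ N → ⁅x * x', y⁆ ∈ N := by
    intro y _ x hx x' _ h1 h2
    have : ⁅x * x', y⁆ = (x * ⁅x', y⁆ * x⁻¹) * ⁅x, y⁆ := by
      rw [commutatorElement_def, commutatorElement_def, commutatorElement_def]; group
    rw [this]
    exact N.mul_mem (hN x hx _ h2) h1
  have keypow : ∀ y ∈ S, ∀ x ∈ S, ⁅x, y⁆ ∈ N → ∀ n : ℕ, ⁅x ^ n, y⁆ ∈ N := by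
    intro y hy x hx h1 n
    induction n with
    | zero => rw [pow_zero, commutatorElement_one_left]; exact N.one_mem
    | succ n ih =>
      rw [pow_succ]
      exact key y hy _ (S.pow_mem hx n) _ hx ih h1
  have keycen : ∀ y : Y, ∀ k ∈ K, ⁅k, y⁆ ∈ N := by
    intro y k hk
    have h1 := Subgroup.mem_center_iff.1 (hK hk) y
    rw [commutatorElement_def, ← h1, mul_assoc, mul_assoc, mul_inv_cancel_left, mul_inv_cancel]
    exact N.one_mem
  have kK : ∀ y ∈ S, ⁅a, y⁆ ∈ N → ⁅b, y⁆ ∈ N → ∀ s ∈ S, ⁅s, y⁆ ∈ N := by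
    intro y hy h1 h2 s hs
    obtain ⟨i, j, k, hk, rfl⟩ := hgen s hs
    have hij : a ^ i * b ^ j ∈ S := S.mul_mem (S.pow_mem ha _) (S.pow_mem hb _)
    have hkS : k ∈ S := by
      have := S.mul_mem hs (S.inv_mem hij)
      rwa [mul_inv_cancel_right] at this
    exact key y hy k hkS _ hij (keycen y k hk)
      (key y hy _ (S.pow_mem ha _) _ (S.pow_mem hb _) (keypow y hy a ha h1 i) (keypow y hy b hb h2 j))
  have hsymm : ∀ x y : Y, ⁅x, y⁆ ∈ N → ⁅y, x⁆ ∈ N := by
    intro x y h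
    rw [← commutatorElement_inv]; exact N.inv_mem h
  have h1 : ∀ s ∈ S, ⁅s, a⁆ ∈ N := kK a ha (by rw [commutatorElement_self]; exact N.one_mem) hab
  have h2 : ∀ s ∈ S, ⁅s, b⁆ ∈ N := kK b hb (hsymm _ _ hab) (by rw [commutatorElement_self]; exact N.one_mem)
  rw [Subgroup.commutator_le]
  intro x hx y hy
  exact kK y hy (hsymm _ _ (h1 y hy)) (hsymm _ _ (h2 y hy)) x hx

/-- **Klein four Sylow 2-subgroup**: the kernel is `{1, [b, a]}`. -/
theorem ker_of_klein [Finite Y] (hperf : commutator Y = ⊤) {f : Y →* B} (hs : Function.Surjective f)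
    (hc : f.ker ≤ center Y) (h2 : IsPGroup 2 f.ker) {D : Subgroup B} (hD : IsPGroup 2 D) (hidx : ¬ 2 ∣ D.index)
    {a b : Y} (ha : f a ∈ D) (hb : f b ∈ D) (hgen : ∀ t ∈ D, ∃ i j : ℕ, t = f a ^ i * f b ^ j)
    (ha2 : f a ^ 2 = 1) (hab : f a * f b = f b * f a) {z : Y} (hz : f z = 1) : z = 1 ∨ z = ⁅b, a⁆ := by
  set c := ⁅b, a⁆ with hcdef
  have hcz : ∀ y, y * c = c * y := by
    have : c ∈ f.ker := by
      rw [MonoidHom.mem_ker, hcdef, map_commutatorElement, commutatorElement_def, ← hab]; group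
    exact Subgroup.mem_center_iff.1 (hc this)
  have ha2z : ∀ y, y * a ^ 2 = a ^ 2 * y := by
    have : a ^ 2 ∈ f.ker := by rw [MonoidHom.mem_ker, map_pow, ha2]
    exact Subgroup.mem_center_iff.1 (hc this)
  have hba : b * a * b⁻¹ = c * a := by rw [hcdef, commutatorElement_def]; group
  have hc2 : c * c = 1 := by
    have h1 : b * a ^ 2 * b⁻¹ = a ^ 2 := by rw [ha2z]; group
    have h2 : b * a ^ 2 * b⁻¹ = (c * a) * (c * a) := by rw [← hba, pow_two]; group
    have h3 : (c * a) * (c * a) = (c * c) * a ^ 2 := by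
      rw [mul_assoc, ← mul_assoc a c a, hcz a, pow_two]; group
    rw [h1, h3] at h2
    exact (mul_eq_right.1 h2.symm)
  have hmem := mem_commutator_comap hperf hs hc h2 hD hidx hz
  have hle : ⁅D.comap f, D.comap f⁆ ≤ zpowers c := by
    refine commutator_le_of (K := f.ker) hc (a := a) (b := b) ?_ ?_ ha hb (mem_zpowers c)
    · intro s _ n hn
      obtain ⟨k, rfl⟩ := Subgroup.mem_zpowers_iff.1 hn
      have h1 : s * c ^ k * s⁻¹ = c ^ k := by
        have : Commute s (c ^ k) := Commute.zpow_right (hcz s) k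
        rw [this.eq]; group
      rw [h1]; exact hn
    · intro s hs'
      obtain ⟨i, j, hij⟩ := hgen (f s) hs'
      refine ⟨i, j, s * (a ^ i * b ^ j)⁻¹, ?_, by group⟩
      rw [MonoidHom.mem_ker, map_mul, map_inv, map_mul, map_pow, map_pow, ← hij, mul_inv_cancel]
  obtain ⟨k, hk⟩ := Subgroup.mem_zpowers_iff.1 (hle hmem)
  rcases Int.even_or_odd' k with ⟨m, hm | hm⟩
  · left
    rw [← hk, hm, zpow_mul, zpow_two, hc2, one_zpow]
  · right
    rw [← hk, hm, zpow_add, zpow_mul, zpow_two, hc2, one_zpow, zpow_one, one_mul]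

/-- **Dihedral Sylow 2-subgroup of order eight**: the kernel is `{1, [b, a²]}`. -/
theorem ker_of_dihedral [Finite Y] (hperf : commutator Y = ⊤) {f : Y →* B} (hs : Function.Surjective f)
    (hc : f.ker ≤ center Y) (h2 : IsPGroup 2 f.ker) {D : Subgroup B} (hD : IsPGroup 2 D) (hidx : ¬ 2 ∣ D.index)
    {a b : Y} (ha : f a ∈ D) (hb : f b ∈ D) (hgen : ∀ t ∈ D, ∃ i j : ℕ, t = f a ^ i * f b ^ j)
    (ha2 : f a ^ 2 ≠ 1) (ha4 : f a ^ 4 = 1) (hab : f b * f a * (f b)⁻¹ = (f a)⁻¹) {z : Y} (hz : f z = 1) :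
    z = 1 ∨ z = ⁅b, a ^ 2⁆ := by
  set c := ⁅b, a⁆ with hcdef
  have hfc : f c = f a ^ 2 := by
    rw [hcdef, map_commutatorElement, commutatorElement_def, hab, ← mul_inv_rev, ← pow_two,
      inv_eq_iff_mul_eq_one, ← pow_add, ha4]
  have hba : b * a * b⁻¹ = c * a := by rw [hcdef, commutatorElement_def]; group
  -- `c = z₀ a²`
  obtain ⟨z₀, hz₀, hcz₀⟩ : ∃ z₀ ∈ f.ker, c = z₀ * a ^ 2 := by
    refine ⟨c * (a ^ 2)⁻¹, ?_, by group⟩
    rw [MonoidHom.mem_ker, map_mul, map_inv, map_pow, hfc, mul_inv_cancel]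
  have hz₀c : ∀ y, y * z₀ = z₀ * y := Subgroup.mem_center_iff.1 (hc hz₀)
  have hca : c * a = a * c := by
    rw [hcz₀, ← mul_assoc, hz₀c a, mul_assoc, mul_assoc, ← pow_succ', ← pow_succ]
  have hc2k : c * c ∈ f.ker := by
    rw [MonoidHom.mem_ker, map_mul, hfc, ← pow_add, ha4]
  have hc2c : ∀ y, y * (c * c) = (c * c) * y := Subgroup.mem_center_iff.1 (hc hc2k)
  have hba2 : b * a ^ 2 * b⁻¹ = c * c * a ^ 2 := by
    calc b * a ^ 2 * b⁻¹ = (b * a * b⁻¹) * (b * a * b⁻¹) := by rw [pow_two]; group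
      _ = (c * a) * (c * a) := by rw [hba]
      _ = c * (a * c) * a := by group
      _ = c * (c * a) * a := by rw [hca]
      _ = c * c * a ^ 2 := by rw [pow_two]; group
  have hcomm : ⁅b, a ^ 2⁆ = c * c := by
    rw [commutatorElement_def, hba2]; group
  have hbc : b * c * b⁻¹ = (c * c) * c := by
    calc b * c * b⁻¹ = b * (z₀ * a ^ 2) * b⁻¹ := by rw [← hcz₀]
      _ = (b * z₀) * a ^ 2 * b⁻¹ := by group
      _ = z₀ * (b * a ^ 2 * b⁻¹) := by rw [hz₀c]; group
      _ = z₀ * (c * c * a ^ 2) := by rw [hba2]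
      _ = (z₀ * (c * c)) * a ^ 2 := by group
      _ = (c * c) * (z₀ * a ^ 2) := by rw [hc2c]; group
      _ = (c * c) * c := by rw [← hcz₀]
  have hc4 : (c * c) * (c * c) = 1 := by
    have h1 : b * (c * c) * b⁻¹ = c * c := by rw [hc2c]; group
    have h3 : b * (c * c) * b⁻¹ = ((c * c) * c) * ((c * c) * c) := by rw [← hbc]; group
    rw [h1] at h3
    have h5 : ((c * c) * c) * ((c * c) * c) = ((c * c) * (c * c)) * (c * c) := by group
    rw [h5] at h3
    exact (mul_eq_right.1 h3.symm)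
  rw [hcomm]
  have hmem := mem_commutator_comap hperf hs hc h2 hD hidx hz
  have hle : ⁅D.comap f, D.comap f⁆ ≤ zpowers c := by
    refine commutator_le_of (K := f.ker) hc (a := a) (b := b) ?_ ?_ ha hb (mem_zpowers c)
    · have hmap : ∀ s : Y, s * c * s⁻¹ ∈ zpowers c → ∀ n ∈ zpowers c, s * n * s⁻¹ ∈ zpowers c := by
        intro s h n hn
        obtain ⟨k, rfl⟩ := Subgroup.mem_zpowers_iff.1 hn
        rw [← conj_zpow]
        exact (zpowers c).zpow_mem h k
      intro s hs'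
      apply hmap
      obtain ⟨i, j, hij⟩ := hgen (f s) hs'
      have hsb : ∀ j : ℕ, b ^ j * c * (b ^ j)⁻¹ ∈ zpowers c := by
        intro j
        induction j with
        | zero => simp
        | succ j ih =>
          have : b ^ (j + 1) * c * (b ^ (j + 1))⁻¹ = b * (b ^ j * c * (b ^ j)⁻¹) * b⁻¹ := by
            rw [pow_succ']; group
          rw [this]
          refine hmap b ?_ _ ih
          rw [hbc]
          exact Subgroup.mul_mem _ (Subgroup.mul_mem _ (mem_zpowers c) (mem_zpowers c)) (mem_zpowers c)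
      have hsa : ∀ i : ℕ, ∀ n ∈ zpowers c, a ^ i * n * (a ^ i)⁻¹ ∈ zpowers c := by
        intro i
        apply hmap
        have : a ^ i * c * (a ^ i)⁻¹ = c := by
          have h1 : Commute (a ^ i) c := Commute.pow_left (show Commute a c from hca.symm) i
          rw [h1.eq]; group
        rw [this]; exact mem_zpowers c
      set k := s * (a ^ i * b ^ j)⁻¹ with hk
      have hkk : k ∈ f.ker := by
        rw [MonoidHom.mem_ker, hk, map_mul, map_inv, map_mul, map_pow, map_pow, ← hij, mul_inv_cancel]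
      have hkc : ∀ y, y * k = k * y := Subgroup.mem_center_iff.1 (hc hkk)
      have hs2 : s = k * (a ^ i * b ^ j) := by rw [hk]; group
      have : s * c * s⁻¹ = a ^ i * (b ^ j * c * (b ^ j)⁻¹) * (a ^ i)⁻¹ := by
        rw [hs2]
        calc k * (a ^ i * b ^ j) * c * (k * (a ^ i * b ^ j))⁻¹
            = k * ((a ^ i * b ^ j) * c * (a ^ i * b ^ j)⁻¹) * k⁻¹ := by group
          _ = ((a ^ i * b ^ j) * c * (a ^ i * b ^ j)⁻¹) * k * k⁻¹ := by rw [← hkc]
          _ = _ := by group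
      rw [this]
      exact hsa i _ (hsb j)
    · intro s hs'
      obtain ⟨i, j, hij⟩ := hgen (f s) hs'
      refine ⟨i, j, s * (a ^ i * b ^ j)⁻¹, ?_, by group⟩
      rw [MonoidHom.mem_ker, map_mul, map_inv, map_mul, map_pow, map_pow, ← hij, mul_inv_cancel]
  obtain ⟨k, hk⟩ := Subgroup.mem_zpowers_iff.1 (hle hmem)
  -- `k` is even
  rcases Int.even_or_odd' k with ⟨m, hm | hm⟩
  · have h1 : z = (c * c) ^ m := by rw [← hk, hm, zpow_mul, zpow_two]
    rcases Int.even_or_odd' m with ⟨m', hm' | hm'⟩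
    · left
      rw [h1, hm', zpow_mul, zpow_two, hc4, one_zpow]
    · right
      rw [h1, hm', zpow_add, zpow_mul, zpow_two, hc4, one_zpow, zpow_one, one_mul]
  · exfalso
    apply ha2
    have h1 : f (c ^ k) = f c := by
      rw [hm, zpow_add, zpow_mul, zpow_one, map_mul, map_zpow, zpow_two, MonoidHom.mem_ker.1 hc2k, one_zpow, one_mul]
    rw [← hfc, ← h1, hk, hz]

end Cfsg.Agent.H908
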