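import Cfsg.Agent.H908.Lift
import Cfsg.Agent.H908.DihCov
import Cfsg.Agent.H908.TrFrob

/-!
# Perfect groups of 4×4 matrices modulo scalars, odd characteristic

`Cov P φ`: `φ : P →* T` is the quotient modulo scalars.
-/

set_option autoImplicit false
set_option linter.unusedSectionVars false

namespace Cfsg.Agent.H908

open Cfsg Cfsg.Geo
open scoped MatrixGroups commutatorElement

variable {F : Type*} [Field F] {T : Type*} [Group T] {P : Subgroup (GL (Fin 4) F)}

/-- the matrix of an element of `P` -/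
def mt (P : Subgroup (GL (Fin 4) F)) : P →* Matrix (Fin 4) (Fin 4) F :=
  (Units.coeHom (Matrix (Fin 4) (Fin 4) F)).comp P.subtype

theorem mt_apply (x : P) : mt P x = ((x : GL (Fin 4) F) : Matrix (Fin 4) (Fin 4) F) := rfl

theorem mt_injective : Function.Injective (mt P) := by
  intro x y h
  exact Subtype.ext (Units.ext h)

/-- the trace -/
def tr (x : P) : F := (mt P x).trace

theorem tr_conj (y x : P) : tr (y * x * y⁻¹) = tr x := by
  unfold tr
  rw [map_mul, Matrix.trace_mul_comm, ← map_mul, inv_mul_cancel_left]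

theorem tr_of_isConj {x y : P} (h : IsConj x y) : tr x = tr y := by
  obtain ⟨c, hc⟩ := isConj_iff.1 h
  rw [← hc, tr_conj]

/-- `φ` is the quotient map of `P` modulo scalars, in dimension four. -/
structure Cov (P : Subgroup (GL (Fin 4) F)) (φ : P →* T) : Prop where
  surj : Function.Surjective φ
  ker : ∀ x : P, φ x = 1 ↔ ∃ c : F, mt P x = c • (1 : Matrix (Fin 4) (Fin 4) F)
  perf : commutator P = ⊤

/-- `P` has centre `{±1}` (or trivial). -/
def Pm (φ : P →* T) : Prop := ∀ x : P, φ x = 1 → mt P x = 1 ∨ mt P x = -1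

theorem Pm.sq {φ : P →* T} (hp : Pm φ) {x : P} (hx : φ x = 1) : x * x = 1 := by
  apply mt_injective
  rw [map_mul, map_one]
  rcases hp x hx with h | h <;> rw [h] <;> simp

namespace Cov

variable {φ : P →* T} (h : Cov P φ)

include h

theorem det (x : P) : (mt P x).det = 1 := by
  have h1 : x ∈ commutator P := by rw [h.perf]; trivial
  have h2 : commutator P ≤ ((Matrix.GeneralLinearGroup.det (n := Fin 4) (R := F)).comp P.subtype).ker :=
    Abelianization.commutator_subset_ker _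
  have h3 := h2 h1
  rw [MonoidHom.mem_ker] at h3
  exact congrArg Units.val h3

theorem pow_four {x : P} {c : F} (hx : mt P x = c • (1 : Matrix (Fin 4) (Fin 4) F)) : c ^ 4 = 1 := by
  have := h.det x
  rwa [hx, Matrix.det_smul, Matrix.det_one, mul_one, Fintype.card_fin] at this

theorem central {x : P} (hx : φ x = 1) (y : P) : y * x = x * y := by
  obtain ⟨c, hc⟩ := (h.ker x).1 hx
  apply mt_injective
  rw [map_mul, map_mul, hc, mul_smul_comm, smul_mul_assoc, one_mul, mul_one]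

theorem ker_le_center : φ.ker ≤ Subgroup.center P := fun _ hx =>
  Subgroup.mem_center_iff.2 fun y => h.central hx y

theorem ker_pow {x : P} (hx : φ x = 1) : x ^ 4 = 1 := by
  obtain ⟨c, hc⟩ := (h.ker x).1 hx
  apply mt_injective
  rw [map_pow, hc, smul_pow, one_pow, h.pow_four hc, one_smul, map_one]

theorem isPGroup_ker : IsPGroup 2 φ.ker := fun x => ⟨2, Subtype.ext (h.ker_pow x.2)⟩

variable [Finite F]

omit h in
theorem finite_P : Finite P := by
  classical
  have := Fintype.ofFinite F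
  infer_instance

theorem coprime_of_odd {n : ℕ} (hn : Odd n) : (Nat.card φ.ker).Coprime n := by
  have := finite_P (P := P)
  have hf : Fact (Nat.Prime 2) := ⟨Nat.prime_two⟩
  obtain ⟨k, hk⟩ := IsPGroup.iff_card.1 h.isPGroup_ker
  rw [hk]
  exact Nat.Coprime.pow_left k (Nat.coprime_two_left.2 hn)

theorem conj_lift {y g k : P} (h1 : φ (y * g * y⁻¹) = φ k) (hg : Odd (orderOf g)) (hk : Odd (orderOf k)) :
    y * g * y⁻¹ = k := by
  have := finite_P (P := P)
  exact H908.conj_lift h.ker_le_center h1 (h.coprime_of_odd hg) (h.coprime_of_odd hk)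

theorem commute_lift {y g : P} (h1 : φ y * φ g = φ g * φ y) (hg : Odd (orderOf g)) : y * g = g * y := by
  have := finite_P (P := P)
  exact H908.commute_lift h.ker_le_center h1 (h.coprime_of_odd hg)

theorem exists_lift (t : T) (ht : Odd (orderOf t)) : ∃ g : P, φ g = t ∧ orderOf g = orderOf t := by
  have := finite_P (P := P)
  exact H908.exists_lift h.surj t (h.coprime_of_odd ht)

omit [Finite F] in
/-- lifts of commuting elements, one of which is an involution -/
theorem comm_or_anti {x y : P} (hxy : φ x * φ y = φ y * φ x) (hx : φ x * φ x = 1) :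
    mt P x * mt P y = mt P y * mt P x ∨ mt P x * mt P y = -(mt P y * mt P x) := by
  have h1 : φ ⁅x, y⁆ = 1 := by
    rw [map_commutatorElement, commutatorElement_eq_one_iff_mul_comm, hxy]
  obtain ⟨c, hc⟩ := (h.ker _).1 h1
  have h2 : x * y = ⁅x, y⁆ * (y * x) := by rw [commutatorElement_def]; group
  have h3 : mt P x * mt P y = c • (mt P y * mt P x) := by
    rw [← map_mul, h2, map_mul, hc, smul_mul_assoc, one_mul, map_mul]
  have h4 : x * x * y = y * (x * x) := by
    have : φ (x * x) = 1 := by rw [map_mul, hx]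
    exact (h.central this y).symm
  have h5 : c * c = 1 := by
    have h6 : mt P x * mt P x * mt P y = (c * c) • (mt P y * (mt P x * mt P x)) := by
      rw [mul_assoc, h3, mul_smul_comm, ← mul_assoc, h3, smul_mul_assoc, smul_smul, mul_assoc]
    have h7 : mt P x * mt P x * mt P y = mt P y * (mt P x * mt P x) := by
      rw [← map_mul, ← map_mul, h4, map_mul]
    rw [h7] at h6
    have h8 : (mt P (y * (x * x))) * mt P ((y * (x * x))⁻¹) = 1 := by rw [← map_mul, mul_inv_cancel, map_one]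
    have h9 : (1 : Matrix (Fin 4) (Fin 4) F) = (c * c) • 1 := by
      have := congrArg (fun M => M * mt P ((y * (x * x))⁻¹)) h6
      rw [smul_mul_assoc, ← map_mul, ← map_mul, h8] at this
      exact this
    have h10 := congrFun (congrFun h9 0) 0
    simpa using h10.symm
  rcases mul_self_eq_one_iff.1 h5 with h6 | h6
  · left; rw [h3, h6, one_smul]
  · right; rw [h3, h6, neg_one_smul]

omit [Finite F] in
theorem tr_zero_of_anti (h2 : (2 : F) ≠ 0) {x y : P} (hxy : mt P x * mt P y = -(mt P y * mt P x)) : tr x = 0 := by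
  have h1 : tr x = - tr x := by
    have h3 : mt P (y * x * y⁻¹) = - mt P x := by
      have h4 : mt P y * mt P x = -(mt P x * mt P y) := by rw [hxy, neg_neg]
      rw [map_mul, map_mul, h4, neg_mul, mul_assoc, ← map_mul, mul_inv_cancel, map_one, mul_one]
    calc tr x = tr (y * x * y⁻¹) := (tr_conj y x).symm
      _ = (-mt P x).trace := by unfold tr; rw [h3]
      _ = - tr x := by rw [Matrix.trace_neg]; rfl
  have h5 : 2 * tr x = 0 := by linear_combination h1
  exact (mul_eq_zero.1 h5).resolve_left h2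

/-- odd order lifts up to sign -/
theorem exists_mul_lift {y : P} (ht : Odd (orderOf (φ y))) :
    ∃ g z : P, φ g = φ y ∧ Odd (orderOf g) ∧ φ z = 1 ∧ y = z * g := by
  obtain ⟨g, hg, hg2⟩ := h.exists_lift (φ y) ht
  refine ⟨g, y * g⁻¹, hg, by rw [hg2]; exact ht, ?_, by group⟩
  rw [map_mul, map_inv, hg, mul_inv_cancel]

omit h in
theorem odd_orderOf_pow {g : P} (hg : Odd (orderOf g)) (k : ℕ) : Odd (orderOf (g ^ k)) := by
  exact Odd.of_dvd_nat hg (orderOf_pow_dvd k)

/-- real elements of odd order -/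
theorem tr_inv_of_odd (hp : Pm φ) {y : P} (ho : Odd (orderOf (φ y))) (hc : IsConj (φ y) (φ y)⁻¹) :
    tr y⁻¹ = tr y := by
  obtain ⟨g, z, hg, hgo, hz, hy⟩ := h.exists_mul_lift ho
  obtain ⟨t, ht⟩ := isConj_iff.1 hc
  obtain ⟨x, rfl⟩ := h.surj t
  have h1 : x * g * x⁻¹ = g⁻¹ := by
    apply h.conj_lift _ hgo (by rwa [orderOf_inv])
    rw [map_mul, map_mul, map_inv, map_inv, hg, ht]
  have h2 : z⁻¹ = z := inv_eq_of_mul_eq_one_left (hp.sq hz)
  have h3 : x * y * x⁻¹ = y⁻¹ := by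
    rw [hy, mul_inv_rev, h2, h.central hz g⁻¹, ← h1]
    calc x * (z * g) * x⁻¹ = (x * z) * g * x⁻¹ := by group
      _ = (z * x) * g * x⁻¹ := by rw [h.central hz x]
      _ = z * (x * g * x⁻¹) := by group
  rw [← h3, tr_conj]

/-- `tr(y)^p = tr(y)` for odd order elements conjugate to their `p`-th power -/
theorem tr_pow_of_odd (hp : Pm φ) (p : ℕ) [hpp : Fact p.Prime] [CharP F p] (hp2 : Odd p) {y : P}
    (ho : Odd (orderOf (φ y))) (hc : IsConj ((φ y) ^ p) (φ y)) : tr y ^ p = tr y := by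
  obtain ⟨g, z, hg, hgo, hz, hy⟩ := h.exists_mul_lift ho
  obtain ⟨t, ht⟩ := isConj_iff.1 hc
  obtain ⟨x, rfl⟩ := h.surj t
  have h1 : x * g ^ p * x⁻¹ = g := by
    apply h.conj_lift _ (odd_orderOf_pow hgo p) hgo
    rw [map_mul, map_mul, map_inv, map_pow, hg, ht]
  obtain ⟨m, hm⟩ := hp2
  have h2 : z ^ p = z := by
    rw [hm, pow_succ, pow_mul, pow_two, hp.sq hz, one_pow, one_mul]
  have h4 : y ^ p = z * g ^ p := by
    have : Commute z g := (h.central hz g).symm
    rw [hy, this.mul_pow, h2]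
  have h3 : x * y ^ p * x⁻¹ = y := by
    rw [h4, hy]
    conv_rhs => rw [← h1]
    calc x * (z * g ^ p) * x⁻¹ = (x * z) * g ^ p * x⁻¹ := by group
      _ = (z * x) * g ^ p * x⁻¹ := by rw [h.central hz x]
      _ = z * (x * g ^ p * x⁻¹) := by group
  have h5 : tr (y ^ p) = tr y ^ p := by
    unfold tr
    rw [map_pow, trace_pow_char p]
  rw [← h5, ← tr_conj x, h3]

/-- `tr(y)^p = tr(y⁻¹)` for odd order elements whose `p`-th power is conjugate to the inverse -/
theorem tr_pow_inv_of_odd (hp : Pm φ) (p : ℕ) [hpp : Fact p.Prime] [CharP F p] (hp2 : Odd p) {y : P}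
    (ho : Odd (orderOf (φ y))) (hc : IsConj ((φ y) ^ p) (φ y)⁻¹) : tr y ^ p = tr y⁻¹ := by
  obtain ⟨g, z, hg, hgo, hz, hy⟩ := h.exists_mul_lift ho
  obtain ⟨t, ht⟩ := isConj_iff.1 hc
  obtain ⟨x, rfl⟩ := h.surj t
  have h1 : x * g ^ p * x⁻¹ = g⁻¹ := by
    apply h.conj_lift _ (odd_orderOf_pow hgo p) (by rwa [orderOf_inv])
    rw [map_mul, map_mul, map_inv, map_pow, map_inv, hg, ht]
  obtain ⟨m, hm⟩ := hp2
  have h2 : z ^ p = z := by
    rw [hm, pow_succ, pow_mul, pow_two, hp.sq hz, one_pow, one_mul]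
  have h2' : z⁻¹ = z := inv_eq_of_mul_eq_one_left (hp.sq hz)
  have h4 : y ^ p = z * g ^ p := by
    have : Commute z g := (h.central hz g).symm
    rw [hy, this.mul_pow, h2]
  have h3 : x * y ^ p * x⁻¹ = y⁻¹ := by
    rw [h4, hy, mul_inv_rev, h2', h.central hz g⁻¹, ← h1]
    calc x * (z * g ^ p) * x⁻¹ = (x * z) * g ^ p * x⁻¹ := by group
      _ = (z * x) * g ^ p * x⁻¹ := by rw [h.central hz x]
      _ = z * (x * g ^ p * x⁻¹) := by group
  have h5 : tr (y ^ p) = tr y ^ p := by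
    unfold tr
    rw [map_pow, trace_pow_char p]
  rw [← h5, ← tr_conj x, h3]

/-! ### dihedral Sylow 2-subgroups of order eight -/

omit [Finite F] h in
/-- In a group whose order is eight times an odd number two elements as in a dihedral group generate a Sylow 2-subgroup. -/
theorem _root_.Cfsg.Agent.H908.exists_dih {T : Type*} [Group T] {m : ℕ} (hT : Nat.card T = 8 * m) (hm : Odd m) {a b : T}
    (ha2 : a ^ 2 ≠ 1) (ha4 : a ^ 4 = 1) (hb1 : b ∉ Subgroup.zpowers a) (hb : b ^ 2 = 1) (hab : b * a * b⁻¹ = a⁻¹) :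
    ∃ D : Subgroup T, IsPGroup 2 D ∧ ¬ 2 ∣ D.index ∧ a ∈ D ∧ b ∈ D ∧ ∀ t ∈ D, ∃ i j : ℕ, t = a ^ i * b ^ j := by
  have hfin : Finite T := Nat.finite_of_card_ne_zero (by rw [hT]; have := hm.pos; omega)
  have hba : ∀ i : ℕ, b * a ^ i = a ^ (3 * i) * b := by
    intro i
    have h1 : b * a ^ i * b⁻¹ = a ^ (3 * i) := by
      rw [← conj_pow, hab, pow_mul]
      congr 1
      rw [inv_eq_iff_mul_eq_one, ← pow_succ', ha4]
    rw [← h1]; group
  have hbi : ∀ j i : ℕ, ∃ k : ℕ, b ^ j * a ^ i = a ^ k * b ^ j := by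
    intro j
    induction j with
    | zero => intro i; exact ⟨i, by simp⟩
    | succ j ih =>
      intro i
      obtain ⟨k, hk⟩ := ih (3 * i)
      refine ⟨k, ?_⟩
      rw [pow_succ, mul_assoc, hba, ← mul_assoc, hk, mul_assoc]
  let D : Subgroup T :=
    { carrier := {t | ∃ i j : ℕ, t = a ^ i * b ^ j}
      mul_mem' := by
        rintro _ _ ⟨i, j, rfl⟩ ⟨i', j', rfl⟩
        obtain ⟨k, hk⟩ := hbi j i'
        refine ⟨i + k, j + j', ?_⟩
        rw [pow_add, pow_add]
        calc a ^ i * b ^ j * (a ^ i' * b ^ j') = a ^ i * (b ^ j * a ^ i') * b ^ j' := by group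
          _ = _ := by rw [hk]; group
      one_mem' := ⟨0, 0, by simp⟩
      inv_mem' := by
        rintro _ ⟨i, j, rfl⟩
        have h1 : (b ^ j)⁻¹ = b ^ j := by
          rw [inv_eq_iff_mul_eq_one, ← pow_add, ← two_mul, pow_mul, hb, one_pow]
        have h2 : (a ^ i)⁻¹ = a ^ (3 * i) := by
          rw [inv_eq_iff_mul_eq_one, ← pow_add, show i + 3 * i = 4 * i by ring, pow_mul, ha4, one_pow]
        obtain ⟨k, hk⟩ := hbi j (3 * i)
        exact ⟨k, j, by rw [mul_inv_rev, h1, h2, hk]⟩ }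
  have haD : a ∈ D := ⟨1, 0, by simp⟩
  have hbD : b ∈ D := ⟨0, 1, by simp⟩
  have hD : IsPGroup 2 D := by
    rintro ⟨_, i, j, rfl⟩
    refine ⟨2, Subtype.ext ?_⟩
    change (a ^ i * b ^ j) ^ 4 = 1
    rcases Nat.even_or_odd' j with ⟨k, rfl | rfl⟩
    · rw [pow_mul, hb, one_pow, mul_one, ← pow_mul, mul_comm, pow_mul, ha4, one_pow]
    · have h0 : b ^ (2 * k + 1) = b := by rw [pow_succ, pow_mul, hb, one_pow, one_mul]
      rw [h0]
      have h1 : (a ^ i * b) ^ 2 = 1 := by
        rw [pow_two]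
        calc a ^ i * b * (a ^ i * b) = a ^ i * (b * a ^ i) * b := by group
          _ = a ^ i * (a ^ (3 * i) * b) * b := by rw [hba]
          _ = a ^ i * a ^ (3 * i) * b ^ 2 := by rw [pow_two]; group
          _ = 1 := by rw [hb, ← pow_add, show i + 3 * i = 4 * i by ring, pow_mul, ha4, one_pow, one_mul]
      rw [show (a ^ i * b) ^ 4 = ((a ^ i * b) ^ 2) ^ 2 from by rw [← pow_mul], h1, one_pow]
  refine ⟨D, hD, ?_, haD, hbD, fun t ht => ht⟩
  -- order
  have hfac : Fact (Nat.Prime 2) := ⟨Nat.prime_two⟩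
  obtain ⟨n, hn⟩ := IsPGroup.iff_card.1 hD
  have hord : orderOf a = 4 := by
    have h1 : orderOf a ∣ 2 ^ 2 := orderOf_dvd_of_pow_eq_one (by simpa using ha4)
    have h2 : ¬ orderOf a ∣ 2 ^ 1 := fun h3 => ha2 (by
      have := orderOf_dvd_iff_pow_eq_one.1 h3
      simpa using this)
    exact Nat.eq_prime_pow_of_dvd_least_prime_pow Nat.prime_two h2 h1
  have hn3 : 3 ≤ n := by
    by_contra hlt
    have h4 : Subgroup.zpowers a ≤ D := by rwa [Subgroup.zpowers_le]
    have h5 : Nat.card (Subgroup.zpowers a) = 4 := by rw [Nat.card_zpowers, hord]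
    have h6 : Nat.card D ≤ 4 := by
      rw [hn]
      calc 2 ^ n ≤ 2 ^ 2 := Nat.pow_le_pow_right (by norm_num) (by omega)
        _ = 4 := by norm_num
    have h7 : Subgroup.zpowers a = D := Subgroup.eq_of_le_of_card_ge h4 (by rw [h5]; exact h6)
    exact hb1 (by rw [h7]; exact hbD)
  intro hdvd
  have h8 : Nat.card D * D.index = 8 * m := by rw [← hT, Subgroup.card_mul_index]
  obtain ⟨e, he⟩ := hdvd
  obtain ⟨f, hf⟩ : (8 : ℕ) ∣ Nat.card D := by
    rw [hn, show (8 : ℕ) = 2 ^ 3 by norm_num]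
    exact pow_dvd_pow 2 hn3
  rw [hf, he] at h8
  have h9 : m = 2 * (f * e) := by nlinarith
  rw [h9] at hm
  exact (Nat.not_odd_iff_even.2 (even_two_mul _)) hm

/-- The kernel for a dihedral Sylow 2-subgroup of order eight and one class of involutions. -/
theorem dih_cases {m : ℕ} (hT : Nat.card T = 8 * m) (hm : Odd m) {a b : T}
    (ha2 : a ^ 2 ≠ 1) (ha4 : a ^ 4 = 1) (hb1 : b ∉ Subgroup.zpowers a) (hb : b ^ 2 = 1) (hab : b * a * b⁻¹ = a⁻¹)
    (hinv : ∀ t : T, t ^ 2 = 1 → t ≠ 1 → IsConj (a ^ 2) t) :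
    Function.Injective φ ∨ (Pm φ ∧
      (∀ y : P, φ y ≠ 1 → φ y ^ 2 = 1 → mt P (y * y) = -1) ∧
      (∀ y z : P, φ y = a → φ z = b → z * y * z⁻¹ = y⁻¹)) := by
  have := finite_P (P := P)
  obtain ⟨D, hD, hidx, haD, hbD, hgen⟩ := exists_dih hT hm ha2 ha4 hb1 hb hab
  obtain ⟨y, hy⟩ := h.surj a
  obtain ⟨z, hz⟩ := h.surj b
  have key : ∀ x : P, φ x = 1 → x = 1 ∨ x = ⁅z, y ^ 2⁆ := by
    intro x hx
    refine ker_of_dihedral h.perf h.surj h.ker_le_center h.isPGroup_ker hD hidx (a := y) (b := z)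
      (by rwa [hy]) (by rwa [hz]) (by rw [hy, hz]; exact hgen) (by rwa [hy]) (by rwa [hy]) (by rw [hy, hz]; exact hab) hx
  set ε := ⁅z, y ^ 2⁆ with hε
  have hεk : φ ε = 1 := by
    have h1 : b * a ^ 2 * b⁻¹ = a ^ 2 := by
      rw [← conj_pow, hab, inv_pow, inv_eq_iff_mul_eq_one, ← pow_add, ha4]
    rw [hε, map_commutatorElement, commutatorElement_def, map_pow, hy, hz, h1, mul_inv_cancel]
  by_cases hε1 : ε = 1
  · left
    rw [injective_iff_map_eq_one]
    intro x hx
    rcases key x hx with h1 | h1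
    · exact h1
    · rw [h1, hε1]
  right
  have hεε : ε * ε = 1 := by
    rcases key (ε * ε) (by rw [map_mul, hεk, mul_one]) with h1 | h1
    · exact h1
    · exact absurd (mul_eq_left.1 h1) hε1
  have hεm : mt P ε = -1 := by
    obtain ⟨c, hc⟩ := (h.ker ε).1 hεk
    have h1 : c * c = 1 := by
      have h2 := congrArg (mt P) hεε
      rw [map_mul, hc, map_one, smul_mul_smul_comm, mul_one] at h2
      have h3 := congrFun (congrFun h2 0) 0
      simpa using h3
    rcases mul_self_eq_one_iff.1 h1 with h2 | h2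
    · exfalso
      apply hε1
      apply mt_injective
      rw [hc, h2, one_smul, map_one]
    · rw [hc, h2, neg_one_smul]
  have hPm : Pm φ := by
    intro x hx
    rcases key x hx with h1 | h1
    · left; rw [h1, map_one]
    · right; rw [h1, hεm]
  -- `z y z⁻¹ = w y⁻¹`
  set w := z * y * z⁻¹ * y with hw
  have hwk : φ w = 1 := by
    rw [hw, map_mul, map_mul, map_mul, map_inv, hy, hz, hab, inv_mul_cancel]
  have hww : w * w = 1 := hPm.sq hwk
  have hzy : z * y * z⁻¹ = w * y⁻¹ := by rw [hw]; group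
  have hy4 : y ^ 4 = ε := by
    have h1 : z * y ^ 2 * z⁻¹ = ε * y ^ 2 := by rw [hε, commutatorElement_def]; group
    have h2 : z * y ^ 2 * z⁻¹ = y⁻¹ * y⁻¹ := by
      calc z * y ^ 2 * z⁻¹ = (z * y * z⁻¹) * (z * y * z⁻¹) := by rw [pow_two]; group
        _ = w * y⁻¹ * (w * y⁻¹) := by rw [hzy]
        _ = w * (y⁻¹ * w) * y⁻¹ := by group
        _ = w * (w * y⁻¹) * y⁻¹ := by rw [h.central hwk]
        _ = (w * w) * (y⁻¹ * y⁻¹) := by group
        _ = y⁻¹ * y⁻¹ := by rw [hww, one_mul]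
    rw [h2] at h1
    have h3 : ε⁻¹ = y ^ 4 := by
      rw [inv_eq_iff_mul_eq_one]
      calc ε * y ^ 4 = (ε * y ^ 2) * (y * y) := by rw [mul_assoc]; congr 1; group
        _ = y⁻¹ * y⁻¹ * (y * y) := by rw [h1]
        _ = 1 := by group
    rw [← h3]
    exact inv_eq_of_mul_eq_one_left hεε
  -- squares of lifts of involutions
  have hsq : ∀ v : P, φ v ≠ 1 → φ v ^ 2 = 1 → v * v = ε := by
    intro v hv1 hv2
    obtain ⟨t, ht⟩ := isConj_iff.1 (hinv (φ v) hv2 hv1)
    obtain ⟨x, rfl⟩ := h.surj t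
    set u := v * (x * y ^ 2 * x⁻¹)⁻¹ with hu
    have huk : φ u = 1 := by
      rw [hu, map_mul, map_inv, map_mul, map_mul, map_inv, map_pow, hy, ht, mul_inv_cancel]
    have hv : v = u * (x * y ^ 2 * x⁻¹) := by rw [hu]; group
    rw [hv]
    calc u * (x * y ^ 2 * x⁻¹) * (u * (x * y ^ 2 * x⁻¹))
        = u * ((x * y ^ 2 * x⁻¹) * u) * (x * y ^ 2 * x⁻¹) := by group
      _ = u * (u * (x * y ^ 2 * x⁻¹)) * (x * y ^ 2 * x⁻¹) := by rw [h.central huk]
      _ = (u * u) * (x * y ^ 4 * x⁻¹) := by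
          rw [show y ^ 4 = y ^ 2 * y ^ 2 from by rw [← pow_add]]; group
      _ = ε := by
          rw [hPm.sq huk, hy4, h.central hεk]; group
  refine ⟨hPm, fun v hv1 hv2 => by rw [hsq v hv1 hv2, hεm], ?_⟩
  -- `w = 1`
  have hb1' : b ≠ 1 := fun hb' => hb1 (by rw [hb']; exact one_mem _)
  have hzz : z * z = ε := hsq z (by rwa [hz]) (by rwa [hz])
  have hyz : (y * z) * (y * z) = ε := by
    refine hsq _ ?_ ?_
    · rw [map_mul, hy, hz]
      intro hab'
      apply hb1
      have : b = a⁻¹ := (inv_eq_of_mul_eq_one_right hab').symm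
      rw [this]
      exact inv_mem (Subgroup.mem_zpowers a)
    · rw [map_mul, hy, hz, pow_two]
      calc a * b * (a * b) = a * (b * a * b⁻¹) * (b * b) := by group
        _ = 1 := by rw [hab, ← pow_two, hb]; group
  have hw1 : w = 1 := by
    have h1 : (y * z) * (y * z) = w * ε := by
      calc (y * z) * (y * z) = y * (z * y * z⁻¹) * (z * z) := by group
        _ = y * (w * y⁻¹) * ε := by rw [hzy, hzz]
        _ = (y * w) * y⁻¹ * ε := by group
        _ = (w * y) * y⁻¹ * ε := by rw [h.central hwk]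
        _ = w * ε := by group
    rw [hyz] at h1
    exact (mul_eq_right.1 h1.symm)
  intro y' z' hy' hz'
  -- general lifts
  have hyk : φ (y' * y⁻¹) = 1 := by rw [map_mul, map_inv, hy, hy', mul_inv_cancel]
  have hzk : φ (z' * z⁻¹) = 1 := by rw [map_mul, map_inv, hz, hz', mul_inv_cancel]
  set u := y' * y⁻¹ with hu
  set v := z' * z⁻¹ with hv
  have e1 : y' = u * y := by rw [hu]; group
  have e2 : z' = v * z := by rw [hv]; group
  have e3 : z * y * z⁻¹ = y⁻¹ := by rw [hzy, hw1, one_mul]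
  have e4 : u⁻¹ = u := inv_eq_of_mul_eq_one_left (hPm.sq hyk)
  rw [e1, e2, mul_inv_rev u y, e4]
  calc v * z * (u * y) * (v * z)⁻¹ = v * (z * u) * y * z⁻¹ * v⁻¹ := by group
    _ = v * (u * z) * y * z⁻¹ * v⁻¹ := by rw [h.central hyk z]
    _ = v * (u * (z * y * z⁻¹)) * v⁻¹ := by group
    _ = v * (u * y⁻¹) * v⁻¹ := by rw [e3]
    _ = v * ((u * y⁻¹) * v⁻¹) := by group
    _ = v * (v⁻¹ * (u * y⁻¹)) := by
        rw [h.central (show φ v⁻¹ = 1 by rw [map_inv, hzk, inv_one])]
    _ = u * y⁻¹ := by group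
    _ = y⁻¹ * u := by rw [h.central hyk y⁻¹]

end Cov

end Cfsg.Agent.H908
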