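import Cfsg.Agent.H908.NoTriv

/-!
# Trivial centre: `L₂(7)` has no absolutely irreducible representation of degree four (characteristic not seven)
-/

set_option autoImplicit false
set_option linter.unusedSectionVars false

namespace Cfsg.Agent.H908

open Cfsg Cfsg.Geo Module
open scoped MatrixGroups commutatorElement

section Lin

variable {K : Type*} [Field K] {V : Type*} [AddCommGroup V] [Module K V] [FiniteDimensional K V]

/-- The fixed vector and the fixed functional of the Frobenius group `7:3`. -/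
theorem exists_fix (h7 : (7 : K) ≠ 0) (h4 : finrank K V = 4) {X D : End K V} (hX : X ^ 7 = 1) (hD : D ^ 3 = 1)
    (hDX : D * X = X ^ 2 * D) (hdX : LinearMap.det X = 1) (hdD : LinearMap.det D = 1) {ζ : K} {v : V}
    (hζ : ζ ^ 7 = 1) (hζ1 : ζ ≠ 1) (h0 : X v = ζ • v) (h1 : X (D v) = ζ ^ 4 • D v)
    (h2 : X (D (D v)) = ζ ^ 2 • D (D v)) (hli : LinearIndependent K ![v, D v, D (D v)]) :
    ∃ (f : V →ₗ[K] K) (w : V), f w = 1 ∧ (∀ z, f (X z) = f z) ∧ (∀ z, f (D z) = f z) ∧ X w = w ∧ D w = w ∧
      (∀ z, ∑ k ∈ Finset.range 7, ζ ^ (4 * k) • (X ^ k) z = 0) := by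
  -- a fourth basis vector
  obtain ⟨u, hu⟩ : ∃ u : V, LinearIndependent K ![u, v, D v, D (D v)] := by
    have hlt : Submodule.span K (Set.range ![v, D v, D (D v)]) ≠ ⊤ := by
      intro htop
      have h5 := finrank_span_eq_card hli
      rw [htop, finrank_top, h4] at h5
      simp at h5
    obtain ⟨u, -, hu⟩ := SetLike.exists_of_lt (lt_top_iff_ne_top.2 hlt)
    refine ⟨u, ?_⟩
    rw [show (![u, v, D v, D (D v)] : Fin 4 → V) = Fin.cons u ![v, D v, D (D v)] from rfl,
      linearIndependent_finCons]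
    exact ⟨hli, hu⟩
  let B : Basis (Fin 4) K V := basisOfLinearIndependentOfCardEqFinrank hu (by rw [h4]; simp)
  have hB0 : B 0 = u := by simp [B]
  have hB1 : B 1 = v := by simp [B]
  have hB2 : B 2 = D v := by simp [B]
  have hB3 : B 3 = D (D v) := by simp [B]
  have hDDD : ∀ z, D (D (D z)) = z := by
    intro z
    have := congrArg (fun z' : End K V => z' z) hD
    simpa [pow_succ, Module.End.mul_apply] using this
  have hc : ∀ (A : End K V) (i j), LinearMap.toMatrix B B A i j = B.repr (A (B j)) i :=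
    fun A i j => LinearMap.toMatrix_apply _ _ _ _ _
  -- the functional
  set f : V →ₗ[K] K := B.coord 0 with hf
  have fu : f u = 1 := by rw [hf, Basis.coord_apply, ← hB0, B.repr_self]; simp
  have fv : f v = 0 := by rw [hf, Basis.coord_apply, ← hB1, B.repr_self]; simp
  have fDv : f (D v) = 0 := by rw [hf, Basis.coord_apply, ← hB2, B.repr_self]; simp
  have fDDv : f (D (D v)) = 0 := by rw [hf, Basis.coord_apply, ← hB3, B.repr_self]; simp
  -- `f (X u) = 1`
  have fXu : f (X u) = 1 := by
    have c1 : ∀ i, LinearMap.toMatrix B B X i 1 = if i = 1 then ζ else 0 := by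
      intro i
      rw [hc, hB1, h0, ← hB1, map_smul, B.repr_self, Finsupp.smul_apply, Finsupp.single_apply, smul_eq_mul]
      simp only [eq_comm, mul_ite, mul_one, mul_zero]
    have c2 : ∀ i, LinearMap.toMatrix B B X i 2 = if i = 2 then ζ ^ 4 else 0 := by
      intro i
      rw [hc, hB2, h1, ← hB2, map_smul, B.repr_self, Finsupp.smul_apply, Finsupp.single_apply, smul_eq_mul]
      simp only [eq_comm, mul_ite, mul_one, mul_zero]
    have c3 : ∀ i, LinearMap.toMatrix B B X i 3 = if i = 3 then ζ ^ 2 else 0 := by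
      intro i
      rw [hc, hB3, h2, ← hB3, map_smul, B.repr_self, Finsupp.smul_apply, Finsupp.single_apply, smul_eq_mul]
      simp only [eq_comm, mul_ite, mul_one, mul_zero]
    rw [← LinearMap.det_toMatrix B] at hdX
    set M := LinearMap.toMatrix B B X with hM
    have hdet' : M.det = M 0 0 * ζ ^ 7 := by
      have hMM : M = !![M 0 0, 0, 0, 0; M 1 0, ζ, 0, 0; M 2 0, 0, ζ ^ 4, 0; M 3 0, 0, 0, ζ ^ 2] := by
        ext i j
        fin_cases j
        · fin_cases i <;> rfl
        · have := c1 i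
          fin_cases i <;> simpa using this
        · have := c2 i
          fin_cases i <;> simpa using this
        · have := c3 i
          fin_cases i <;> simpa using this
      rw [hMM, Matrix.det_succ_row_zero, Fin.sum_univ_four]
      simp [Matrix.det_fin_three, Fin.succAbove]
      left
      ring
    have h5 : M 0 0 = f (X u) := by rw [hM, hc, hB0, hf, Basis.coord_apply]
    rw [hdX, hζ, mul_one, h5] at hdet'
    exact hdet'.symm
  have fDu : f (D u) = 1 := by
    have c1 : ∀ i, LinearMap.toMatrix B B D i 1 = if i = 2 then 1 else 0 := by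
      intro i
      rw [hc, hB1, ← hB2, B.repr_self, Finsupp.single_apply]
      simp only [eq_comm]
    have c2 : ∀ i, LinearMap.toMatrix B B D i 2 = if i = 3 then 1 else 0 := by
      intro i
      rw [hc, hB2, ← hB3, B.repr_self, Finsupp.single_apply]
      simp only [eq_comm]
    have c3 : ∀ i, LinearMap.toMatrix B B D i 3 = if i = 1 then 1 else 0 := by
      intro i
      rw [hc, hB3, hDDD, ← hB1, B.repr_self, Finsupp.single_apply]
      simp only [eq_comm]
    rw [← LinearMap.det_toMatrix B] at hdD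
    set M := LinearMap.toMatrix B B D with hM
    have hdet' : M.det = M 0 0 := by
      have hMM : M = !![M 0 0, 0, 0, 0; M 1 0, 0, 0, 1; M 2 0, 1, 0, 0; M 3 0, 0, 1, 0] := by
        ext i j
        fin_cases j
        · fin_cases i <;> rfl
        · have := c1 i
          fin_cases i <;> simpa using this
        · have := c2 i
          fin_cases i <;> simpa using this
        · have := c3 i
          fin_cases i <;> simpa using this
      rw [hMM, Matrix.det_succ_row_zero, Fin.sum_univ_four]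
      simp [Matrix.det_fin_three, Fin.succAbove]
    have h5 : M 0 0 = f (D u) := by rw [hM, hc, hB0, hf, Basis.coord_apply]
    rw [hdD, h5] at hdet'
    exact hdet'.symm
  have hext : ∀ g₁ g₂ : V →ₗ[K] K, g₁ u = g₂ u → g₁ v = g₂ v → g₁ (D v) = g₂ (D v) → g₁ (D (D v)) = g₂ (D (D v)) →
      g₁ = g₂ := by
    intro g₁ g₂ e0 e1 e2 e3
    apply B.ext
    intro i
    fin_cases i
    · change g₁ (B 0) = g₂ (B 0); rwa [hB0]
    · change g₁ (B 1) = g₂ (B 1); rwa [hB1]
    · change g₁ (B 2) = g₂ (B 2); rwa [hB2]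
    · change g₁ (B 3) = g₂ (B 3); rwa [hB3]
  have hfX : ∀ z, f (X z) = f z := by
    have : f ∘ₗ X = f := by
      apply hext
      · rw [LinearMap.comp_apply, fXu, fu]
      · rw [LinearMap.comp_apply, h0, map_smul, fv, smul_zero]
      · rw [LinearMap.comp_apply, h1, map_smul, fDv, smul_zero]
      · rw [LinearMap.comp_apply, h2, map_smul, fDDv, smul_zero]
    intro z
    rw [← LinearMap.comp_apply, this]
  have hfD : ∀ z, f (D z) = f z := by
    have : f ∘ₗ D = f := by
      apply hext
      · rw [LinearMap.comp_apply, fDu, fu]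
      · rw [LinearMap.comp_apply, fDv, fv]
      · rw [LinearMap.comp_apply, fDDv, fDv]
      · rw [LinearMap.comp_apply, hDDD, fv, fDDv]
    intro z
    rw [← LinearMap.comp_apply, this]
  -- sums
  have hX7 : ∀ z, X (X (X (X (X (X (X z)))))) = z := by
    intro z
    have := congrArg (fun z' : End K V => z' z) hX
    simpa [pow_succ, Module.End.mul_apply] using this
  have hDX' : ∀ z, D (X z) = X (X (D z)) := by
    intro z
    have := congrArg (fun z' : End K V => z' z) hDX
    simpa [pow_succ, Module.End.mul_apply] using this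
  set E : V → V := fun z => z + X z + X (X z) + X (X (X z)) + X (X (X (X z))) + X (X (X (X (X z)))) +
    X (X (X (X (X (X z))))) with hE
  have hXE : ∀ z, X (E z) = E z := by
    intro z
    simp only [hE, map_add]
    rw [hX7]; abel
  have hDE : ∀ z, D (E z) = E (D z) := by
    intro z
    simp only [hE, map_add, hDX', hX7]
    abel
  have geom : ∀ ω : K, ω ^ 7 = 1 → ω ≠ 1 → 1 + ω + ω ^ 2 + ω ^ 3 + ω ^ 4 + ω ^ 5 + ω ^ 6 = 0 := by
    intro ω h h'
    have : (ω - 1) * (1 + ω + ω ^ 2 + ω ^ 3 + ω ^ 4 + ω ^ 5 + ω ^ 6) = 0 := by linear_combination h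
    exact (mul_eq_zero.1 this).resolve_left (sub_ne_zero.2 h')
  have hp : ∀ k : ℕ, ¬ 7 ∣ k → ζ ^ k ≠ 1 := by
    intro k hk h
    have h7' : Fact (Nat.Prime 7) := ⟨by norm_num⟩
    have ho : orderOf ζ = 7 := orderOf_eq_prime hζ hζ1
    exact hk (by rw [← ho]; exact orderOf_dvd_of_pow_eq_one h)
  have hkill : ∀ {z : V} {ω : K}, X z = ω • z → ω ^ 7 = 1 → ω ≠ 1 → E z = 0 := by
    intro z ω hz h h'
    simp only [hE, hz, map_smul, smul_smul]
    have := geom ω h h'
    have h5 : (1 + ω + ω ^ 2 + ω ^ 3 + ω ^ 4 + ω ^ 5 + ω ^ 6) • z = 0 := by rw [this, zero_smul]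
    rw [← h5]
    module
  have hEadd : ∀ a b, E (a + b) = E a + E b := by
    intro a b; simp only [hE, map_add]; abel
  have hEsmul : ∀ (c : K) a, E (c • a) = c • E a := by
    intro c a; simp only [hE, map_smul, smul_add]
  have hEv : E v = 0 := hkill h0 hζ hζ1
  have hEDv : E (D v) = 0 := hkill h1 (by rw [← pow_mul, mul_comm, pow_mul, hζ, one_pow]) (hp 4 (by norm_num))
  have hEDDv : E (D (D v)) = 0 := hkill h2 (by rw [← pow_mul, mul_comm, pow_mul, hζ, one_pow]) (hp 2 (by norm_num))
  have hexp : ∀ z, ∃ a1 a2 a3 : K, z = f z • u + a1 • v + a2 • D v + a3 • D (D v) := by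
    intro z
    refine ⟨B.repr z 1, B.repr z 2, B.repr z 3, ?_⟩
    conv_lhs => rw [← B.sum_repr z]
    rw [Fin.sum_univ_four, hB0, hB1, hB2, hB3, hf, Basis.coord_apply]
  have hEz : ∀ z, E z = f z • E u := by
    intro z
    obtain ⟨a1, a2, a3, hz⟩ := hexp z
    conv_lhs => rw [hz]
    rw [hEadd, hEadd, hEadd, hEsmul, hEsmul, hEsmul, hEsmul, hEv, hEDv, hEDDv]
    simp
  have hfE : f (E u) = 7 := by
    simp only [hE, map_add, hfX, fu]
    norm_num
  refine ⟨f, (7 : K)⁻¹ • E u, ?_, hfX, hfD, ?_, ?_, ?_⟩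
  · rw [map_smul, hfE, smul_eq_mul, inv_mul_cancel₀ h7]
  · rw [map_smul, hXE]
  · rw [map_smul, hDE, hEz (D u), fDu, one_smul]
  · -- the value `ζ³` is not an eigenvalue
    intro z
    have hsum : ∀ {z : V} {ω : K}, X z = ω • z → (ζ ^ 4 * ω) ^ 7 = 1 → ζ ^ 4 * ω ≠ 1 →
        ∑ k ∈ Finset.range 7, ζ ^ (4 * k) • (X ^ k) z = 0 := by
      intro z ω hz h h'
      have hk : ∀ k : ℕ, (X ^ k) z = ω ^ k • z := by
        intro k
        induction k with
        | zero => simp
        | succ k ih => rw [pow_succ', Module.End.mul_apply, ih, map_smul, hz, smul_smul, pow_succ]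
      have := geom _ h h'
      simp only [hk, smul_smul, Finset.sum_range_succ, Finset.sum_range_zero]
      have h5 : (1 + (ζ ^ 4 * ω) + (ζ ^ 4 * ω) ^ 2 + (ζ ^ 4 * ω) ^ 3 + (ζ ^ 4 * ω) ^ 4 + (ζ ^ 4 * ω) ^ 5 +
        (ζ ^ 4 * ω) ^ 6) • z = 0 := by rw [this, zero_smul]
      refine Eq.trans ?_ h5
      module
    have hw : X (E u) = (1 : K) • E u := by rw [hXE, one_smul]
    have hz : ∃ a0 a1 a2 a3 : K, z = a0 • E u + a1 • v + a2 • D v + a3 • D (D v) := by
      obtain ⟨b1, b2, b3, hb⟩ := hexp (E u)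
      obtain ⟨a1, a2, a3, ha⟩ := hexp z
      rw [hfE] at hb
      have hu' : u = (7 : K)⁻¹ • (E u - b1 • v - b2 • D v - b3 • D (D v)) := by
        have : E u - b1 • v - b2 • D v - b3 • D (D v) = (7 : K) • u := by
          conv_lhs => rw [hb]
          module
        rw [this, smul_smul, inv_mul_cancel₀ h7, one_smul]
      refine ⟨f z * 7⁻¹, a1 - f z * 7⁻¹ * b1, a2 - f z * 7⁻¹ * b2, a3 - f z * 7⁻¹ * b3, ?_⟩
      conv_lhs => rw [ha, hu']
      module
    obtain ⟨a0, a1, a2, a3, hz⟩ := hz
    have hpw : ∀ k : ℕ, (ζ ^ k) ^ 7 = 1 := fun k => by rw [← pow_mul, mul_comm, pow_mul, hζ, one_pow]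
    have s0 := hsum hw (by rw [mul_one]; exact hpw 4) (by rw [mul_one]; exact hp 4 (by norm_num))
    have s1 := hsum h0 (by rw [← pow_succ]; exact hpw 5) (by rw [← pow_succ]; exact hp 5 (by norm_num))
    have s2 := hsum h1 (by rw [← pow_add]; exact hpw 8) (by rw [← pow_add]; exact hp 8 (by norm_num))
    have s3 := hsum h2 (by rw [← pow_add]; exact hpw 6) (by rw [← pow_add]; exact hp 6 (by norm_num))
    have hlin : ∀ (a b : K) (x y : V), ∑ k ∈ Finset.range 7, ζ ^ (4 * k) • (X ^ k) (a • x + b • y) =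
        a • (∑ k ∈ Finset.range 7, ζ ^ (4 * k) • (X ^ k) x) + b • (∑ k ∈ Finset.range 7, ζ ^ (4 * k) • (X ^ k) y) := by
      intro a b x y
      rw [Finset.smul_sum, Finset.smul_sum, ← Finset.sum_add_distrib]
      refine Finset.sum_congr rfl fun k _ => ?_
      rw [map_add, map_smul, map_smul]
      module
    have e1 := hlin a0 a1 (E u) v
    have e2 := hlin 1 a2 (a0 • E u + a1 • v) (D v)
    have e3 := hlin 1 a3 (a0 • E u + a1 • v + a2 • D v) (D (D v))
    rw [s0, s1, smul_zero, smul_zero, add_zero] at e1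
    rw [one_smul, s2, e1, smul_zero, smul_zero, add_zero] at e2
    rw [one_smul, s3, e2, smul_zero, smul_zero, add_zero] at e3
    rw [hz]
    exact e3

end Lin

section Group

variable {F : Type*} [Field F] {P : Subgroup (GL (Fin 4) F)}

/-- the endomorphisms over `K` are spanned by an absolutely irreducible group over `F`. -/
theorem span_ext (K : Type*) [Field K] [Algebra F K] (hP : ActsAbsolutelyIrreducibly (matrixSet P)) :
    Submodule.span K (Set.range fun g : P => ext K (mt P g)) = ⊤ := by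
  have h1 : ∀ M : Matrix (Fin 4) (Fin 4) F, ext K M ∈ Submodule.span K (Set.range fun g : P => ext K (mt P g)) := by
    intro M
    have hM : M ∈ Submodule.span F (Set.range ((Units.coeHom (Matrix (Fin 4) (Fin 4) F)).comp P.subtype)) := by
      rw [H906.span_subtype hP]; trivial
    refine Submodule.span_induction ?_ ?_ ?_ ?_ hM
    · rintro _ ⟨g, rfl⟩
      exact Submodule.subset_span ⟨g, rfl⟩
    · rw [map_zero]; exact Submodule.zero_mem _
    · intro x y _ _ hx hy
      rw [map_add]; exact Submodule.add_mem _ hx hy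
    · intro c x _ hx
      rw [ext_smul]; exact Submodule.smul_mem _ _ hx
  rw [eq_top_iff]
  intro A _
  have h2 : A = ∑ i, ∑ j, (LinearMap.toMatrix' A i j) • ext K (Matrix.single i j (1 : F)) := by
    apply LinearMap.toMatrix'.injective
    rw [map_sum]
    simp only [map_sum, map_smul, ext_apply, LinearMap.toMatrix'_toLin']
    have : ∀ i j : Fin 4, (Matrix.single i j (1 : F)).map (algebraMap F K) = Matrix.single i j (1 : K) := by
      intro i j
      rw [Matrix.map_single, map_one]
    simp only [this]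
    conv_lhs => rw [Matrix.matrix_eq_sum_single (LinearMap.toMatrix' A)]
    simp [Matrix.smul_single]
  rw [h2]
  exact Submodule.sum_mem _ fun i _ => Submodule.sum_mem _ fun j _ => Submodule.smul_mem _ _ (h1 _)

/-- no fixed vector -/
theorem no_fixed (K : Type*) [Field K] [Algebra F K] (hP : ActsAbsolutelyIrreducibly (matrixSet P))
    {w : Fin 4 → K} (hw : w ≠ 0) (hfix : ∀ g : P, ext K (mt P g) w = w) : False := by
  have h1 : ∀ A : Module.End K (Fin 4 → K), ∃ c : K, A w = c • w := by
    intro A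
    have hA : A ∈ Submodule.span K (Set.range fun g : P => ext K (mt P g)) := by rw [span_ext K hP]; trivial
    refine Submodule.span_induction ?_ ?_ ?_ ?_ hA
    · rintro _ ⟨g, rfl⟩
      exact ⟨1, by rw [one_smul]; exact hfix g⟩
    · exact ⟨0, by simp⟩
    · rintro x y _ _ ⟨c, hc⟩ ⟨d, hd⟩
      exact ⟨c + d, by rw [LinearMap.add_apply, hc, hd, add_smul]⟩
    · rintro a x _ ⟨c, hc⟩
      exact ⟨a * c, by rw [LinearMap.smul_apply, hc, smul_smul]⟩
  obtain ⟨i, hi⟩ : ∃ i, w i ≠ 0 := by
    by_contra hcon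
    push Not at hcon
    exact hw (funext hcon)
  -- the map `z ↦ (w i)⁻¹ z_i e_j`
  obtain ⟨j, hj⟩ := exists_ne i
  obtain ⟨c, hc⟩ := h1 ((LinearMap.single K (fun _ => K) j).comp (LinearMap.proj i))
  have h2 := congrFun hc i
  have h3 := congrFun hc j
  simp only [LinearMap.comp_apply, LinearMap.proj_apply, LinearMap.coe_single, Pi.single_eq_same, Pi.smul_apply,
    smul_eq_mul] at h2 h3
  rw [Pi.single_eq_of_ne (Ne.symm hj)] at h2
  rcases mul_eq_zero.1 h2.symm with h4 | h4
  · rw [h4, zero_mul] at h3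
    exact hi h3
  · exact hi h4

/-- no invariant functional on an orbit -/
theorem eq_zero_of_functional (K : Type*) [Field K] [Algebra F K] (hP : ActsAbsolutelyIrreducibly (matrixSet P))
    {f : (Fin 4 → K) →ₗ[K] K} (hf : f ≠ 0) {z : Fin 4 → K} (hz : ∀ g : P, f (ext K (mt P g) z) = 0) : z = 0 := by
  by_contra hz0
  have h1 : ∀ A : Module.End K (Fin 4 → K), f (A z) = 0 := by
    intro A
    have hA : A ∈ Submodule.span K (Set.range fun g : P => ext K (mt P g)) := by rw [span_ext K hP]; trivial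
    refine Submodule.span_induction ?_ ?_ ?_ ?_ hA
    · rintro _ ⟨g, rfl⟩
      exact hz g
    · simp
    · intro x y _ _ hx hy
      rw [LinearMap.add_apply, map_add, hx, hy, add_zero]
    · intro a x _ hx
      rw [LinearMap.smul_apply, map_smul, hx, smul_zero]
  apply hf
  ext y
  obtain ⟨i, hi⟩ : ∃ i, z i ≠ 0 := by
    by_contra hcon
    push Not at hcon
    exact hz0 (funext hcon)
  have h2 := h1 ((LinearMap.single K (fun _ => K) y).comp (LinearMap.proj i))
  simp only [LinearMap.comp_apply, LinearMap.proj_apply, LinearMap.coe_single] at h2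
  have h3 : (Pi.single y (z i) : Fin 4 → K) = z i • Pi.single y 1 := by
    rw [← Pi.single_smul, smul_eq_mul, mul_one]
  rw [h3, map_smul, smul_eq_mul] at h2
  simpa using (mul_eq_zero.1 h2).resolve_left hi

variable {T : Type*} [Group T] {φ : P →* T}

/-- **`L₂(7)`, trivial centre.** -/
theorem no_fano [Finite F] (h : Cov P φ) (hinj : Function.Injective φ) (hP : ActsAbsolutelyIrreducibly (matrixSet P))
    (h7 : (7 : F) ≠ 0) (D : Fano T)
    (bru : ∀ t : T, (∃ k l : ℕ, t = D.x ^ k * D.d ^ l) ∨ ∃ k l m : ℕ, t = D.x ^ k * D.d ^ l * D.s * D.x ^ m)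
    (hs : ∀ m : ℕ, 0 < m → m < 7 → ¬ ∃ k l : ℕ, D.s * D.x ^ m * D.s = D.x ^ k * D.d ^ l) : False := by
  classical
  obtain ⟨X, hX⟩ := h.surj D.x
  obtain ⟨E, hE⟩ := h.surj D.d
  obtain ⟨S, hS⟩ := h.surj D.s
  have hX7 : X ^ 7 = 1 := hinj (by rw [map_pow, hX, D.hx, map_one])
  have hX1 : X ≠ 1 := by
    intro h'
    apply D.hx1
    rw [← hX, h', map_one]
  have hE3 : E ^ 3 = 1 := hinj (by rw [map_pow, hE, D.hd, map_one])
  have hEX : E * X = X ^ 2 * E := hinj (by
    rw [map_mul, map_mul, map_pow, hE, hX, ← D.hdx]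
    group)
  have hSS : S * S = 1 := hinj (by rw [map_mul, hS, D.hs, map_one])
  set K := AlgebraicClosure F
  set e := ext (F := F) K with he
  set ρ : P → Module.End K (Fin 4 → K) := fun g => e (mt P g) with hρ
  have ρmul : ∀ a b : P, ρ (a * b) = ρ a * ρ b := fun a b => by rw [hρ]; simp only [map_mul]
  have ρone : ρ 1 = 1 := by rw [hρ]; simp only [map_one]
  have ρpow : ∀ (a : P) (n : ℕ), ρ (a ^ n) = ρ a ^ n := fun a n => by rw [hρ]; simp only [map_pow]
  have h7K : (7 : K) ≠ 0 := by
    have := (map_ne_zero (algebraMap F K)).2 h7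
    rwa [map_ofNat] at this
  have h4 : finrank K (Fin 4 → K) = 4 := by simp
  have hdet : ∀ g : P, LinearMap.det (ρ g) = 1 := fun g => by
    rw [hρ]
    simp only
    rw [he, det_ext, h.det, map_one]
  obtain ⟨ζ, v, hζ, hζ1, -, h0, h1, h2, hli⟩ := exists_seven (K := K) (X := ρ X) (D := ρ E) h7K
    (by rw [← ρpow, hX7, ρone])
    (by
      intro h'
      apply hX1
      apply mt_injective
      apply ext_injective K
      rw [map_one, map_one]
      exact h')
    (by rw [← ρpow, hE3, ρone]) (by rw [← ρmul, hEX, ρmul, ρpow])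
  obtain ⟨f, w, fw, fX, fE, Xw, Ew, hsum⟩ := exists_fix h7K h4 (X := ρ X) (D := ρ E)
    (by rw [← ρpow, hX7, ρone]) (by rw [← ρpow, hE3, ρone]) (by rw [← ρmul, hEX, ρmul, ρpow]) (hdet X) (hdet E)
    hζ hζ1 h0 h1 h2 hli
  have fXk : ∀ (k : ℕ) z, f ((ρ X ^ k) z) = f z := by
    intro k
    induction k with
    | zero => intro z; simp
    | succ k ih => intro z; rw [pow_succ', Module.End.mul_apply, fX, ih]
  have fEk : ∀ (k : ℕ) z, f ((ρ E ^ k) z) = f z := by
    intro k
    induction k with
    | zero => intro z; simp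
    | succ k ih => intro z; rw [pow_succ', Module.End.mul_apply, fE, ih]
  have wXk : ∀ k : ℕ, (ρ X ^ k) w = w := by
    intro k
    induction k with
    | zero => simp
    | succ k ih => rw [pow_succ, Module.End.mul_apply, Xw, ih]
  have wEk : ∀ k : ℕ, (ρ E ^ k) w = w := by
    intro k
    induction k with
    | zero => simp
    | succ k ih => rw [pow_succ, Module.End.mul_apply, Ew, ih]
  set β := f (ρ S w) with hβ
  have val1 : ∀ g : P, (∃ k l : ℕ, φ g = D.x ^ k * D.d ^ l) → f (ρ g w) = 1 := by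
    rintro g ⟨k, l, hg⟩
    have : g = X ^ k * E ^ l := hinj (by rw [hg, map_mul, map_pow, map_pow, hX, hE])
    rw [this, ρmul, ρpow, ρpow, Module.End.mul_apply, fXk, wEk, fw]
  have val2 : ∀ g : P, (∃ k l m : ℕ, φ g = D.x ^ k * D.d ^ l * D.s * D.x ^ m) → f (ρ g w) = β := by
    rintro g ⟨k, l, m, hg⟩
    have : g = X ^ k * E ^ l * S * X ^ m := hinj (by
      rw [hg, map_mul, map_mul, map_mul, map_pow, map_pow, map_pow, hX, hE, hS])
    rw [this, ρmul, ρmul, ρmul, ρpow, ρpow, ρpow, Module.End.mul_apply, Module.End.mul_apply, Module.End.mul_apply,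
      fXk, fEk, wXk]
  -- `β = 1`
  have hβ1 : β = 1 := by
    have h5 := hsum (ρ S w)
    have h6 := congrArg (fun z => f (ρ S z)) h5
    simp only [map_sum, map_smul, map_zero] at h6
    have h8 : ∀ k ∈ Finset.range 7, ζ ^ (4 * k) • f (ρ S ((ρ X ^ k) (ρ S w))) =
        ζ ^ (4 * k) * (if k = 0 then 1 else β) := by
      intro k hk
      rw [smul_eq_mul]
      congr 1
      have h9 : ρ S ((ρ X ^ k) (ρ S w)) = ρ (S * X ^ k * S) w := by
        rw [ρmul, ρmul, ρpow, Module.End.mul_apply, Module.End.mul_apply]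
      rw [h9]
      split_ifs with h10
      · subst h10
        rw [pow_zero, mul_one, hSS, ρone, Module.End.one_apply, fw]
      · apply val2
        have h11 : φ (S * X ^ k * S) = D.s * D.x ^ k * D.s := by rw [map_mul, map_mul, map_pow, hS, hX]
        rw [h11]
        exact (bru _).resolve_left (hs k (by omega) (Finset.mem_range.1 hk))
    rw [Finset.sum_congr rfl h8] at h6
    simp only [Finset.sum_range_succ, Finset.sum_range_zero] at h6
    norm_num at h6
    have h12 : (ζ ^ 4 - 1) * (1 + ζ ^ 4 + ζ ^ 8 + ζ ^ 12 + ζ ^ 16 + ζ ^ 20 + ζ ^ 24) = 0 := by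
      have : (ζ ^ 7) ^ 4 = 1 := by rw [hζ, one_pow]
      linear_combination this
    have h13 : ζ ^ 4 ≠ 1 := by
      intro h14
      apply hζ1
      have : ζ = (ζ ^ 4) ^ 2 * (ζ ^ 7)⁻¹ := by
        rw [hζ, inv_one, mul_one, ← pow_mul, show ζ ^ (4 * 2) = ζ ^ 7 * ζ by ring, hζ, one_mul]
      rw [this, h14, hζ]; simp
    have h14 := (mul_eq_zero.1 h12).resolve_left (sub_ne_zero.2 h13)
    linear_combination (-1) * h6 + β * h14
  have hall : ∀ g : P, f (ρ g w) = 1 := by
    intro g
    rcases bru (φ g) with h5 | h5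
    · exact val1 g h5
    · rw [val2 g h5, hβ1]
  have hf0 : f ≠ 0 := by
    intro h'
    rw [h'] at fw
    simp at fw
  have hw0 : w ≠ 0 := by
    intro h'
    rw [h', map_zero] at fw
    exact zero_ne_one fw
  refine no_fixed K hP hw0 (fun g => ?_)
  have h5 : ρ g w - w = 0 := by
    refine eq_zero_of_functional K hP hf0 (fun g' => ?_)
    rw [map_sub, map_sub]
    have h6 : ext K (mt P g') (ρ g w) = ρ (g' * g) w := by rw [ρmul, Module.End.mul_apply]
    rw [h6]
    change f (ρ (g' * g) w) - f (ρ g' w) = 0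
    rw [hall, hall, sub_self]
  exact sub_eq_zero.1 h5

end Group

end Cfsg.Agent.H908
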