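import Cfsg.Agent.H908.SevenMain
import Cfsg.Agent.ClassicalGeometry.PSL2Basic

/-!
# Facts on `PSL₂(7)`
-/

set_option autoImplicit false
set_option linter.unusedSectionVars false

namespace Cfsg.Agent.H908.Psl7

open Matrix

instance fact7 : Fact (Nat.Prime 7) := ⟨by norm_num⟩

abbrev S := SpecialLinearGroup (Fin 2) (ZMod 7)
abbrev T := ProjectiveSpecialLinearGroup (Fin 2) (ZMod 7)

def q (a b c d : ZMod 7) (h : a * d - b * c = 1) : S := ⟨!![a, b; c, d], by rw [det_fin_two_of]; exact h⟩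

def π : S →* T := QuotientGroup.mk' _

theorem π_surj : Function.Surjective π := QuotientGroup.mk'_surjective _

theorem neg_one_mem : (-1 : S) ∈ Subgroup.center S := by
  rw [Subgroup.mem_center_iff]
  intro g
  rw [mul_neg_one, neg_one_mul]

theorem π_neg (A : S) : π (-A) = π A := by
  have h : -A = (-1 : S) * A := by rw [neg_one_mul]
  rw [h, map_mul]
  have : π (-1 : S) = 1 := (QuotientGroup.eq_one_iff _).2 neg_one_mem
  rw [this, one_mul]

theorem ext4 {A B : S} (h00 : A 0 0 = B 0 0) (h01 : A 0 1 = B 0 1) (h10 : A 1 0 = B 1 0) (h11 : A 1 1 = B 1 1) :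
    A = B := by
  apply Matrix.SpecialLinearGroup.ext
  intro i j
  fin_cases i <;> fin_cases j <;> assumption

theorem det4 (A : S) : A 0 0 * A 1 1 - A 0 1 * A 1 0 = 1 := by
  have := A.2
  rwa [det_fin_two] at this

theorem eq_q (A : S) : ∃ a b c d h, A = q a b c d h := ⟨A 0 0, A 0 1, A 1 0, A 1 1, det4 A, ext4 rfl rfl rfl rfl⟩

theorem q_mul {a b c d a' b' c' d' : ZMod 7} {h h'} : q a b c d h * q a' b' c' d' h' =
    q (a * a' + b * c') (a * b' + b * d') (c * a' + d * c') (c * b' + d * d')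
      (by linear_combination h' * (a * d - b * c) + h) := by
  apply Subtype.ext
  change !![a, b; c, d] * !![a', b'; c', d'] = _
  rw [Matrix.mul_fin_two]
  rfl

theorem q_eq {a b c d a' b' c' d' : ZMod 7} {h h'} : q a b c d h = q a' b' c' d' h' ↔
    a = a' ∧ b = b' ∧ c = c' ∧ d = d' := by
  constructor
  · intro e
    refine ⟨?_, ?_, ?_, ?_⟩
    · simpa [q] using congrFun (congrFun (congrArg Subtype.val e) 0) 0
    · simpa [q] using congrFun (congrFun (congrArg Subtype.val e) 0) 1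
    · simpa [q] using congrFun (congrFun (congrArg Subtype.val e) 1) 0
    · simpa [q] using congrFun (congrFun (congrArg Subtype.val e) 1) 1
  · rintro ⟨rfl, rfl, rfl, rfl⟩
    rfl

theorem one_q : (1 : S) = q 1 0 0 1 (by decide) := by
  apply Matrix.SpecialLinearGroup.ext
  intro i j
  fin_cases i <;> fin_cases j <;> rfl

theorem neg_one_q : (-1 : S) = q (-1) 0 0 (-1) (by decide) := by
  apply Subtype.ext
  change -(1 : Matrix (Fin 2) (Fin 2) (ZMod 7)) = !![-1, 0; 0, -1]
  ext i j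
  fin_cases i <;> fin_cases j <;> rfl

theorem neg_q {a b c d : ZMod 7} {h} : -(q a b c d h) = q (-a) (-b) (-c) (-d) (by linear_combination h) := by
  apply Subtype.ext
  change -!![a, b; c, d] = !![-a, -b; -c, -d]
  ext i j
  fin_cases i <;> fin_cases j <;> rfl

theorem π_eq_one {A : S} (h : π A = 1) : A = 1 ∨ A = -1 := by
  have h1 : A ∈ Subgroup.center S := (QuotientGroup.eq_one_iff _).1 h
  rw [Subgroup.mem_center_iff] at h1
  obtain ⟨a, b, c, d, hd, rfl⟩ := eq_q A
  have e1 := h1 (q 1 1 0 1 (by decide))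
  have e2 := h1 (q 1 0 1 1 (by decide))
  rw [q_mul, q_mul, q_eq] at e1 e2
  have hb : b = 0 := by linear_combination -e2.1
  have hc : c = 0 := by linear_combination e1.1
  have had : a = d := by linear_combination -e1.2.1
  subst hb hc had
  have h3 : a * a = 1 := by linear_combination hd
  rcases mul_self_eq_one_iff.1 h3 with rfl | rfl
  · left; exact one_q.symm
  · right; exact neg_one_q.symm

theorem π_eq {A B : S} (h : π A = π B) : A = B ∨ A = -B := by
  have h1 : π (A * B⁻¹) = 1 := by rw [map_mul, map_inv, h, mul_inv_cancel]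
  have h2 : A = (A * B⁻¹) * B := by group
  rcases π_eq_one h1 with h3 | h3
  · left; rw [h2, h3, one_mul]
  · right; rw [h2, h3, neg_one_mul]

/-! ### the elements -/

def X : S := q 1 1 0 1 (by decide)
def D : S := q 4 0 0 2 (by decide)
def I : S := q 3 1 4 4 (by decide)
def J : S := q 3 2 2 4 (by decide)
def W : S := q 0 2 3 0 (by decide)

theorem DX : D * X = X * X * D := by unfold D X; rewrite [q_mul, q_mul, q_mul, q_eq]; decide
theorem DDD : D * D * D = 1 := by unfold D; rewrite [q_mul, q_mul]; exact (q_eq.2 (by decide)).trans one_q.symm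
theorem II : I * I = -1 := by unfold I; rewrite [q_mul]; exact (q_eq.2 (by decide)).trans neg_one_q.symm
theorem IJ : I * J = -(J * I) := by unfold I J; rewrite [q_mul, q_mul, neg_q, q_eq]; decide
theorem DI : D * I = J * D := by unfold D I J; rewrite [q_mul, q_mul, q_eq]; decide
theorem DJ : D * J = -(I * J * D) := by unfold D I J; rewrite [q_mul, q_mul, q_mul, neg_q, q_eq]; decide
theorem WW : W * W = -1 := by unfold W; rewrite [q_mul]; exact (q_eq.2 (by decide)).trans neg_one_q.symm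
theorem WI : W * I = -(J * W) := by unfold W I J; rewrite [q_mul, q_mul, neg_q, q_eq]; decide
theorem WD : W * D * D = D * W := by unfold W D; rewrite [q_mul, q_mul, q_mul, q_eq]; decide

theorem X_pow (k : ℕ) : X ^ k = q 1 k 0 1 (by ring) := by
  induction k with
  | zero => rw [pow_zero]; exact one_q.trans (q_eq.2 (by simp))
  | succ k ih => rw [pow_succ, ih]; unfold X; rw [q_mul, q_eq]; push_cast; refine ⟨?_, ?_, ?_, ?_⟩ <;> ring

theorem X7 : X ^ 7 = 1 := by rewrite [X_pow, one_q, q_eq]; decide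

def fano : Fano T where
  x := π X
  d := π D
  i := π I
  j := π J
  s := π W
  hx := by rw [← map_pow, X7, map_one]
  hx1 := by
    intro h
    rcases π_eq_one h with h1 | h1
    · exact absurd (q_eq.1 (h1.trans one_q)) (by decide)
    · exact absurd (q_eq.1 (h1.trans neg_one_q)) (by decide)
  hd := by rw [← map_pow, pow_succ, pow_two, DDD, map_one]
  hdx := by
    rw [mul_inv_eq_iff_eq_mul, pow_two, ← map_mul, DX, map_mul, map_mul]
  hi := by rw [← map_mul, II, π_neg, map_one]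
  hi1 := by
    intro h
    rcases π_eq_one h with h1 | h1
    · exact absurd (q_eq.1 (h1.trans one_q)) (by decide)
    · exact absurd (q_eq.1 (h1.trans neg_one_q)) (by decide)
  hij := by rw [← map_mul, IJ, π_neg, map_mul]
  hne := by
    intro h
    rcases π_eq h with h1 | h1
    · unfold I J at h1; rewrite [q_eq] at h1; revert h1; decide
    · unfold I J at h1; rewrite [neg_q, q_eq] at h1; revert h1; decide
  hdi := by rw [mul_inv_eq_iff_eq_mul, ← map_mul, DI, map_mul]
  hdj := by rw [mul_inv_eq_iff_eq_mul, ← map_mul, DJ, π_neg, map_mul, map_mul]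
  hs := by rw [← map_mul, WW, π_neg, map_one]
  hsi := by rw [mul_inv_eq_iff_eq_mul, ← map_mul, WI, π_neg, map_mul]
  hsd := by
    have h1 : W * D * W⁻¹ = D⁻¹ := by
      rw [mul_inv_eq_iff_eq_mul, eq_inv_mul_iff_mul_eq, ← mul_assoc, ← WD]
      calc W * D * D * D = W * (D * D * D) := by group
        _ = W := by rw [DDD, mul_one]
    rw [← map_mul, ← map_inv, ← map_inv, ← map_mul, h1]

/-! ### conjugacy -/

theorem exists_cyclic' : ∀ a b c d : Fin 7, a * d - b * c = 1 → a + d ≠ 2 → a + d ≠ -2 →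
    ∃ p r : Fin 7, p * (c * p + d * r) - r * (a * p + b * r) = 1 := by decide +kernel

theorem exists_cyclic : ∀ a b c d : ZMod 7, a * d - b * c = 1 → a + d ≠ 2 → a + d ≠ -2 →
    ∃ p r : ZMod 7, p * (c * p + d * r) - r * (a * p + b * r) = 1 := exists_cyclic'

/-- companion matrix -/
def C (τ : ZMod 7) : S := q 0 (-1) 1 τ (by ring)

theorem isConj_C {a b c d : ZMod 7} {h : a * d - b * c = 1} (h1 : a + d ≠ 2) (h2 : a + d ≠ -2) :
    IsConj (C (a + d)) (q a b c d h) := by
  obtain ⟨p, r, hpr⟩ := exists_cyclic a b c d h h1 h2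
  refine isConj_iff.2 ⟨q p (a * p + b * r) r (c * p + d * r) (by linear_combination hpr), ?_⟩
  rw [mul_inv_eq_iff_eq_mul]
  unfold C
  rw [q_mul, q_mul, q_eq]
  refine ⟨by ring, ?_, by ring, ?_⟩
  · linear_combination p * h
  · linear_combination r * h

theorem isConj_of_trace {a b c d a' b' c' d' : ZMod 7} {h h'} (h1 : a + d ≠ 2) (h2 : a + d ≠ -2)
    (htr : a + d = a' + d') : IsConj (q a b c d h) (q a' b' c' d' h') := by
  have e1 := isConj_C (h := h) h1 h2
  have e2 := isConj_C (h := h') (htr ▸ h1) (htr ▸ h2)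
  rw [← htr] at e2
  exact e1.symm.trans e2

theorem unip' : ∀ a b c : Fin 7, a * (2 - a) - b * c = 1 →
    ∃ u v : Fin 7, (b = u * u ∧ c = -(v * v) ∧ a = 1 - u * v) ∨ (b = -(u * u) ∧ c = v * v ∧ a = 1 + u * v) := by
  decide +kernel

theorem unip : ∀ a b c : ZMod 7, a * (2 - a) - b * c = 1 →
    ∃ u v : ZMod 7, (b = u * u ∧ c = -(v * v) ∧ a = 1 - u * v) ∨ (b = -(u * u) ∧ c = v * v ∧ a = 1 + u * v) := unip'

theorem compl : ∀ u v : ZMod 7, (u ≠ 0 ∨ v ≠ 0) → ∃ s t : ZMod 7, u * t - s * v = 1 := by decide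

theorem X_inv : X⁻¹ = q 1 (-1) 0 1 (by decide) := by
  rw [inv_eq_iff_mul_eq_one]
  unfold X
  rewrite [q_mul]
  exact (q_eq.2 (by decide)).trans one_q.symm

theorem unip_conj {a b c d : ZMod 7} {h} (htr : a + d = 2) : q a b c d h = 1 ∨ IsConj X (q a b c d h) ∨
    IsConj X⁻¹ (q a b c d h) := by
  have hd : d = 2 - a := by linear_combination htr
  obtain ⟨u, v, huv⟩ := unip a b c (by rw [← hd]; exact h)
  by_cases h0 : u ≠ 0 ∨ v ≠ 0
  swap
  · left
    push Not at h0
    obtain ⟨rfl, rfl⟩ := h0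
    refine Eq.trans (q_eq.2 ?_) one_q.symm
    have h1 : a = 1 := by
      rcases huv with ⟨-, -, h1⟩ | ⟨-, -, h1⟩ <;> rw [h1] <;> ring
    subst h1
    refine ⟨rfl, ?_, ?_, by rw [hd]; ring⟩
    · rcases huv with ⟨h1, -, -⟩ | ⟨h1, -, -⟩ <;> rw [h1] <;> ring
    · rcases huv with ⟨-, h1, -⟩ | ⟨-, h1, -⟩ <;> rw [h1] <;> ring
  rcases huv with ⟨hb, hc, ha⟩ | ⟨hb, hc, ha⟩
  · obtain ⟨s, t, hst⟩ := compl u v h0
    replace hd : d = 1 + u * v := by linear_combination htr - ha
    right; left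
    refine isConj_iff.2 ⟨q u s v t hst, ?_⟩
    rw [mul_inv_eq_iff_eq_mul]
    unfold X
    rw [q_mul, q_mul, q_eq]
    subst ha hb hc hd
    refine ⟨by ring, ?_, by ring, ?_⟩
    · linear_combination (-u) * hst
    · linear_combination (-v) * hst
  · obtain ⟨s, t, hst⟩ := compl u v h0
    replace hd : d = 1 - u * v := by linear_combination htr - ha
    right; right
    refine isConj_iff.2 ⟨q u s v t hst, ?_⟩
    rw [mul_inv_eq_iff_eq_mul, X_inv, q_mul, q_mul, q_eq]
    subst ha hb hc hd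
    refine ⟨by ring, ?_, by ring, ?_⟩
    · linear_combination u * hst
    · linear_combination v * hst

theorem conj_map {A B : S} (h : IsConj A B) : IsConj (π A) (π B) := by
  obtain ⟨c, hc⟩ := isConj_iff.1 h
  exact isConj_iff.2 ⟨π c, by rw [← hc, map_mul, map_mul, map_inv]⟩

theorem involution_trace' : ∀ a b c d : Fin 7, a * d - b * c = 1 →
    ((a * a + b * c = 1 ∧ a * b + b * d = 0 ∧ c * a + d * c = 0 ∧ c * b + d * d = 1) ∨
     (a * a + b * c = -1 ∧ a * b + b * d = 0 ∧ c * a + d * c = 0 ∧ c * b + d * d = -1)) →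
    (a = 1 ∧ b = 0 ∧ c = 0 ∧ d = 1) ∨ (a = -1 ∧ b = 0 ∧ c = 0 ∧ d = -1) ∨ a + d = 0 := by decide +kernel

theorem involution_trace : ∀ a b c d : ZMod 7, a * d - b * c = 1 →
    ((a * a + b * c = 1 ∧ a * b + b * d = 0 ∧ c * a + d * c = 0 ∧ c * b + d * d = 1) ∨
     (a * a + b * c = -1 ∧ a * b + b * d = 0 ∧ c * a + d * c = 0 ∧ c * b + d * d = -1)) →
    (a = 1 ∧ b = 0 ∧ c = 0 ∧ d = 1) ∨ (a = -1 ∧ b = 0 ∧ c = 0 ∧ d = -1) ∨ a + d = 0 := involution_trace'

theorem inv_conj (t : T) (ht : t ^ 2 = 1) (ht1 : t ≠ 1) : IsConj (π I) t := by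
  obtain ⟨A, rfl⟩ := π_surj t
  obtain ⟨a, b, c, d, h, rfl⟩ := eq_q A
  rw [pow_two, ← map_mul] at ht
  have h2 := π_eq_one ht
  rewrite [q_mul] at h2
  replace h2 := h2.imp (fun e => q_eq.1 (e.trans one_q)) (fun e => q_eq.1 (e.trans neg_one_q))
  rcases involution_trace a b c d h (by
    rcases h2 with h3 | h3
    · exact Or.inl h3
    · exact Or.inr h3) with ⟨rfl, rfl, rfl, rfl⟩ | ⟨rfl, rfl, rfl, rfl⟩ | h3
  · exact absurd (by
      have : q 1 0 0 1 h = 1 := one_q.symm
      rw [this, map_one]) ht1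
  · exact absurd (by
      have : q (-1) 0 0 (-1) h = -1 := neg_one_q.symm
      rw [this, π_neg, map_one]) ht1
  · unfold I
    apply conj_map
    apply isConj_of_trace
    · decide
    · decide
    · rw [h3]; decide

theorem traces : ∀ τ : ZMod 7, τ = 0 ∨ (τ = 1 ∨ τ = -1) ∨ (τ = 2 ∨ τ = -2) ∨ (τ = 3 ∨ τ = -3) := by decide

theorem cyc3' : ∀ a b c d : Fin 7, a * d - b * c = 1 → a + d = -1 →
    (a * a + b * c) * a + (a * b + b * d) * c = 1 ∧ (a * a + b * c) * b + (a * b + b * d) * d = 0 ∧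
    (c * a + d * c) * a + (c * b + d * d) * c = 0 ∧ (c * a + d * c) * b + (c * b + d * d) * d = 1 := by decide +kernel

theorem cyc3 : ∀ a b c d : ZMod 7, a * d - b * c = 1 → a + d = -1 →
    (a * a + b * c) * a + (a * b + b * d) * c = 1 ∧ (a * a + b * c) * b + (a * b + b * d) * d = 0 ∧
    (c * a + d * c) * a + (c * b + d * d) * c = 0 ∧ (c * a + d * c) * b + (c * b + d * d) * d = 1 := cyc3'

theorem inv_q {a b c d : ZMod 7} {h} : (q a b c d h)⁻¹ = q d (-b) (-c) a (by linear_combination h) := by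
  rw [inv_eq_iff_mul_eq_one, q_mul]
  exact (q_eq.2 ⟨by linear_combination h, by ring, by ring, by linear_combination h⟩).trans one_q.symm

theorem cls_of_trace {a b c d : ZMod 7} {h} (htr : a + d = 0 ∨ a + d = -1 ∨ a + d = 2 ∨ a + d = -3) :
    (Odd (orderOf (π (q a b c d h))) ∧ ∀ k : ℕ, k.Coprime (orderOf (π (q a b c d h))) →
      IsConj ((π (q a b c d h)) ^ k) (π (q a b c d h))) ∨
    IsConj fano.x (π (q a b c d h)) ∨ IsConj fano.x⁻¹ (π (q a b c d h)) ∨
    IsConj (fano.s * fano.i) (π (q a b c d h)) ∨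
    ((π (q a b c d h)) ^ 2 = 1 ∧ π (q a b c d h) ≠ 1) := by
  rcases htr with htr | htr | htr | htr
  · right; right; right; right
    constructor
    · have h1 : q a b c d h * q a b c d h = -1 := by
        rewrite [q_mul]
        refine Eq.trans (q_eq.2 ⟨?_, ?_, ?_, ?_⟩) neg_one_q.symm
        · linear_combination a * htr - h
        · linear_combination b * htr
        · linear_combination c * htr
        · linear_combination d * htr - h
      rw [pow_two, ← map_mul, h1, π_neg, map_one]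
    · intro h1
      have h2 := π_eq_one h1
      replace h2 := h2.imp (fun e => q_eq.1 (e.trans one_q)) (fun e => q_eq.1 (e.trans neg_one_q))
      rcases h2 with ⟨rfl, -, -, rfl⟩ | ⟨rfl, -, -, rfl⟩
      · revert htr; decide
      · revert htr; decide
  · left
    set t := π (q a b c d h) with ht
    have h3 : t ^ 3 = 1 := by
      have h1 : q a b c d h * q a b c d h * q a b c d h = 1 := by
        rewrite [q_mul, q_mul]
        exact (q_eq.2 (cyc3 a b c d h htr)).trans one_q.symm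
      rw [ht, ← map_pow, pow_succ, pow_two, h1, map_one]
    have h1 : orderOf t ∣ 3 := orderOf_dvd_of_pow_eq_one h3
    refine ⟨Odd.of_dvd_nat (by decide) h1, ?_⟩
    have h4 : IsConj t⁻¹ t := by
      rw [ht, ← map_inv, inv_q]
      apply conj_map
      apply isConj_of_trace
      · rw [add_comm, htr]; decide
      · rw [add_comm, htr]; decide
      · ring
    have h5 : t⁻¹ = t ^ 2 := by rw [inv_eq_iff_mul_eq_one, ← pow_succ', h3]
    intro k hk
    have h6 : t ^ k = t ^ (k % 3) := by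
      conv_lhs => rw [← Nat.mod_add_div k 3, pow_add, pow_mul, h3, one_pow, mul_one]
    have h7 : k % 3 = 0 ∨ k % 3 = 1 ∨ k % 3 = 2 := by omega
    rcases h7 with h7 | h7 | h7
    · -- then `t = 1`
      have h8 : orderOf t ∣ k := h1.trans (Nat.dvd_of_mod_eq_zero h7)
      have h9 : orderOf t = 1 := Nat.eq_one_of_dvd_coprimes hk h8 dvd_rfl
      rw [orderOf_eq_one_iff.1 h9, one_pow]
    · rw [h6, h7, pow_one]
    · rw [h6, h7, ← h5]; exact h4
  · rcases unip_conj (h := h) htr with h1 | h1 | h1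
    · left
      rw [h1, map_one, orderOf_one]
      exact ⟨odd_one, fun k _ => by rw [one_pow]⟩
    · right; left
      exact conj_map h1
    · right; right; left
      have := conj_map h1
      rw [map_inv] at this
      exact this
  · right; right; right; left
    change IsConj (π W * π I) _
    rw [← map_mul]
    unfold W I
    rw [q_mul]
    apply conj_map
    apply isConj_of_trace
    · decide
    · decide
    · rw [htr]; decide

theorem card_T : Nat.card T = 8 * 21 := by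
  have h1 := ClassicalGeometry.PSL2Basic.card_PSL2_odd (F := ZMod 7) (by rw [ZMod.card]; decide)
  rw [ZMod.card] at h1
  have h2 : Nat.card T * 2 = 336 := h1
  omega

/-- `PSL₂(7)` with all the facts. -/
def seven : SevenType T :=
  { fano with
    m := 21
    card := card_T
    odd := by decide
    inv := inv_conj
    cls := by
      intro t
      have key : (Odd (orderOf t) ∧ ∀ k : ℕ, k.Coprime (orderOf t) → IsConj (t ^ k) t) ∨
          IsConj fano.x t ∨ IsConj fano.x⁻¹ t ∨ IsConj (fano.s * fano.i) t ∨ (t ^ 2 = 1 ∧ t ≠ 1) := by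
        obtain ⟨A, rfl⟩ := π_surj t
        obtain ⟨a, b, c, d, h, rfl⟩ := eq_q A
        have h1 : π (q a b c d h) = π (q (-a) (-b) (-c) (-d) (by linear_combination h)) := by
          rw [← neg_q, π_neg]
        rcases traces (a + d) with h2 | (h2 | h2) | (h2 | h2) | (h2 | h2)
        · exact cls_of_trace (Or.inl h2)
        · rw [h1]; exact cls_of_trace (Or.inr (Or.inl (by linear_combination -h2)))
        · exact cls_of_trace (Or.inr (Or.inl h2))
        · exact cls_of_trace (Or.inr (Or.inr (Or.inl h2)))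
        · rw [h1]; exact cls_of_trace (Or.inr (Or.inr (Or.inl (by linear_combination -h2))))
        · rw [h1]; exact cls_of_trace (Or.inr (Or.inr (Or.inr (by linear_combination -h2))))
        · exact cls_of_trace (Or.inr (Or.inr (Or.inr h2)))
      rcases key with h1 | h1 | h1 | h1 | ⟨h1, h2⟩
      · exact Or.inl h1
      · exact Or.inr (Or.inl h1)
      · exact Or.inr (Or.inr (Or.inl h1))
      · exact Or.inr (Or.inr (Or.inr (Or.inl h1)))
      · exact Or.inr (Or.inr (Or.inr (Or.inr ((fano.dih 21 card_T (by decide) inv_conj).mixed_of_sq h1 h2)))) }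

/-! ### the Bruhat decomposition -/

theorem bruhat_big' : ∀ a b c d : Fin 7, a * d - b * c = 1 → c ≠ 0 → ∃ l : Fin 3, ∃ k m : Fin 7, ∃ ε : Fin 2,
    (-1) ^ (ε : ℕ) * a = k * (3 * 2 ^ (l : ℕ)) ∧
    (-1) ^ (ε : ℕ) * b = k * (3 * 2 ^ (l : ℕ)) * m + 2 * 4 ^ (l : ℕ) ∧
    (-1) ^ (ε : ℕ) * c = 3 * 2 ^ (l : ℕ) ∧ (-1) ^ (ε : ℕ) * d = (3 * 2 ^ (l : ℕ)) * m := by decide +kernel

theorem bruhat_big : ∀ a b c d : ZMod 7, a * d - b * c = 1 → c ≠ 0 → ∃ l : Fin 3, ∃ k m : ZMod 7, ∃ ε : Fin 2,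
    (-1) ^ (ε : ℕ) * a = k * (3 * 2 ^ (l : ℕ)) ∧
    (-1) ^ (ε : ℕ) * b = k * (3 * 2 ^ (l : ℕ)) * m + 2 * 4 ^ (l : ℕ) ∧
    (-1) ^ (ε : ℕ) * c = 3 * 2 ^ (l : ℕ) ∧ (-1) ^ (ε : ℕ) * d = (3 * 2 ^ (l : ℕ)) * m := bruhat_big'

theorem bruhat_small' : ∀ a b d : Fin 7, a * d = 1 → ∃ l : Fin 3, ∃ k : Fin 7, ∃ ε : Fin 2,
    (-1) ^ (ε : ℕ) * a = 4 ^ (l : ℕ) ∧ (-1) ^ (ε : ℕ) * b = k * 2 ^ (l : ℕ) ∧
    (-1) ^ (ε : ℕ) * d = 2 ^ (l : ℕ) := by decide +kernel

theorem bruhat_small : ∀ a b d : ZMod 7, a * d = 1 → ∃ l : Fin 3, ∃ k : ZMod 7, ∃ ε : Fin 2,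
    (-1) ^ (ε : ℕ) * a = 4 ^ (l : ℕ) ∧ (-1) ^ (ε : ℕ) * b = k * 2 ^ (l : ℕ) ∧
    (-1) ^ (ε : ℕ) * d = 2 ^ (l : ℕ) := bruhat_small'

theorem D_pow (l : ℕ) : D ^ l = q (4 ^ l) 0 0 (2 ^ l) (by
    rw [← mul_pow, show (4 : ZMod 7) * 2 = 1 from by decide, one_pow]; ring) := by
  induction l with
  | zero => rw [pow_zero]; exact one_q.trans (q_eq.2 (by simp))
  | succ l ih => rw [pow_succ, ih]; unfold D; rw [q_mul, q_eq]; refine ⟨?_, ?_, ?_, ?_⟩ <;> ring

theorem π_sign (ε : ℕ) {a b c d : ZMod 7} {h} (h' : (-1) ^ ε * a * ((-1) ^ ε * d) - (-1) ^ ε * b * ((-1) ^ ε * c) = 1) :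
    π (q a b c d h) = π (q ((-1) ^ ε * a) ((-1) ^ ε * b) ((-1) ^ ε * c) ((-1) ^ ε * d) h') := by
  rcases Nat.even_or_odd ε with he | he
  · congr 1
    rw [q_eq, he.neg_one_pow]
    simp
  · rw [← π_neg, neg_q]
    congr 1
    rw [q_eq, he.neg_one_pow]
    simp

theorem bruhat (t : T) : (∃ k l : ℕ, t = seven.x ^ k * seven.d ^ l) ∨
    ∃ k l m : ℕ, t = seven.x ^ k * seven.d ^ l * seven.s * seven.x ^ m := by
  obtain ⟨A, rfl⟩ := π_surj t
  obtain ⟨a, b, c, d, h, rfl⟩ := eq_q A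
  change (∃ k l : ℕ, _ = π X ^ k * π D ^ l) ∨ ∃ k l m : ℕ, _ = π X ^ k * π D ^ l * π W * π X ^ m
  have hdet : ∀ ε : ℕ, (-1) ^ ε * a * ((-1) ^ ε * d) - (-1) ^ ε * b * ((-1) ^ ε * c) = 1 := by
    intro ε
    have h1 : ((-1 : ZMod 7) ^ ε) ^ 2 = 1 := by rw [← pow_mul, mul_comm, pow_mul]; simp
    linear_combination (a * d - b * c) * h1 + h
  by_cases hc : c = 0
  · left
    subst hc
    obtain ⟨l, k, ε, h1, h2, h3⟩ := bruhat_small a b d (by linear_combination h)
    refine ⟨k.val, l, ?_⟩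
    rw [π_sign ε (hdet ε), ← map_pow, ← map_pow, ← map_mul, X_pow, D_pow, q_mul]
    congr 1
    rw [q_eq, h1, h2, h3, ZMod.natCast_zmod_val]
    refine ⟨?_, ?_, ?_, ?_⟩ <;> ring
  · right
    obtain ⟨l, k, m, ε, h1, h2, h3, h4⟩ := bruhat_big a b c d h hc
    refine ⟨k.val, l, m.val, ?_⟩
    rw [π_sign ε (hdet ε), ← map_pow, ← map_pow, ← map_pow, ← map_mul, ← map_mul, ← map_mul, X_pow, D_pow, X_pow, q_mul]
    unfold W
    rw [q_mul, q_mul]
    congr 1
    rw [q_eq, h1, h2, h3, h4, ZMod.natCast_zmod_val, ZMod.natCast_zmod_val]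
    refine ⟨?_, ?_, ?_, ?_⟩ <;> ring

theorem sxs (m : ℕ) (h0 : 0 < m) (h7 : m < 7) :
    ¬ ∃ k l : ℕ, seven.s * seven.x ^ m * seven.s = seven.x ^ k * seven.d ^ l := by
  rintro ⟨k, l, h⟩
  change π W * π X ^ m * π W = π X ^ k * π D ^ l at h
  rw [← map_pow, ← map_pow, ← map_pow, ← map_mul, ← map_mul, ← map_mul, X_pow, D_pow, X_pow, q_mul] at h
  unfold W at h
  rw [q_mul, q_mul] at h
  have h1 : (m : ZMod 7) ≠ 0 := by
    intro h'
    rw [ZMod.natCast_eq_zero_iff] at h'
    exact absurd (Nat.le_of_dvd h0 h') (by omega)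
  have h2 : (2 : ZMod 7) * m = 0 := by
    rcases π_eq h with h3 | h3
    · have := (q_eq.1 h3).2.2.1
      have h9 : (9 : ZMod 7) = 2 := by decide
      rw [← h9]
      linear_combination this
    · rw [neg_q] at h3
      have := (q_eq.1 h3).2.2.1
      have h9 : (9 : ZMod 7) = 2 := by decide
      rw [← h9]
      linear_combination this
  rcases mul_eq_zero.1 h2 with h3 | h3
  · exact absurd h3 (by decide)
  · exact h1 h3

end Cfsg.Agent.H908.Psl7
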