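import Cfsg.Agent.H908.AltFacts
import Cfsg.Agent.H908.NoTrivL
import Cfsg.Agent.H908.PslSeven

/-!
# Traces for `A₅`, `A₆`, `A₇`, `PSL₂(7)` in dimension four, odd characteristic
-/

set_option autoImplicit false
set_option linter.unusedSectionVars false

namespace Cfsg.Agent.H908

open Cfsg Cfsg.Geo Module
open scoped MatrixGroups commutatorElement

variable {F : Type*} [Field F] [Finite F] {P : Subgroup (GL (Fin 4) F)}

/-- `A₆`: all traces are real. -/
theorem a6_real (h2 : (2 : F) ≠ 0) {φ : P →* Alt.A6} (h : Cov P φ) : ∀ y : P, tr y⁻¹ = tr y := by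
  intro y
  refine h.dih_real h2 Alt.dih6 (fun _ => True) (fun y _ => ?_) (fun _ y _ => Alt.real_A6 _) y trivial
  rcases Alt.cls_A6 (φ y) with h1 | h1 | h1
  · exact Or.inl ⟨h1, Alt.real_A6 _⟩
  · exact Or.inr (Or.inl h1)
  · exact Or.inr (Or.inr h1)

/-- `A₅`: all traces are real. -/
theorem a5_real (h2 : (2 : F) ≠ 0) {φ : P →* Alt.A5} (h : Cov P φ) : ∀ y : P, tr y⁻¹ = tr y := by
  have hfin : Finite P := Cov.finite_P (P := P)
  obtain ⟨u, hu⟩ := h.surj Alt.a5
  obtain ⟨v, hv⟩ := h.surj Alt.b5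
  -- the Sylow 2-subgroup
  let D : Subgroup Alt.A5 :=
    { carrier := {t | ∃ i j : ℕ, t = Alt.a5 ^ i * Alt.b5 ^ j}
      mul_mem' := by
        rintro _ _ ⟨i, j, rfl⟩ ⟨i', j', rfl⟩
        have hc : Commute Alt.a5 Alt.b5 := by change Alt.a5 * Alt.b5 = Alt.b5 * Alt.a5; decide
        refine ⟨i + i', j + j', ?_⟩
        rw [pow_add, pow_add]
        calc Alt.a5 ^ i * Alt.b5 ^ j * (Alt.a5 ^ i' * Alt.b5 ^ j') = Alt.a5 ^ i * (Alt.b5 ^ j * Alt.a5 ^ i') * Alt.b5 ^ j' := by group
          _ = Alt.a5 ^ i * (Alt.a5 ^ i' * Alt.b5 ^ j) * Alt.b5 ^ j' := by rw [(hc.symm.pow_pow j i').eq]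
          _ = _ := by group
      one_mem' := ⟨0, 0, by simp⟩
      inv_mem' := by
        rintro _ ⟨i, j, rfl⟩
        have hc : Commute Alt.a5 Alt.b5 := by change Alt.a5 * Alt.b5 = Alt.b5 * Alt.a5; decide
        refine ⟨i, j, ?_⟩
        have h1 : (Alt.b5 ^ j)⁻¹ = Alt.b5 ^ j := by
          rw [inv_eq_iff_mul_eq_one, ← pow_add, ← two_mul, pow_mul, show Alt.b5 ^ 2 = 1 by decide, one_pow]
        have h2 : (Alt.a5 ^ i)⁻¹ = Alt.a5 ^ i := by
          rw [inv_eq_iff_mul_eq_one, ← pow_add, ← two_mul, pow_mul, show Alt.a5 ^ 2 = 1 by decide, one_pow]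
        rw [mul_inv_rev, h1, h2, (hc.symm.pow_pow j i).eq] }
  have haD : Alt.a5 ∈ D := ⟨1, 0, by simp⟩
  have hbD : Alt.b5 ∈ D := ⟨0, 1, by simp⟩
  have hD : IsPGroup 2 D := by
    rintro ⟨_, i, j, rfl⟩
    refine ⟨1, Subtype.ext ?_⟩
    have hc : Commute Alt.a5 Alt.b5 := by change Alt.a5 * Alt.b5 = Alt.b5 * Alt.a5; decide
    change (Alt.a5 ^ i * Alt.b5 ^ j) ^ 2 ^ 1 = 1
    rw [pow_one, (hc.pow_pow i j).mul_pow, ← pow_mul, ← pow_mul, mul_comm i, mul_comm j, pow_mul, pow_mul,
      show Alt.a5 ^ 2 = 1 by decide, show Alt.b5 ^ 2 = 1 by decide, one_pow, one_pow, one_mul]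
  have hidx : ¬ 2 ∣ D.index := by
    have hfac : Fact (Nat.Prime 2) := ⟨Nat.prime_two⟩
    obtain ⟨n, hn⟩ := IsPGroup.iff_card.1 hD
    have hn2 : 2 ≤ n := by
      by_contra hlt
      have hcard : Nat.card D ≤ 2 := by
        rw [hn]
        calc 2 ^ n ≤ 2 ^ 1 := Nat.pow_le_pow_right (by norm_num) (by omega)
          _ = 2 := by norm_num
      have h4 : Subgroup.zpowers Alt.a5 ≤ D := by rwa [Subgroup.zpowers_le]
      have h5 : Nat.card (Subgroup.zpowers Alt.a5) = 2 := by
        rw [Nat.card_zpowers]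
        exact Alt.order_of_pow Nat.prime_two (by decide) (by decide)
      have h7 : Subgroup.zpowers Alt.a5 = D := Subgroup.eq_of_le_of_card_ge h4 (by rw [h5]; exact hcard)
      have h8 : Alt.b5 ∈ Subgroup.zpowers Alt.a5 := by rw [h7]; exact hbD
      obtain ⟨k, hk⟩ := Subgroup.mem_zpowers_iff.1 h8
      rcases Int.even_or_odd' k with ⟨m, hm | hm⟩
      · rw [hm, zpow_mul, show Alt.a5 ^ (2 : ℤ) = 1 by decide, one_zpow] at hk
        exact absurd hk (by decide)
      · rw [hm, zpow_add, zpow_mul, show Alt.a5 ^ (2 : ℤ) = 1 by decide, one_zpow, one_mul, zpow_one] at hk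
        exact absurd hk (by decide)
    intro hdvd
    have h8 : Nat.card D * D.index = 4 * 15 := by rw [← Alt.card_A5, Subgroup.card_mul_index]
    obtain ⟨e, he⟩ := hdvd
    obtain ⟨f, hf⟩ : (4 : ℕ) ∣ Nat.card D := by
      rw [hn, show (4 : ℕ) = 2 ^ 2 by norm_num]
      exact pow_dvd_pow 2 hn2
    rw [hf, he] at h8
    have h9 : 15 = 2 * (f * e) := by nlinarith
    omega
  have key : ∀ x : P, φ x = 1 → x = 1 ∨ x = ⁅v, u⁆ := by
    intro x hx
    refine ker_of_klein h.perf h.surj h.ker_le_center h.isPGroup_ker hD hidx (a := u) (b := v)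
      (by rwa [hu]) (by rwa [hv]) (by rw [hu, hv]; exact fun t ht => ht) (by rw [hu]; decide)
      (by rw [hu, hv]; decide) hx
  intro y
  by_cases hinj : Function.Injective φ
  · obtain ⟨g, hg⟩ := isConj_iff.1 (Alt.real_A5 (φ y))
    obtain ⟨x, rfl⟩ := h.surj g
    have : x * y * x⁻¹ = y⁻¹ := by
      apply hinj
      rw [map_mul, map_mul, map_inv, map_inv, hg]
    rw [← this, tr_conj]
  · -- the commutator is not trivial
    have hc1 : ⁅v, u⁆ ≠ 1 := by
      intro hc
      apply hinj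
      rw [injective_iff_map_eq_one]
      intro x hx
      rcases key x hx with h3 | h3
      · exact h3
      · rw [h3, hc]
    have anti : mt P v * mt P u = -(mt P u * mt P v) := by
      rcases h.comm_or_anti (x := v) (y := u) (by rw [hu, hv]; decide) (by rw [hv]; decide) with h3 | h3
      · exfalso
        apply hc1
        rw [commutatorElement_eq_one_iff_mul_comm]
        apply mt_injective
        rw [map_mul, map_mul, h3]
      · exact h3
    have hm1 : mt P ⁅v, u⁆ = -1 := by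
      have h3 : ⁅v, u⁆ = (v * u) * (u * v)⁻¹ := by rw [commutatorElement_def]; group
      rw [h3, map_mul, map_mul, anti, neg_mul, ← map_mul, ← map_mul, mul_inv_cancel, map_one]
    have hPm : Pm φ := by
      intro x hx
      rcases key x hx with h3 | h3
      · left; rw [h3, map_one]
      · right; rw [h3, hm1]
    rcases Alt.cls_A5 (φ y) with h3 | h3
    · exact h.tr_inv_of_odd hPm h3 (Alt.real_A5 _)
    · -- lifts of involutions have trace zero
      have hu0 : tr u = 0 := h.tr_zero_of_anti h2 (y := v) (by rw [anti, neg_neg])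
      have gen : ∀ y : P, IsConj Alt.a5 (φ y) → tr y = 0 := by
        intro y hy
        obtain ⟨g, hg⟩ := isConj_iff.1 hy
        obtain ⟨x, rfl⟩ := h.surj g
        have hk : φ (y * (x * u * x⁻¹)⁻¹) = 1 := by
          rw [map_mul, map_inv, map_mul, map_mul, map_inv, hu, hg, mul_inv_cancel]
        have hy' : y = (y * (x * u * x⁻¹)⁻¹) * (x * u * x⁻¹) := by group
        have h3 : tr y = tr u ∨ tr y = - tr u := by
          rcases hPm _ hk with h4 | h4
          · left
            rw [← tr_conj x u]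
            unfold tr
            conv_lhs => rw [hy', map_mul, h4, one_mul]
          · right
            rw [← tr_conj x u]
            unfold tr
            conv_lhs => rw [hy', map_mul, h4, neg_one_mul, Matrix.trace_neg]
        rcases h3 with h3 | h3
        · rw [h3, hu0]
        · rw [h3, hu0, neg_zero]
      rw [gen y h3, gen y⁻¹ (by
        rw [map_inv]
        have h4 := isConj_inv_inv h3
        rwa [show Alt.a5⁻¹ = Alt.a5 by decide] at h4)]

/-- `A₇` has no faithful representation of degree four in odd characteristic with trivial scalars. -/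
theorem a7_not_injective (h2 : (2 : F) ≠ 0) {φ : P →* Alt.A7} (h : Cov P φ) : ¬ Function.Injective φ := by
  intro hinj
  obtain ⟨u, hu⟩ := h.surj Alt.u7
  obtain ⟨w, hw⟩ := h.surj Alt.w7
  obtain ⟨c, hc⟩ := h.surj Alt.c3
  obtain ⟨d, hd⟩ := h.surj (Alt.mk (Equiv.swap 4 5 * Equiv.swap 5 6) (by decide))
  set e := ext (F := F) F with he
  have eq : ∀ {a b : P}, φ a = φ b → e (mt P a) = e (mt P b) := fun hab => by rw [hinj hab]
  have mul : ∀ a b : P, e (mt P (a * b)) = e (mt P a) * e (mt P b) := fun a b => by rw [map_mul, map_mul]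
  have one : e (mt P 1) = 1 := by rw [map_one, map_one]
  have inj : ∀ {a b : P}, e (mt P a) = e (mt P b) → a = b := fun hab => mt_injective (ext_injective F hab)
  have tre : ∀ a : P, LinearMap.trace F _ (e (mt P a)) = tr a := fun a => by
    rw [he, trace_ext]; rfl
  have det : ∀ a : P, LinearMap.det (e (mt P a)) = 1 := fun a => by
    rw [he, det_ext, h.det, map_one]
  have h4 : finrank F (Fin 4 → F) = 4 := by simp
  refine no_three (K := F) (V := Fin 4 → F) h2 h4 (U := e (mt P u)) (W := e (mt P w)) (D := e (mt P d))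
    (D' := e (mt P d⁻¹)) (C := e (mt P c)) ?_ ?_ ?_ ?_ ?_ ?_ ?_ ?_ ?_ ?_ ?_ ?_ ?_ ?_
  · rw [← mul, ← one]; exact eq (by rw [map_mul, hu, map_one]; decide)
  · rw [← mul, ← one]; exact eq (by rw [map_mul, hw, map_one]; decide)
  · rw [← mul, ← mul]; exact eq (by rw [map_mul, map_mul, hu, hw]; decide)
  · rw [← mul, mul_inv_cancel, one]
  · rw [← mul, inv_mul_cancel, one]
  · rw [← mul, ← mul]; exact eq (by rw [map_mul, map_mul, hu, hw, hd]; decide)
  · rw [← mul, ← mul, ← mul]; exact eq (by rw [map_mul, map_mul, map_mul, hu, hw, hd]; decide)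
  · rw [← mul, ← mul]; exact eq (by rw [map_mul, map_mul, hu, hc]; decide)
  · rw [← mul, ← mul]; exact eq (by rw [map_mul, map_mul, hw, hc]; decide)
  · rw [← mul, ← mul]; exact eq (by rw [map_mul, map_mul, hd, hc]; decide)
  · rw [← mul, ← mul, ← one]; exact eq (by rw [map_mul, map_mul, hc, map_one]; decide)
  · intro h'
    rw [← one] at h'
    have := congrArg φ (inj h')
    rw [hc, map_one] at this
    exact absurd this (by decide)
  · apply inv_trace_zero h2 h4
    · rw [← mul, ← one]; exact eq (by rw [map_mul, hu, map_one]; decide)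
    · exact det u
    · intro h'
      rw [← one] at h'
      have := congrArg φ (inj h')
      rw [hu, map_one] at this
      exact absurd this (by decide)
    · intro h'
      have h5 : mt P u = -1 := by
        apply ext_injective F
        rw [map_neg, map_one]
        exact h'
      have h6 : φ u = 1 := (h.ker u).2 ⟨-1, by rw [h5, neg_one_smul]⟩
      rw [hu] at h6
      exact absurd h6 (by decide)
  · rw [← mul, tre, tre]
    have h5 : IsConj (φ c) (φ (c * c)) := by
      rw [map_mul, hc]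
      exact isConj_iff.2 ⟨Alt.mk (Equiv.swap 1 2 * Equiv.swap 3 4) (by decide), by decide⟩
    obtain ⟨g, hg⟩ := isConj_iff.1 h5
    obtain ⟨x, rfl⟩ := h.surj g
    have : x * c * x⁻¹ = c * c := by
      apply hinj
      rw [map_mul, map_mul, map_inv, hg]
    rw [← this, tr_conj]

/-- **`A₇`.** -/
theorem a7_traces (h2 : (2 : F) ≠ 0) {φ : P →* Alt.A7} (h : Cov P φ) (p : ℕ) [Fact p.Prime] [CharP F p]
    (y : P) (hy : (orderOf y).Coprime p) :
    (p = 7 → tr y⁻¹ = tr y) ∧ (p % 7 = 1 ∨ p % 7 = 2 ∨ p % 7 = 4 → tr y ^ p = tr y) ∧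
      (p % 7 = 3 ∨ p % 7 = 5 ∨ p % 7 = 6 → tr y ^ p = tr y⁻¹) :=
  h.seven_traces h2 Alt.seven (a7_not_injective h2 h) p y hy

/-- **`PSL₂(7)`.** -/
theorem l7_traces (h2 : (2 : F) ≠ 0) (h7 : (7 : F) ≠ 0) (hP : ActsAbsolutelyIrreducibly (matrixSet P))
    {φ : P →* Psl7.T} (h : Cov P φ) (p : ℕ) [Fact p.Prime] [CharP F p]
    (y : P) (hy : (orderOf y).Coprime p) :
    (p % 7 = 1 ∨ p % 7 = 2 ∨ p % 7 = 4 → tr y ^ p = tr y) ∧
      (p % 7 = 3 ∨ p % 7 = 5 ∨ p % 7 = 6 → tr y ^ p = tr y⁻¹) :=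
  (h.seven_traces h2 Psl7.seven (fun hinj => no_fano h hinj hP h7 Psl7.seven.toFano Psl7.bruhat Psl7.sxs) p y hy).2

end Cfsg.Agent.H908
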