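import Cfsg.Agent.H908.SevenTr

/-!
# All traces for `A₇` and `L₂(7)` in dimension four, non-trivial centre
-/

set_option autoImplicit false
set_option linter.unusedSectionVars false

namespace Cfsg.Agent.H908

open Cfsg Cfsg.Geo
open scoped MatrixGroups commutatorElement

/-- The facts on the simple group which are needed. -/
structure SevenType (T : Type*) [Group T] extends Fano T where
  m : ℕ
  card : Nat.card T = 8 * m
  odd : Odd m
  inv : ∀ t : T, t ^ 2 = 1 → t ≠ 1 → IsConj i t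
  cls : ∀ t : T, (Odd (orderOf t) ∧ ∀ k : ℕ, k.Coprime (orderOf t) → IsConj (t ^ k) t) ∨
    IsConj x t ∨ IsConj x⁻¹ t ∨ IsConj (s * i) t ∨ DihType.Mixed t

namespace Fano

variable {T : Type*} [Group T] (D : Fano T)

theorem conj_x (k : ℕ) : IsConj (D.x ^ k) (D.x ^ (2 * k)) := by
  refine isConj_iff.2 ⟨D.d, ?_⟩
  rw [← conj_pow, D.hdx, pow_mul]

theorem orderOf_x : orderOf D.x = 7 := by
  have : Fact (Nat.Prime 7) := ⟨by norm_num⟩
  exact orderOf_eq_prime D.hx D.hx1

theorem pow_mod (k : ℕ) : D.x ^ k = D.x ^ (k % 7) := by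
  conv_lhs => rw [← Nat.mod_add_div k 7, pow_add, pow_mul, D.hx, one_pow, mul_one]

theorem isConj_pow {k : ℕ} (hk : k % 7 = 1 ∨ k % 7 = 2 ∨ k % 7 = 4) : IsConj (D.x ^ k) D.x := by
  rw [D.pow_mod]
  rcases hk with h | h | h <;> rw [h]
  · rw [pow_one]
  · have := D.conj_x 1
    rw [pow_one] at this
    exact this.symm
  · have h1 := D.conj_x 1
    have h2 := D.conj_x 2
    rw [pow_one] at h1
    exact (h1.trans h2).symm

theorem isConj_pow_inv {k : ℕ} (hk : k % 7 = 3 ∨ k % 7 = 5 ∨ k % 7 = 6) : IsConj (D.x ^ k) D.x⁻¹ := by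
  have h6 : D.x⁻¹ = D.x ^ 6 := by rw [inv_eq_iff_mul_eq_one, ← pow_succ', D.hx]
  rw [D.pow_mod, h6]
  rcases hk with h | h | h <;> rw [h]
  · exact D.conj_x 3
  · have h1 := D.conj_x 5
    have h2 := D.conj_x 10
    rw [D.pow_mod (2 * 10)] at h2
    exact h1.trans h2

theorem isConj_si : IsConj (D.s * D.i) (D.s * D.i)⁻¹ := by
  refine isConj_iff.2 ⟨D.i, ?_⟩
  have h1 : D.s⁻¹ = D.s := inv_eq_of_mul_eq_one_left D.hs
  have h2 : D.i⁻¹ = D.i := inv_eq_of_mul_eq_one_left D.hi
  rw [mul_inv_rev, h1, h2]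
  calc D.i * (D.s * D.i) * D.i = D.i * D.s * (D.i * D.i) := by group
    _ = D.i * D.s := by rw [D.hi, mul_one]

end Fano

theorem isConj_inv_inv {T : Type*} [Group T] {a b : T} (h : IsConj a b) : IsConj a⁻¹ b⁻¹ := by
  obtain ⟨c, hc⟩ := isConj_iff.1 h
  exact isConj_iff.2 ⟨c, by rw [← hc]; group⟩

theorem isConj_pow_pow {T : Type*} [Group T] {a b : T} (h : IsConj a b) (k : ℕ) : IsConj (a ^ k) (b ^ k) := by
  obtain ⟨c, hc⟩ := isConj_iff.1 h
  exact isConj_iff.2 ⟨c, by rw [← hc, conj_pow]⟩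

theorem orderOf_of_isConj {T : Type*} [Group T] {a b : T} (h : IsConj a b) : orderOf a = orderOf b := by
  obtain ⟨c, hc⟩ := isConj_iff.1 h
  rw [← hc]
  have := MulAut.conj c
  exact (MulEquiv.orderOf_eq (MulAut.conj c) a).symm

/-- a rational element of odd order is real -/
theorem real_of_rational {T : Type*} [Group T] {t : T} (ho : Odd (orderOf t))
    (h : ∀ k : ℕ, k.Coprime (orderOf t) → IsConj (t ^ k) t) : IsConj t t⁻¹ := by
  have h1 : t ^ (orderOf t - 1) = t⁻¹ := by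
    rw [eq_inv_iff_mul_eq_one, ← pow_succ, Nat.sub_add_cancel ho.pos, pow_orderOf_eq_one]
  have h2 := h (orderOf t - 1) (by
    have := Nat.coprime_self_sub_right (m := 1) (n := orderOf t) ho.pos
    exact (this.2 (Nat.coprime_one_right _)).symm)
  rw [h1] at h2
  exact h2.symm

namespace Cov

variable {F : Type*} [Field F] {T : Type*} [Group T] {P : Subgroup (GL (Fin 4) F)} {φ : P →* T}

/-- **Traces.** -/
theorem seven_traces [Finite F] (h : Cov P φ) (h2 : (2 : F) ≠ 0) (D : SevenType T) (hni : ¬ Function.Injective φ)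
    (p : ℕ) [hp : Fact p.Prime] [CharP F p] (y : P) (hy : (orderOf y).Coprime p) :
    (p = 7 → tr y⁻¹ = tr y) ∧ (p % 7 = 1 ∨ p % 7 = 2 ∨ p % 7 = 4 → tr y ^ p = tr y) ∧
      (p % 7 = 3 ∨ p % 7 = 5 ∨ p % 7 = 6 → tr y ^ p = tr y⁻¹) := by
  rcases h.dih_two (D.toFano.dih D.m D.card D.odd D.inv) with hi | ⟨t, ht⟩
  · exact absurd hi hni
  have hpodd : Odd p := by
    refine hp.out.odd_of_ne_two ?_
    rintro rfl
    exact h2 (by
      have := CharP.cast_eq_zero F 2
      exact_mod_cast this)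
  have hpz : p ≠ 0 := hp.out.ne_zero
  have hphi : (orderOf (φ y)).Coprime p := Nat.Coprime.coprime_dvd_left (orderOf_map_dvd φ y) hy
  rcases D.cls (φ y) with ⟨ho, hr⟩ | hx | hx | hsi | hm
  · have e1 : tr y⁻¹ = tr y := h.tr_inv_of_odd t.pm ho (real_of_rational ho hr)
    have e2 : tr y ^ p = tr y := h.tr_pow_of_odd t.pm p hpodd ho (hr p hphi.symm)
    exact ⟨fun _ => e1, fun _ => e2, fun _ => by rw [e1, e2]⟩
  · have ho : orderOf (φ y) = 7 := by rw [← orderOf_of_isConj hx, D.orderOf_x]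
    have ho' : Odd (orderOf (φ y)) := by rw [ho]; decide
    refine ⟨?_, ?_, ?_⟩
    · rintro rfl
      rw [ho] at hphi
      exact absurd hphi (by decide)
    · intro h7
      exact h.tr_pow_of_odd t.pm p hpodd ho' (((isConj_pow_pow hx p).symm.trans (D.isConj_pow h7)).trans hx)
    · intro h7
      exact h.tr_pow_inv_of_odd t.pm p hpodd ho'
        (((isConj_pow_pow hx p).symm.trans (D.isConj_pow_inv h7)).trans (isConj_inv_inv hx))
  · have ho : orderOf (φ y) = 7 := by rw [← orderOf_of_isConj hx, orderOf_inv, D.orderOf_x]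
    have ho' : Odd (orderOf (φ y)) := by rw [ho]; decide
    refine ⟨?_, ?_, ?_⟩
    · rintro rfl
      rw [ho] at hphi
      exact absurd hphi (by decide)
    · intro h7
      refine h.tr_pow_of_odd t.pm p hpodd ho' (((isConj_pow_pow hx p).symm.trans ?_).trans hx)
      rw [inv_pow]
      exact isConj_inv_inv (D.isConj_pow h7)
    · intro h7
      refine h.tr_pow_inv_of_odd t.pm p hpodd ho' (((isConj_pow_pow hx p).symm.trans ?_).trans (isConj_inv_inv hx))
      rw [inv_pow]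
      exact isConj_inv_inv (D.isConj_pow_inv h7)
  · by_cases hp7 : p = 7
    · subst hp7
      refine ⟨fun _ => Two.tr_a h (D.toFano.dih D.m D.card D.odd D.inv) ht hsi, fun h' => ?_, fun h' => ?_⟩
      · omega
      · omega
    · have h7 : (7 : F) ≠ 0 := by
        intro h'
        have h3 : ((7 : ℕ) : F) = 0 := by exact_mod_cast h'
        have h4 := (CharP.cast_eq_zero_iff F p 7).1 h3
        rcases (Nat.dvd_prime (by norm_num)).1 h4 with h5 | h5
        · exact hp.out.ne_one h5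
        · exact hp7 h5
      have e1 : tr y = 0 := t.tr_si h h2 h7 D.toFano hsi
      have e2 : tr y⁻¹ = 0 := t.tr_si h h2 h7 D.toFano (y := y⁻¹) (by
        rw [map_inv]
        exact D.isConj_si.trans (isConj_inv_inv hsi))
      rw [e1, e2, zero_pow hpz]
      exact ⟨fun _ => rfl, fun _ => rfl, fun _ => rfl⟩
  · have e1 : tr y = 0 := t.tr_mixed h h2 hm
    have e2 : tr y⁻¹ = 0 := t.tr_mixed h h2 (by rw [map_inv]; exact hm.inv)
    rw [e1, e2, zero_pow hpz]
    exact ⟨fun _ => rfl, fun _ => rfl, fun _ => rfl⟩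

end Cov

end Cfsg.Agent.H908
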