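import Cfsg.Agent.H908.AltFacts
import Cfsg.Agent.H908.TrFrob
import Cfsg.Agent.H908.SevenMain

/-!
# `A₅`, `A₆`, `A₇` in dimension four, characteristic two
-/

set_option autoImplicit false
set_option linter.unusedSectionVars false

namespace Cfsg.Agent.H908

open Cfsg Cfsg.Geo
open scoped MatrixGroups

variable {F : Type*} [Field F] {T : Type*} [Group T] {P : Subgroup (GL (Fin 4) F)} {φ : P →* T}

theorem Cov.inj_two [CharP F 2] (h : Cov P φ) : Function.Injective φ := by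
  rw [injective_iff_map_eq_one]
  intro x hx
  obtain ⟨c, hc⟩ := (h.ker x).1 hx
  have h4 := h.pow_four hc
  have h1 : (c + 1) ^ 4 = 0 := by
    have e : (c + 1) ^ (2 ^ 2) = c ^ (2 ^ 2) + 1 ^ (2 ^ 2) := add_pow_char_pow (p := 2) (n := 2) (x := c) (y := 1)
    norm_num at e
    rw [e, h4]
    exact CharTwo.add_self_eq_zero 1
  have h2 : c + 1 = 0 := pow_eq_zero_iff (by norm_num) |>.1 h1
  have h3 : c = 1 := CharTwo.add_eq_zero.1 h2
  apply mt_injective
  rw [hc, h3, one_smul, map_one]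

/-- all elements of odd order real, characteristic two -/
theorem Cov.real_two [Finite F] [CharP F 2] (h : Cov P φ)
    (hr : ∀ t : T, Odd (orderOf t) → IsConj t t⁻¹) :
    ∀ g ∈ P, ((g⁻¹ : GL (Fin 4) F) : Matrix (Fin 4) (Fin 4) F).trace = (g : Matrix (Fin 4) (Fin 4) F).trace := by
  have hfac : Fact (Nat.Prime 2) := ⟨Nat.prime_two⟩
  have key := trace_inv_of_reg (F := F) (P := P) 2 1 (by
    intro g hg ho
    rw [pow_one]
    have h1 : Odd (orderOf (⟨g, hg⟩ : P)) := by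
      rw [← Subgroup.orderOf_coe]
      exact Nat.Coprime.odd_of_right ho
    have h2 : Odd (orderOf (φ ⟨g, hg⟩)) := Odd.of_dvd_nat h1 (orderOf_map_dvd _ _)
    obtain ⟨c, hc⟩ := isConj_iff.1 (hr _ h2)
    obtain ⟨x, rfl⟩ := h.surj c
    have h3 : x * ⟨g, hg⟩ * x⁻¹ = (⟨g, hg⟩ : P)⁻¹ := h.inj_two (by rw [map_mul, map_mul, map_inv, map_inv, hc])
    have h4 := tr_conj x (⟨g, hg⟩ : P)
    rw [h3] at h4
    exact h4.symm)
  intro g hg
  rw [← key g hg, pow_one]

theorem a5_real_two [Finite F] [CharP F 2] {φ : P →* Alt.A5} (h : Cov P φ) :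
    ∀ g ∈ P, ((g⁻¹ : GL (Fin 4) F) : Matrix (Fin 4) (Fin 4) F).trace = (g : Matrix (Fin 4) (Fin 4) F).trace :=
  h.real_two fun t _ => Alt.real_A5 t

theorem a6_real_two [Finite F] [CharP F 2] {φ : P →* Alt.A6} (h : Cov P φ) :
    ∀ g ∈ P, ((g⁻¹ : GL (Fin 4) F) : Matrix (Fin 4) (Fin 4) F).trace = (g : Matrix (Fin 4) (Fin 4) F).trace :=
  h.real_two fun t _ => Alt.real_A6 t

/-- `A₇` in characteristic two: all traces in the prime field. -/
theorem a7_two [Finite F] [CharP F 2] {φ : P →* Alt.A7} (h : Cov P φ) :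
    ∀ g ∈ P, (orderOf g).Coprime 2 → (g : Matrix (Fin 4) (Fin 4) F).trace ^ 2 = (g : Matrix (Fin 4) (Fin 4) F).trace := by
  have hfac : Fact (Nat.Prime 2) := ⟨Nat.prime_two⟩
  intro g hg ho
  have h1 : Odd (orderOf (⟨g, hg⟩ : P)) := by
    rw [← Subgroup.orderOf_coe]
    exact Nat.Coprime.odd_of_right ho
  have h2 : Odd (orderOf (φ ⟨g, hg⟩)) := Odd.of_dvd_nat h1 (orderOf_map_dvd _ _)
  have h3 : IsConj (φ ⟨g, hg⟩) ((φ ⟨g, hg⟩) ^ 2) := by
    rcases Alt.seven.cls (φ ⟨g, hg⟩) with ⟨_, hr⟩ | hx | hx | hsi | hm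
    · exact (hr 2 (Nat.coprime_two_left.2 h2)).symm
    · have e1 : IsConj (Alt.seven.x) (Alt.seven.x ^ 2) := isConj_iff.2 ⟨Alt.seven.d, Alt.seven.hdx⟩
      exact (hx.symm.trans e1).trans (isConj_pow_pow hx 2)
    · have e1 : IsConj (Alt.seven.x) (Alt.seven.x ^ 2) := isConj_iff.2 ⟨Alt.seven.d, Alt.seven.hdx⟩
      have e2 := isConj_inv_inv e1
      have e3 := isConj_pow_pow hx 2
      rw [inv_pow] at e3
      exact (hx.symm.trans e2).trans e3
    · exfalso
      rw [← orderOf_of_isConj hsi] at h2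
      have e1 : orderOf (Alt.seven.s * Alt.seven.i) = 4 := by
        have : Fact (Nat.Prime 2) := ⟨Nat.prime_two⟩
        refine orderOf_eq_prime_pow (p := 2) (n := 1) ?_ ?_
        · decide
        · decide
      rw [e1] at h2
      exact absurd h2 (by decide)
    · exfalso
      obtain ⟨c, u, w, ht, hc, hu, hu1, -, -, -, hcu, -, -⟩ := hm
      -- the order is even
      have e1 : (φ ⟨g, hg⟩) ^ (orderOf (φ ⟨g, hg⟩) * orderOf c) = u := by
        rw [ht, (show Commute c u from hcu).mul_pow, pow_mul' c, pow_orderOf_eq_one, one_pow, one_mul]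
        have h5 : Odd (orderOf (φ ⟨g, hg⟩) * orderOf c) := h2.mul hc
        rw [ht] at h5
        obtain ⟨k, hk⟩ := h5
        rw [hk, pow_succ, pow_mul, hu, one_pow, one_mul]
      rw [pow_mul, pow_orderOf_eq_one, one_pow] at e1
      exact hu1 e1.symm
  obtain ⟨c, hc⟩ := isConj_iff.1 h3
  obtain ⟨x, rfl⟩ := h.surj c
  have h5 : x * ⟨g, hg⟩ * x⁻¹ = (⟨g, hg⟩ : P) ^ 2 := h.inj_two (by rw [map_mul, map_mul, map_inv, hc, map_pow])
  have h6 := tr_conj x (⟨g, hg⟩ : P)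
  rw [h5] at h6
  have h7 := trace_pow_char 2 (g : Matrix (Fin 4) (Fin 4) F)
  rw [← h7]
  exact h6

theorem a7_two_card [Finite F] [CharP F 2] {φ : P →* Alt.A7} (h : Cov P φ) (hP : ActsAbsolutelyIrreducibly (matrixSet P))
    (hns : ∀ F₀ : Subfield F, F₀ ≠ ⊤ → ¬ RealisableOver F₀ (matrixSet P)) : Nat.card F = 2 := by
  have hfac : Fact (Nat.Prime 2) := ⟨Nat.prime_two⟩
  exact card_eq_of_reg hP hns 2 (a7_two h)

end Cfsg.Agent.H908
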