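import Cfsg.Agent.H908.SevenMain
import Cfsg.Agent.H525.AltK

/-!
# Facts on `A₅`, `A₆`, `A₇`
-/

set_option autoImplicit false
set_option linter.unusedSectionVars false

namespace Cfsg.Agent.H908.Alt

open Equiv Equiv.Perm
open Cfsg.Agent.H525.AltK (mem_types)

section General

variable {α : Type*} [Fintype α] [DecidableEq α]

theorem conj_of_type {r g : alternatingGroup α} (hct : (r : Perm α).cycleType = (g : Perm α).cycleType)
    {κ : Perm α} (hκ : sign κ = -1) (hc : κ * r = r * κ) : IsConj r g := by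
  obtain ⟨σ, hσ⟩ := isConj_iff.1 (isConj_iff_cycleType_eq.2 hct)
  rcases Int.units_eq_one_or (sign σ) with h3 | h3
  · exact isConj_iff.2 ⟨⟨σ, h3⟩, Subtype.ext hσ⟩
  · refine isConj_iff.2 ⟨⟨σ * κ, ?_⟩, Subtype.ext ?_⟩
    · rw [mem_alternatingGroup, map_mul, h3, hκ]; rfl
    · change σ * κ * (r : Perm α) * (σ * κ)⁻¹ = g
      rw [← hσ]
      calc σ * κ * (r : Perm α) * (σ * κ)⁻¹ = σ * (κ * r) * κ⁻¹ * σ⁻¹ := by group
        _ = σ * (r * κ) * κ⁻¹ * σ⁻¹ := by rw [hc]
        _ = _ := by group

/-- reality depends only on the cycle type -/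
theorem real_of_type {r g : alternatingGroup α} (hct : (r : Perm α).cycleType = (g : Perm α).cycleType)
    (hr : IsConj r r⁻¹) : IsConj g g⁻¹ := by
  obtain ⟨σ, hσ⟩ := isConj_iff.1 (isConj_iff_cycleType_eq.2 hct)
  obtain ⟨y, hy⟩ := isConj_iff.1 hr
  refine isConj_iff.2 ⟨⟨σ * y * σ⁻¹, ?_⟩, Subtype.ext ?_⟩
  · rw [mem_alternatingGroup, map_mul, map_mul, map_inv, mul_right_comm, mul_inv_cancel, one_mul]
    exact y.2
  · change σ * y * σ⁻¹ * (g : Perm α) * (σ * y * σ⁻¹)⁻¹ = (g : Perm α)⁻¹
    have hy' : (y : Perm α) * r * (y : Perm α)⁻¹ = (r : Perm α)⁻¹ := congrArg Subtype.val hy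
    rw [← hσ]
    calc σ * y * σ⁻¹ * (σ * (r : Perm α) * σ⁻¹) * (σ * y * σ⁻¹)⁻¹ = σ * (y * r * (y : Perm α)⁻¹) * σ⁻¹ := by group
      _ = σ * (r : Perm α)⁻¹ * σ⁻¹ := by rw [hy']
      _ = _ := by group

theorem type_of_sq {t : Perm α} (ht : t ^ 2 = 1) {k : ℕ} (hk : k ∈ t.cycleType) : k ∣ 2 :=
  (dvd_of_mem_cycleType hk).trans (orderOf_dvd_of_pow_eq_one ht)

theorem orderOf_coe (t : alternatingGroup α) : orderOf t = orderOf (t : Perm α) := by
  exact (Subgroup.orderOf_coe t).symm

end General

/-- rational elements -/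
theorem rational_of_sq {T : Type*} [Group T] {r : T} {n : ℕ} (hn : n = 3 ∨ n = 5) (hr : orderOf r = n)
    (h : IsConj r (r ^ 2)) (k : ℕ) (hk : k.Coprime (orderOf r)) : IsConj (r ^ k) r := by
  have hp : ∀ j : ℕ, IsConj (r ^ (2 ^ j)) r := by
    intro j
    induction j with
    | zero => rw [pow_zero, pow_one]
    | succ j ih =>
      rw [pow_succ', pow_mul]
      exact (isConj_pow_pow h.symm _).trans ih
  have hmod : ∀ a b : ℕ, a % n = b % n → r ^ a = r ^ b := by
    intro a b hab
    rw [pow_eq_pow_iff_modEq, hr]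
    exact hab
  rw [hr] at hk
  rcases hn with rfl | rfl
  · have h3 : k % 3 = 1 ∨ k % 3 = 2 := by
      have : ¬ 3 ∣ k := (Nat.Prime.coprime_iff_not_dvd (by norm_num)).1 hk.symm
      omega
    rcases h3 with h3 | h3
    · rw [hmod k (2 ^ 0) (by rw [h3]; rfl)]; exact hp 0
    · rw [hmod k (2 ^ 1) (by rw [h3]; rfl)]; exact hp 1
  · have h3 : k % 5 = 1 ∨ k % 5 = 2 ∨ k % 5 = 3 ∨ k % 5 = 4 := by
      have : ¬ 5 ∣ k := (Nat.Prime.coprime_iff_not_dvd (by norm_num)).1 hk.symm
      omega
    rcases h3 with h3 | h3 | h3 | h3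
    · rw [hmod k (2 ^ 0) (by rw [h3]; rfl)]; exact hp 0
    · rw [hmod k (2 ^ 1) (by rw [h3]; rfl)]; exact hp 1
    · rw [hmod k (2 ^ 3) (by rw [h3]; rfl)]; exact hp 3
    · rw [hmod k (2 ^ 2) (by rw [h3]; rfl)]; exact hp 2

theorem rational_conj {T : Type*} [Group T] {r t : T} (h : IsConj r t) (ho : Odd (orderOf r))
    (hr : ∀ k : ℕ, k.Coprime (orderOf r) → IsConj (r ^ k) r) :
    Odd (orderOf t) ∧ ∀ k : ℕ, k.Coprime (orderOf t) → IsConj (t ^ k) t := by
  rw [← orderOf_of_isConj h]
  exact ⟨ho, fun k hk => ((isConj_pow_pow h k).symm.trans (hr k hk)).trans h⟩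

/-! ### `A₇` -/

abbrev A7 := alternatingGroup (Fin 7)

/-- even permutations -/
def mk {n : ℕ} (g : Perm (Fin n)) (h : sign g = 1) : alternatingGroup (Fin n) := ⟨g, h⟩

def ex : A7 := mk (finRotate 7) (by decide)
def ed : A7 := mk (swap 1 2 * swap 2 4 * (swap 3 6 * swap 6 5)) (by decide)
def ei : A7 := mk (swap 2 6 * swap 4 5) (by decide)
def ej : A7 := mk (swap 1 3 * swap 4 5) (by decide)
def es : A7 := mk (swap 1 2 * swap 3 6) (by decide)

def c3 : A7 := mk (swap 0 1 * swap 1 2) (by decide)
def c5 : A7 := mk (swap 0 1 * swap 1 2 * (swap 2 3 * swap 3 4)) (by decide)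
def c33 : A7 := mk (swap 0 1 * swap 1 2 * (swap 3 4 * swap 4 5)) (by decide)
def u7 : A7 := mk (swap 3 4 * swap 5 6) (by decide)
def w7 : A7 := mk (swap 3 5 * swap 4 6) (by decide)

def fano7 : Fano A7 where
  x := ex
  d := ed
  i := ei
  j := ej
  s := es
  hx := Subtype.ext (by decide)
  hx1 := by decide
  hd := Subtype.ext (by decide)
  hdx := Subtype.ext (by decide)
  hi := Subtype.ext (by decide)
  hi1 := by decide
  hij := Subtype.ext (by decide)
  hne := by decide
  hdi := Subtype.ext (by decide)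
  hdj := Subtype.ext (by decide)
  hs := Subtype.ext (by decide)
  hsi := Subtype.ext (by decide)
  hsd := Subtype.ext (by decide)

theorem card_A7 : Nat.card A7 = 8 * 315 := by
  have h := two_mul_nat_card_alternatingGroup (α := Fin 7)
  rw [Nat.card_perm, Nat.card_fin, show Nat.factorial 7 = 5040 from rfl] at h
  have h2 : 2 * Nat.card A7 = 5040 := h
  omega

theorem inv_A7 (t : A7) (ht : t ^ 2 = 1) (ht1 : t ≠ 1) : IsConj ei t := by
  have ht' : (t : Perm (Fin 7)) ^ 2 = 1 := congrArg Subtype.val ht
  have h2 : ∀ k ∈ (t : Perm (Fin 7)).cycleType, k ∣ 2 := fun k hk => type_of_sq ht' hk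
  have h22 : (t : Perm (Fin 7)).cycleType = {2, 2} := by
    rcases mem_types (le_refl 7) t with h | h | h | h | h | h | h | h
    · exact absurd (Subtype.ext (cycleType_eq_zero.1 h)) ht1
    · exact absurd (h2 3 (by rw [h]; decide)) (by decide)
    · exact absurd (h2 5 (by rw [h]; decide)) (by decide)
    · exact absurd (h2 7 (by rw [h]; decide)) (by decide)
    · exact h
    · exact absurd (h2 3 (by rw [h]; decide)) (by decide)
    · exact absurd (h2 4 (by rw [h]; decide)) (by decide)
    · exact absurd (h2 3 (by rw [h]; decide)) (by decide)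
  exact conj_of_type (κ := swap 0 1) (by rw [h22]; decide +kernel) (by decide) (by decide)

theorem order_of_pow {T : Type*} [Group T] {r : T} {p : ℕ} (hp : p.Prime) (h : r ^ p = 1) (h1 : r ≠ 1) : orderOf r = p :=
  haveI := Fact.mk hp
  orderOf_eq_prime h h1

def seven : SevenType A7 :=
  { fano7 with
    m := 315
    card := card_A7
    odd := by decide
    inv := inv_A7
    cls := by
      intro t
      rcases mem_types (le_refl 7) t with h | h | h | h | h | h | h | h
      · left
        have : t = 1 := Subtype.ext (cycleType_eq_zero.1 h)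
        subst this
        rw [orderOf_one]
        exact ⟨odd_one, fun k _ => by rw [one_pow]⟩
      · left
        have ho : orderOf c3 = 3 := order_of_pow (by norm_num) (by decide) (by decide)
        refine rational_conj (r := c3) (conj_of_type (κ := swap 3 4) (by rw [h]; decide +kernel) (by decide) (by decide))
          (by rw [ho]; decide) (rational_of_sq (Or.inl rfl) ho (isConj_iff.2 ⟨mk (swap 1 2 * swap 3 4) (by decide), by decide⟩))
      · left
        have ho : orderOf c5 = 5 := order_of_pow (by norm_num) (by decide) (by decide)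
        refine rational_conj (r := c5) (conj_of_type (κ := swap 5 6) (by rw [h]; decide +kernel) (by decide) (by decide))
          (by rw [ho]; decide) (rational_of_sq (Or.inr rfl) ho
            (isConj_iff.2 ⟨mk (swap 1 2 * swap 2 4 * swap 4 3 * swap 5 6) (by decide), by decide⟩))
      · right
        obtain ⟨σ, hσ⟩ := isConj_iff.1 (isConj_iff_cycleType_eq.2
          (show (ex : Perm (Fin 7)).cycleType = (t : Perm (Fin 7)).cycleType by rw [h]; decide +kernel))
        rcases Int.units_eq_one_or (sign σ) with h3 | h3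
        · exact Or.inl (isConj_iff.2 ⟨⟨σ, h3⟩, Subtype.ext hσ⟩)
        · right; left
          refine isConj_iff.2 ⟨⟨σ * (swap 1 6 * swap 2 5 * swap 3 4), ?_⟩, Subtype.ext ?_⟩
          · rw [mem_alternatingGroup, map_mul, h3]; decide
          · change σ * (swap 1 6 * swap 2 5 * swap 3 4) * (ex : Perm (Fin 7))⁻¹ *
              (σ * (swap 1 6 * swap 2 5 * swap 3 4))⁻¹ = (t : Perm (Fin 7))
            have h4 : (swap 1 6 * swap 2 5 * swap 3 4 : Perm (Fin 7)) * (ex : Perm (Fin 7))⁻¹ *
              (swap 1 6 * swap 2 5 * swap 3 4 : Perm (Fin 7))⁻¹ = (ex : Perm (Fin 7)) := by decide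
            rw [← hσ]
            calc _ = σ * ((swap 1 6 * swap 2 5 * swap 3 4 : Perm (Fin 7)) * (ex : Perm (Fin 7))⁻¹ *
                  (swap 1 6 * swap 2 5 * swap 3 4 : Perm (Fin 7))⁻¹) * σ⁻¹ := by group
              _ = _ := by rw [h4]
      · right; right; right; right
        have ht : t ^ 2 = 1 := by
          apply orderOf_dvd_iff_pow_eq_one.1
          rw [orderOf_coe, ← lcm_cycleType, h]
          decide
        have ht1 : t ≠ 1 := by
          rintro rfl
          rw [Subgroup.coe_one, cycleType_one] at h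
          exact absurd h (by decide)
        exact (fano7.dih 315 card_A7 (by decide) inv_A7).mixed_of_sq ht ht1
      · left
        have ho : orderOf c33 = 3 := order_of_pow (by norm_num) (by decide) (by decide)
        refine rational_conj (r := c33) (conj_of_type (κ := swap 0 3 * swap 1 4 * swap 2 5) (by rw [h]; decide +kernel)
          (by decide) (by decide)) (by rw [ho]; decide)
          (rational_of_sq (Or.inl rfl) ho (isConj_iff.2 ⟨mk (swap 1 2 * swap 4 5) (by decide), by decide⟩))
      · right; right; right; left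
        exact conj_of_type (κ := swap 4 5) (by rw [h]; decide +kernel) (by decide) (by decide)
      · right; right; right; right
        have hc : IsConj (c3 * u7) t :=
          conj_of_type (κ := swap 3 4) (by rw [h]; decide +kernel) (by decide) (by decide)
        obtain ⟨g, hg⟩ := isConj_iff.1 hc
        have ho : orderOf c3 = 3 := order_of_pow (by norm_num) (by decide) (by decide)
        have hconj : ∀ a b : A7, g * a * g⁻¹ = g * b * g⁻¹ → a = b := fun a b hab => by
          calc a = g⁻¹ * (g * a * g⁻¹) * g := by group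
            _ = g⁻¹ * (g * b * g⁻¹) * g := by rw [hab]
            _ = b := by group
        refine ⟨g * c3 * g⁻¹, g * u7 * g⁻¹, g * w7 * g⁻¹, ?_, ?_, ?_, ?_, ?_, ?_, ?_, ?_, ?_, ?_⟩
        · rw [← hg]; group
        · rw [← orderOf_of_isConj (isConj_iff.2 ⟨g, rfl⟩ : IsConj c3 (g * c3 * g⁻¹)), ho]; decide
        · rw [conj_pow, show u7 ^ 2 = 1 by decide]; group
        · intro h'
          exact absurd (hconj u7 1 (by rw [h']; group)) (by decide)
        · rw [conj_pow, show w7 ^ 2 = 1 by decide]; group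
        · intro h'
          exact absurd (hconj w7 1 (by rw [h']; group)) (by decide)
        · intro h'
          exact absurd (hconj w7 u7 h') (by decide)
        · calc g * c3 * g⁻¹ * (g * u7 * g⁻¹) = g * (c3 * u7) * g⁻¹ := by group
            _ = g * (u7 * c3) * g⁻¹ := by rw [show c3 * u7 = u7 * c3 by decide]
            _ = _ := by group
        · calc g * c3 * g⁻¹ * (g * w7 * g⁻¹) = g * (c3 * w7) * g⁻¹ := by group
            _ = g * (w7 * c3) * g⁻¹ := by rw [show c3 * w7 = w7 * c3 by decide]
            _ = _ := by group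
        · calc g * u7 * g⁻¹ * (g * w7 * g⁻¹) = g * (u7 * w7) * g⁻¹ := by group
            _ = g * (w7 * u7) * g⁻¹ := by rw [show u7 * w7 = w7 * u7 by decide]
            _ = _ := by group }

/-! ### `A₆` -/

abbrev A6 := alternatingGroup (Fin 6)

theorem card_A6 : Nat.card A6 = 8 * 45 := by
  have h := two_mul_nat_card_alternatingGroup (α := Fin 6)
  rw [Nat.card_perm, Nat.card_fin, show Nat.factorial 6 = 720 from rfl] at h
  have h2 : 2 * Nat.card A6 = 720 := h
  omega

theorem types_A6 (t : A6) : (t : Perm (Fin 6)).cycleType = 0 ∨ (t : Perm (Fin 6)).cycleType = {3} ∨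
    (t : Perm (Fin 6)).cycleType = {5} ∨ (t : Perm (Fin 6)).cycleType = {2, 2} ∨
    (t : Perm (Fin 6)).cycleType = {3, 3} ∨ (t : Perm (Fin 6)).cycleType = {4, 2} := by
  have hs := sum_cycleType_le (t : Perm (Fin 6))
  rw [Fintype.card_fin] at hs
  rcases mem_types (show 6 ≤ 7 by norm_num) t with h | h | h | h | h | h | h | h
  · exact Or.inl h
  · exact Or.inr (Or.inl h)
  · exact Or.inr (Or.inr (Or.inl h))
  · rw [h] at hs; exact absurd hs (by decide)
  · exact Or.inr (Or.inr (Or.inr (Or.inl h)))
  · exact Or.inr (Or.inr (Or.inr (Or.inr (Or.inl h))))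
  · exact Or.inr (Or.inr (Or.inr (Or.inr (Or.inr h))))
  · rw [h] at hs; exact absurd hs (by decide)

theorem inv_A6 (t : A6) (ht : t ^ 2 = 1) (ht1 : t ≠ 1) :
    IsConj ((mk (swap 0 1 * swap 1 2 * swap 2 3 * swap 4 5) (by decide) : A6) ^ 2) t := by
  have ht' : (t : Perm (Fin 6)) ^ 2 = 1 := congrArg Subtype.val ht
  have h2 : ∀ k ∈ (t : Perm (Fin 6)).cycleType, k ∣ 2 := fun k hk => type_of_sq ht' hk
  have h22 : (t : Perm (Fin 6)).cycleType = {2, 2} := by
    rcases types_A6 t with h | h | h | h | h | h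
    · exact absurd (Subtype.ext (cycleType_eq_zero.1 h)) ht1
    · exact absurd (h2 3 (by rw [h]; decide)) (by decide)
    · exact absurd (h2 5 (by rw [h]; decide)) (by decide)
    · exact h
    · exact absurd (h2 3 (by rw [h]; decide)) (by decide)
    · exact absurd (h2 4 (by rw [h]; decide)) (by decide)
  exact conj_of_type (κ := swap 4 5) (by rw [h22]; decide +kernel) (by decide) (by decide)

def dih6 : DihType A6 where
  a := mk (swap 0 1 * swap 1 2 * swap 2 3 * swap 4 5) (by decide)
  b := mk (swap 0 3 * swap 1 2) (by decide)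
  m := 45
  card := card_A6
  odd := by decide
  ha2 := by decide
  ha4 := by decide
  hb := by decide
  hb1 := by decide
  hab := by decide
  inv := inv_A6

theorem real_A6 (t : A6) : IsConj t t⁻¹ := by
  rcases types_A6 t with h | h | h | h | h | h
  · have : t = 1 := Subtype.ext (cycleType_eq_zero.1 h)
    rw [this, inv_one]
  · exact real_of_type (r := mk (swap 0 1 * swap 1 2) (by decide)) (by rw [h]; decide +kernel)
      (isConj_iff.2 ⟨mk (swap 1 2 * swap 3 4) (by decide), by decide⟩)
  · exact real_of_type (r := mk (swap 0 1 * swap 1 2 * (swap 2 3 * swap 3 4)) (by decide)) (by rw [h]; decide +kernel)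
      (isConj_iff.2 ⟨mk (swap 1 4 * swap 2 3) (by decide), by decide⟩)
  · exact real_of_type (r := mk (swap 0 1 * swap 2 3) (by decide)) (by rw [h]; decide +kernel)
      (isConj_iff.2 ⟨1, by decide⟩)
  · exact real_of_type (r := mk (swap 0 1 * swap 1 2 * (swap 3 4 * swap 4 5)) (by decide)) (by rw [h]; decide +kernel)
      (isConj_iff.2 ⟨mk (swap 1 2 * swap 4 5) (by decide), by decide⟩)
  · exact real_of_type (r := mk (swap 0 1 * swap 1 2 * swap 2 3 * swap 4 5) (by decide)) (by rw [h]; decide +kernel)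
      (isConj_iff.2 ⟨mk (swap 0 3 * swap 1 2) (by decide), by decide⟩)

theorem odd_of_type {n : ℕ} {t : alternatingGroup (Fin n)} {m : Multiset ℕ} (h : (t : Perm (Fin n)).cycleType = m)
    (hm : Odd m.lcm) : Odd (orderOf t) := by
  rw [orderOf_coe, ← lcm_cycleType, h]
  exact hm

theorem cls_A6 (t : A6) : Odd (orderOf t) ∨ IsConj dih6.a t ∨ DihType.Mixed t := by
  rcases types_A6 t with h | h | h | h | h | h
  · exact Or.inl (odd_of_type h (by decide))
  · exact Or.inl (odd_of_type h (by decide))
  · exact Or.inl (odd_of_type h (by decide))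
  · right; right
    have ht : t ^ 2 = 1 := by
      apply orderOf_dvd_iff_pow_eq_one.1
      rw [orderOf_coe, ← lcm_cycleType, h]
      decide
    have ht1 : t ≠ 1 := by
      rintro rfl
      rw [Subgroup.coe_one, cycleType_one] at h
      exact absurd h (by decide)
    exact dih6.mixed_of_sq ht ht1
  · exact Or.inl (odd_of_type h (by decide))
  · right; left
    exact conj_of_type (κ := swap 4 5) (by rw [h]; decide +kernel) (by decide) (by decide)

/-! ### `A₅` -/

abbrev A5 := alternatingGroup (Fin 5)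

theorem card_A5 : Nat.card A5 = 4 * 15 := by
  have h := two_mul_nat_card_alternatingGroup (α := Fin 5)
  rw [Nat.card_perm, Nat.card_fin, show Nat.factorial 5 = 120 from rfl] at h
  have h2 : 2 * Nat.card A5 = 120 := h
  omega

theorem types_A5 (t : A5) : (t : Perm (Fin 5)).cycleType = 0 ∨ (t : Perm (Fin 5)).cycleType = {3} ∨
    (t : Perm (Fin 5)).cycleType = {5} ∨ (t : Perm (Fin 5)).cycleType = {2, 2} := by
  have hs := sum_cycleType_le (t : Perm (Fin 5))
  rw [Fintype.card_fin] at hs
  rcases mem_types (show 5 ≤ 7 by norm_num) t with h | h | h | h | h | h | h | h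
  · exact Or.inl h
  · exact Or.inr (Or.inl h)
  · exact Or.inr (Or.inr (Or.inl h))
  · rw [h] at hs; exact absurd hs (by decide)
  · exact Or.inr (Or.inr (Or.inr h))
  · rw [h] at hs; exact absurd hs (by decide)
  · rw [h] at hs; exact absurd hs (by decide)
  · rw [h] at hs; exact absurd hs (by decide)

def a5 : A5 := mk (swap 0 1 * swap 2 3) (by decide)
def b5 : A5 := mk (swap 0 2 * swap 1 3) (by decide)

theorem real_A5 (t : A5) : IsConj t t⁻¹ := by
  rcases types_A5 t with h | h | h | h
  · have : t = 1 := Subtype.ext (cycleType_eq_zero.1 h)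
    rw [this, inv_one]
  · exact real_of_type (r := mk (swap 0 1 * swap 1 2) (by decide)) (by rw [h]; decide +kernel)
      (isConj_iff.2 ⟨mk (swap 1 2 * swap 3 4) (by decide), by decide⟩)
  · exact real_of_type (r := mk (swap 0 1 * swap 1 2 * (swap 2 3 * swap 3 4)) (by decide)) (by rw [h]; decide +kernel)
      (isConj_iff.2 ⟨mk (swap 1 4 * swap 2 3) (by decide), by decide⟩)
  · exact real_of_type (r := mk (swap 0 1 * swap 2 3) (by decide)) (by rw [h]; decide +kernel)
      (isConj_iff.2 ⟨1, by decide⟩)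

theorem cls_A5 (t : A5) : Odd (orderOf t) ∨ IsConj a5 t := by
  rcases types_A5 t with h | h | h | h
  · exact Or.inl (odd_of_type h (by decide))
  · exact Or.inl (odd_of_type h (by decide))
  · exact Or.inl (odd_of_type h (by decide))
  · right
    obtain ⟨σ, hσ⟩ := isConj_iff.1 (isConj_iff_cycleType_eq.2
      (show (a5 : Perm (Fin 5)).cycleType = (t : Perm (Fin 5)).cycleType by rw [h]; decide +kernel))
    exact conj_of_type (κ := swap 0 1) (by rw [h]; decide +kernel) (by decide) (by decide)

end Cfsg.Agent.H908.Alt
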