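import Cfsg.Agent.H908.NoFrob
import Cfsg.Agent.H908.AltFacts
import Cfsg.Agent.H912.BdAlt
import Cfsg.Agent.LieClassical.FieldTransfer

/-!
# Groups containing `2³:7`; they do not occur in dimension four in odd characteristic
-/

set_option autoImplicit false
set_option linter.unusedSectionVars false

namespace Cfsg.Agent.H908

open Cfsg Cfsg.Geo
open scoped MatrixGroups

/-- The group of affine maps of the field of order eight. -/
structure F8 (G : Type*) [Group G] where
  a : G
  b : G
  c : G
  t : G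
  hta : t * a = b * t
  htb : t * b = c * t
  htc : t * c = a * b * t
  haa : a * a = 1
  hab : a * b = b * a
  hac : a * c = c * a
  hne : a ≠ b
  ht : t ^ 7 = 1

namespace F8

variable {G : Type*} [Group G]

/-- images under injective homomorphisms -/
def map {H : Type*} [Group H] (D : F8 G) (f : G →* H) (hf : Function.Injective f) : F8 H where
  a := f D.a
  b := f D.b
  c := f D.c
  t := f D.t
  hta := by rw [← map_mul, D.hta, map_mul]
  htb := by rw [← map_mul, D.htb, map_mul]
  htc := by rw [← map_mul, D.htc, map_mul, map_mul]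
  haa := by rw [← map_mul, D.haa, map_one]
  hab := by rw [← map_mul, D.hab, map_mul]
  hac := by rw [← map_mul, D.hac, map_mul]
  hne := hf.ne D.hne
  ht := by rw [← map_pow, D.ht, map_one]

/-- images under homomorphisms with central kernel -/
def mapc {H : Type*} [Group H] (D : F8 G) (f : G →* H) (hf : ∀ x, f x = 1 → ∀ y, y * x = x * y) : F8 H where
  a := f D.a
  b := f D.b
  c := f D.c
  t := f D.t
  hta := by rw [← map_mul, D.hta, map_mul]
  htb := by rw [← map_mul, D.htb, map_mul]
  htc := by rw [← map_mul, D.htc, map_mul, map_mul]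
  haa := by rw [← map_mul, D.haa, map_one]
  hab := by rw [← map_mul, D.hab, map_mul]
  hac := by rw [← map_mul, D.hac, map_mul]
  hne := by
    intro h
    have h1 : f (D.a⁻¹ * D.b) = 1 := by rw [map_mul, map_inv, h, inv_mul_cancel]
    have h2 := hf _ h1 D.t
    have ea : D.a⁻¹ = D.a := inv_eq_of_mul_eq_one_left D.haa
    rw [ea] at h2
    -- `t a b = b c t`
    have h3 : D.t * (D.a * D.b) = D.b * D.c * D.t := by
      rw [← mul_assoc, D.hta, mul_assoc, D.htb, mul_assoc]
    rw [h3] at h2
    have h4 : D.b * D.c = D.a * D.b := mul_right_cancel h2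
    rw [D.hab] at h4
    have h5 : D.c = D.a := mul_left_cancel h4
    -- then `t a = t c`, so `b = a b`
    have h6 := D.htc
    rw [h5, D.hta] at h6
    have h7 : D.b = D.a * D.b := mul_right_cancel h6
    have h8 : D.a = 1 := (mul_eq_right.1 h7.symm)
    apply D.hne
    have h9 := D.hta
    rw [h8, mul_one] at h9
    rw [h8]
    have : (1 : G) * D.t = D.b * D.t := by rw [one_mul]; exact h9
    exact mul_right_cancel this
  ht := by rw [← map_pow, D.ht, map_one]

theorem false_of_cov {F : Type*} [Field F] [Finite F] {P : Subgroup (GL (Fin 4) F)} {φ : P →* G} (h : Cov P φ)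
    (h2 : (2 : F) ≠ 0) (D : F8 G) : False := by
  have e1 : D.t * D.a * D.t⁻¹ = D.b := by rw [D.hta]; group
  have e2 : D.t ^ 2 * D.a * (D.t ^ 2)⁻¹ = D.c := by
    have : D.t ^ 2 * D.a * (D.t ^ 2)⁻¹ = D.t * (D.t * D.a * D.t⁻¹) * D.t⁻¹ := by
      rw [pow_two]; group
    rw [this, e1, D.htb]; group
  have e3 : D.t ^ 3 * D.a * (D.t ^ 3)⁻¹ = D.a * D.b := by
    have : D.t ^ 3 * D.a * (D.t ^ 3)⁻¹ = D.t * (D.t ^ 2 * D.a * (D.t ^ 2)⁻¹) * D.t⁻¹ := by
      rw [pow_succ' D.t 2]; group
    rw [this, e2, D.htc]; group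
  have := h.no_frob h2 (a := D.a) (t := D.t) D.haa D.ht (by rw [e1, D.hab]) (by rw [e2, D.hac]) (by rw [e3, e1])
  rw [e1] at this
  exact D.hne this.symm

end F8

/-- the cover of a quotient modulo scalars -/
theorem cov_of_equiv {F : Type*} [Field F] {P : Subgroup (GL (Fin 4) F)} (hperf : ⁅P, P⁆ = P) {T : Type*} [Group T]
    (e : (P ⧸ (scalars (Fin 4) F).subgroupOf P) ≃* T) :
    Cov P (e.toMonoidHom.comp (QuotientGroup.mk' ((scalars (Fin 4) F).subgroupOf P))) where
  surj := e.surjective.comp (QuotientGroup.mk'_surjective _)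
  ker := by
    intro x
    have h1 : e.toMonoidHom.comp (QuotientGroup.mk' ((scalars (Fin 4) F).subgroupOf P)) x = 1 ↔
        (x : GL (Fin 4) F) ∈ scalars (Fin 4) F := by
      rw [MonoidHom.comp_apply]
      change e _ = 1 ↔ _
      rw [MulEquiv.map_eq_one_iff, QuotientGroup.mk'_apply, QuotientGroup.eq_one_iff, Subgroup.mem_subgroupOf]
    rw [h1, mem_scalars_iff]
    constructor
    · rintro ⟨c, hc⟩
      exact ⟨c, hc⟩
    · rintro ⟨c, hc⟩
      have hc0 : c ≠ 0 := by
        rintro rfl
        rw [zero_smul] at hc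
        have h3 := ((Matrix.isUnit_iff_isUnit_det _).1 (x : GL (Fin 4) F).isUnit).ne_zero
        apply h3
        have : ((x : GL (Fin 4) F) : Matrix (Fin 4) (Fin 4) F) = 0 := hc
        rw [this, Matrix.det_zero]
      exact ⟨Units.mk0 c hc0, hc⟩
  perf := by
    have h := hperf
    rw [commutator_def]
    apply Subgroup.map_injective P.subtype_injective
    rw [Subgroup.map_commutator, ← MonoidHom.range_eq_map, Subgroup.range_subtype, h]

theorem F8.not_four {F : Type*} [Field F] [Finite F] (h2 : (2 : F) ≠ 0) {P : Subgroup (GL (Fin 4) F)} (hperf : ⁅P, P⁆ = P)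
    {T : Type*} [Group T] (D : F8 T) (e : (P ⧸ (scalars (Fin 4) F).subgroupOf P) ≃* T) : False :=
  D.false_of_cov (cov_of_equiv hperf e) h2

/-! ### the alternating groups -/

open Equiv in
/-- `2³:7` in `A₈`. -/
def f8A8 : F8 (alternatingGroup (Fin 8)) where
  a := Alt.mk (swap 0 1 * swap 2 3 * (swap 4 5 * swap 6 7)) (by decide)
  b := Alt.mk (swap 0 2 * swap 1 3 * (swap 4 6 * swap 5 7)) (by decide)
  c := Alt.mk (swap 0 4 * swap 1 5 * (swap 2 6 * swap 3 7)) (by decide)
  t := Alt.mk (swap 1 2 * swap 2 4 * swap 4 3 * (swap 3 6 * swap 6 7 * swap 7 5)) (by decide)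
  hta := by decide
  htb := by decide
  htc := by decide
  haa := by decide
  hab := by decide
  hac := by decide
  hne := by decide
  ht := by decide +kernel

theorem not_four_alt {F : Type*} [Field F] [Finite F] (h2 : (2 : F) ≠ 0) {P : Subgroup (GL (Fin 4) F)}
    (hperf : ⁅P, P⁆ = P) {m : ℕ} (hm : 8 ≤ m) {T : Type*} [Group T] (hT : Nonempty (T ≃* alternatingGroup (Fin m)))
    (e : (P ⧸ (scalars (Fin 4) F).subgroupOf P) ≃* T) : False := by
  obtain ⟨e'⟩ := hT
  obtain ⟨f, hf⟩ := H912.Bd.exists_alt_hom (Fin.castLEEmb hm)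
  exact (f8A8.map f hf).not_four h2 hperf (e.trans e')

end Cfsg.Agent.H908
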