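import Cfsg.Agent.H908.L7Not

/-!
# `L₂(7)` is not the socle of a maximal subgroup of `SL₄(q)` or `SU₄(q)`, `q` odd
-/

set_option autoImplicit false
set_option linter.unusedSectionVars false

namespace Cfsg.Agent.H908

open Cfsg Cfsg.Geo Module Matrix Cfsg.Agent.LieClassical.KleinSix Cfsg.Agent.LieClassical.HermBasic
  Cfsg.Agent.ClassicalGeometry.HermParabolic
open scoped MatrixGroups commutatorElement

variable {F : Type*} [Field F] {P : Subgroup (GL (Fin 4) F)}

theorem mem_specialLinear {g : GL (Fin 4) F} :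
    g ∈ specialLinear (Fin 4) F ↔ (g : Matrix (Fin 4) (Fin 4) F).det = 1 := by
  rw [specialLinear, MonoidHom.mem_ker, ← Units.val_inj]
  rfl

/-- a matrix of determinant one as an element of the general linear group -/
noncomputable def toGL (M : Matrix (Fin 4) (Fin 4) F) (h : M.det = 1) : GL (Fin 4) F :=
  Matrix.GeneralLinearGroup.mkOfDetNeZero M (by rw [h]; exact one_ne_zero)

theorem coe_toGL (M : Matrix (Fin 4) (Fin 4) F) (h : M.det = 1) : (toGL M h : Matrix (Fin 4) (Fin 4) F) = M := rfl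

theorem vec_not_scalar {e f : Fin 4 → F} (he : e ≠ 0) (hf : f ≠ 0) (hef : f ⬝ᵥ e = 0) (c : F) :
    1 + vecMulVec e f ≠ c • 1 := by
  intro h
  obtain ⟨i, hi⟩ := Function.ne_iff.1 he
  obtain ⟨j, hj⟩ := Function.ne_iff.1 hf
  have h1 : vecMulVec e f = (c - 1) • (1 : Matrix (Fin 4) (Fin 4) F) := by
    rw [sub_smul, one_smul, ← h]; abel
  have h2 : vecMulVec e f * vecMulVec e f = 0 := by
    rw [vecMulVec_mul_vecMulVec, hef]; simp
  rw [h1, smul_mul_smul_comm, mul_one] at h2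
  have h3 : (c - 1) * (c - 1) = 0 := by
    have := congrFun (congrFun h2 0) 0
    simpa using this
  have h4 : c - 1 = 0 := mul_self_eq_zero.1 h3
  rw [h4, zero_smul] at h1
  have := congrFun (congrFun h1 i) j
  rw [vecMulVec_apply] at this
  exact (mul_ne_zero hi hj) this

variable [Finite F]

/-- **`SL₄(q)`.** -/
theorem l7_not_maximal_sl {φ : P →* Psl7.T} (h : Cov P φ) (h2 : (2 : F) ≠ 0) (h7 : (7 : F) ≠ 0)
    {H : Subgroup (GL (Fin 4) F)} (hc : IsResidualCore H P)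
    (hq : ¬ ∃ Q : (Fin 4 → F) → F, IsNondegenerateQuadraticForm Q ∧ FixesQuadForm (matrixSet P) Q)
    (hs : ¬ ∃ f : (Fin 4 → F) → (Fin 4 → F) → F, IsSymplecticForm f ∧ FixesForm (matrixSet P) f)
    (hmax : IsMaximalIn (specialLinear (Fin 4) F) H) : False := by
  refine l7_not_maximal h h2 h7 hc hq hs hmax (fun g hg => mem_specialLinear.1 hg) ?_ ?_
  · intro θ v b hp hv x y z hxy hyz _
    exact ⟨toGL _ (KL.det_cyc h7 hv hxy hyz), mem_specialLinear.2 (KL.det_cyc h7 hv hxy hyz), rfl⟩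
  · have he : (Pi.single 0 1 : Fin 4 → F) ≠ 0 := by simp
    have hf : (Pi.single 1 1 : Fin 4 → F) ≠ 0 := by simp
    have hef : (Pi.single 1 1 : Fin 4 → F) ⬝ᵥ (Pi.single 0 1 : Fin 4 → F) = 0 := by simp
    exact ⟨toGL _ (KL.det_vec _ _ hef), mem_specialLinear.2 (KL.det_vec _ _ hef), vec_not_scalar he hf hef,
      KL.act_sq_vec _ _ hef⟩

end Cfsg.Agent.H908

namespace Cfsg.Agent.H908

open Cfsg Cfsg.Geo Module Matrix Cfsg.Agent.LieClassical.KleinSix Cfsg.Agent.LieClassical.HermBasic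
  Cfsg.Agent.ClassicalGeometry.HermParabolic
open scoped MatrixGroups commutatorElement

variable {F : Type*} [Field F] [Fintype F] {P : Subgroup (GL (Fin 4) F)}

/-- **`SU₄(q)`.** -/
theorem l7_not_maximal_su {q : ℕ} (hF : Fintype.card F = q ^ 2) {φ : P →* Psl7.T} (h : Cov P φ) (h2 : (2 : F) ≠ 0)
    (h7 : (7 : F) ≠ 0) {H : Subgroup (GL (Fin 4) F)} (hc : IsResidualCore H P)
    (hq : ¬ ∃ Q : (Fin 4 → F) → F, IsNondegenerateQuadraticForm Q ∧ FixesQuadForm (matrixSet P) Q)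
    (hs : ¬ ∃ f : (Fin 4 → F) → (Fin 4 → F) → F, IsSymplecticForm f ∧ FixesForm (matrixSet P) f)
    (hmax : IsMaximalIn (GU 4 F q ⊓ specialLinear (Fin 4) F) H) : False := by
  have hPU : P ≤ GU 4 F q := (hc.le.trans hmax.1.le).trans inf_le_left
  refine l7_not_maximal h h2 h7 hc hq hs hmax (fun g hg => mem_specialLinear.1 hg.2) ?_ ?_
  · intro θ v b hp hv x y z hxy hyz _
    have hd := KL.det_cyc h7 hv hxy hyz
    refine ⟨toGL _ hd, ⟨?_, mem_specialLinear.2 hd⟩, rfl⟩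
    exact (mem_GU_iff_matrix hF _).2 (KL.cyc_unitary hF hp h7 hv hPU hxy hyz)
  · obtain ⟨e, f, hef, he, hf, hu⟩ := KL.exists_unitary_transvection hF
    refine ⟨toGL _ (KL.det_vec _ _ hef), ⟨?_, mem_specialLinear.2 (KL.det_vec _ _ hef)⟩, vec_not_scalar he hf hef,
      KL.act_sq_vec _ _ hef⟩
    exact (mem_GU_iff_matrix hF _).2 hu

end Cfsg.Agent.H908
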