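import Cfsg.Agent.H908.SUFrame
import Cfsg.Agent.H930.SpInSU

/-!
# Pairs of totally isotropic planes, `q ≤ 3`: the stabiliser in `SU_4(q)` is contained in a subfield group of
symplectic type
-/

set_option autoImplicit false
set_option linter.style.haveILetI false

namespace Cfsg.Agent.H908

open Cfsg Cfsg.Geo Matrix Cfsg.Agent.H918 Cfsg.Agent.LieClassical.HermBasic Cfsg.Agent.H930
open Cfsg.Agent.H873.Sub

variable {F : Type*} [Field F]

/-- The antidiagonal Hermitian form. -/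
def antiForm (q : ℕ) (u v : Fin 4 → F) : F := u 0 * v 3 ^ q + u 1 * v 2 ^ q + u 2 * v 1 ^ q + u 3 * v 0 ^ q

/-- The semilinear map `τ` with `antiForm u (τ v) = detForm u v`. -/
def tau (q : ℕ) (v : Fin 4 → F) : Fin 4 → F := ![-(v 2) ^ q, (v 3) ^ q, -(v 0) ^ q, (v 1) ^ q]

/-- The subfield of fixed points of `x ↦ x ^ q`. -/
def fixQ [Fintype F] {q : ℕ} (hF : Fintype.card F = q ^ 2) : Subfield F where
  carrier := {x | x ^ q = x}
  mul_mem' := by
    intro a b ha hb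
    rw [Set.mem_ofPred_eq] at ha hb ⊢
    rw [mul_pow, ha, hb]
  one_mem' := by rw [Set.mem_ofPred_eq, one_pow]
  add_mem' := by
    intro a b ha hb
    rw [Set.mem_ofPred_eq] at ha hb ⊢
    rw [LieClassical.HermBasic.add_pow_q hF, ha, hb]
  zero_mem' := by rw [Set.mem_ofPred_eq, zero_pow_q hF]
  neg_mem' := by
    intro a ha
    rw [Set.mem_ofPred_eq] at ha ⊢
    rw [neg_pow_q hF, ha]
  inv_mem' := by
    intro a ha
    rw [Set.mem_ofPred_eq] at ha ⊢
    rw [inv_pow, ha]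

theorem mem_fixQ [Fintype F] {q : ℕ} (hF : Fintype.card F = q ^ 2) {x : F} : x ∈ fixQ hF ↔ x ^ q = x := Iff.rfl

theorem card_fixQ [Fintype F] {q : ℕ} (hF : Fintype.card F = q ^ 2) : Nat.card (fixQ hF) = q := card_fixed hF

theorem antiForm_tau [Fintype F] {q : ℕ} (hF : Fintype.card F = q ^ 2) (u v : Fin 4 → F) :
    antiForm q u (tau q v) = detForm u v := by
  simp only [antiForm, tau, detForm, Matrix.cons_val_zero, Matrix.cons_val_one, Matrix.cons_val]
  rw [pow_q_pow_q hF, pow_q_pow_q hF, neg_pow_q hF, neg_pow_q hF, pow_q_pow_q hF, pow_q_pow_q hF]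
  ring

/-- Block matrices of determinant one preserving the antidiagonal form, `q ≤ 3`. -/
theorem detForm_anti [Fintype F] {q : ℕ} (hF : Fintype.card F = q ^ 2) (hq : q ≤ 3)
    {A : Matrix (Fin 4) (Fin 4) F} (hdet : A.det = 1)
    (hiso : ∀ u v, antiForm q (A *ᵥ u) (A *ᵥ v) = antiForm q u v) (σ : Equiv.Perm (Fin 2))
    (hA : ∀ k l : Fin 4, ((finProdFinEquiv (m := 2) (n := 2)).symm k).1 ≠
      σ ((finProdFinEquiv (m := 2) (n := 2)).symm l).1 → A k l = 0) :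
    ∃ c : F, (c = 1 ∨ c = -1) ∧ ∀ u v, detForm (A *ᵥ u) (A *ᵥ v) = c * detForm u v := by
  have hmv : ∀ (u : Fin 4 → F) (i : Fin 4), (A *ᵥ u) i = A i 0 * u 0 + A i 1 * u 1 + A i 2 * u 2 +
      A i 3 * u 3 := by
    intro u i
    rw [Matrix.mulVec, dotProduct, Fin.sum_univ_four]
  have hq0 : q ≠ 0 := (q_pos hF).ne'
  have h03 := hiso (Pi.single 0 1) (Pi.single 3 1)
  have h02 := hiso (Pi.single 0 1) (Pi.single 2 1)
  have h12 := hiso (Pi.single 1 1) (Pi.single 2 1)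
  have h13 := hiso (Pi.single 1 1) (Pi.single 3 1)
  simp only [antiForm, Matrix.mulVec_single_one, Matrix.col_apply] at h03 h02 h12 h13
  simp [hq0] at h03 h02 h12 h13
  rw [det_four] at hdet
  -- the common conclusion
  have fin' : ∀ x y : F, x * y = 1 → x * y ^ q = 1 → ∃ c : F, (c = 1 ∨ c = -1) ∧ c = x ∧ c = y := by
    intro x y hxy hxy'
    have hx : x ≠ 0 := by rintro rfl; rw [zero_mul] at hxy; exact zero_ne_one hxy
    have hy0 : y ≠ 0 := by rintro rfl; rw [mul_zero] at hxy; exact zero_ne_one hxy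
    have hy : y ^ q = y := mul_left_cancel₀ hx (by rw [hxy, hxy'])
    have hq2 := two_le hF
    have hy2 : y = 1 ∨ y = -1 := by
      have : q = 2 ∨ q = 3 := by omega
      rcases this with rfl | rfl
      · left
        apply mul_left_cancel₀ hy0
        rw [← pow_two, hy, mul_one]
      · have h1 : y ^ 2 = 1 := by
          apply mul_left_cancel₀ hy0
          rw [← pow_succ', hy, mul_one]
        exact mul_self_eq_one_iff.1 (by rw [← pow_two, h1])
    refine ⟨y, hy2, ?_, rfl⟩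
    rcases hy2 with h | h
    · rw [h, mul_one] at hxy; rw [h, hxy]
    · rw [h] at hxy ⊢
      linear_combination hxy
  rcases perm_two σ with ⟨h0, h1⟩ | ⟨h0, h1⟩
  · have z02 : A 0 2 = 0 := hA 0 2 (by change (0 : Fin 2) ≠ σ 1; rw [h1]; decide)
    have z03 : A 0 3 = 0 := hA 0 3 (by change (0 : Fin 2) ≠ σ 1; rw [h1]; decide)
    have z12 : A 1 2 = 0 := hA 1 2 (by change (0 : Fin 2) ≠ σ 1; rw [h1]; decide)
    have z13 : A 1 3 = 0 := hA 1 3 (by change (0 : Fin 2) ≠ σ 1; rw [h1]; decide)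
    have z20 : A 2 0 = 0 := hA 2 0 (by change (1 : Fin 2) ≠ σ 0; rw [h0]; decide)
    have z21 : A 2 1 = 0 := hA 2 1 (by change (1 : Fin 2) ≠ σ 0; rw [h0]; decide)
    have z30 : A 3 0 = 0 := hA 3 0 (by change (1 : Fin 2) ≠ σ 0; rw [h0]; decide)
    have z31 : A 3 1 = 0 := hA 3 1 (by change (1 : Fin 2) ≠ σ 0; rw [h0]; decide)
    have hd : (A 0 0 * A 1 1 - A 0 1 * A 1 0) * (A 2 2 * A 3 3 - A 2 3 * A 3 2) = 1 := by
      rw [← hdet, z02, z03, z12, z13]
      ring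
    have hd' : (A 0 0 * A 1 1 - A 0 1 * A 1 0) * (A 2 2 * A 3 3 - A 2 3 * A 3 2) ^ q = 1 := by
      rw [LieClassical.HermBasic.sub_pow_q hF, mul_pow, mul_pow]
      simp [z02, z03, z12, z13, z20, z21, z30, z31, hq0] at h03 h02 h12 h13
      linear_combination (A 1 1 * A 2 2 ^ q + A 0 1 * A 3 2 ^ q) * h03 - (A 1 1 * A 2 3 ^ q + A 0 1 * A 3 3 ^ q) * h02 + h12
    obtain ⟨c, hc, hc1, hc2⟩ := fin' _ _ hd hd'
    refine ⟨c, hc, fun u v => ?_⟩
    unfold detForm
    simp only [hmv, z02, z03, z12, z13, z20, z21, z30, z31]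
    linear_combination (-(u 0 * v 1 - u 1 * v 0)) * hc1 + (-(u 2 * v 3 - u 3 * v 2)) * hc2
  · have z00 : A 0 0 = 0 := hA 0 0 (by change (0 : Fin 2) ≠ σ 0; rw [h0]; decide)
    have z01 : A 0 1 = 0 := hA 0 1 (by change (0 : Fin 2) ≠ σ 0; rw [h0]; decide)
    have z10 : A 1 0 = 0 := hA 1 0 (by change (0 : Fin 2) ≠ σ 0; rw [h0]; decide)
    have z11 : A 1 1 = 0 := hA 1 1 (by change (0 : Fin 2) ≠ σ 0; rw [h0]; decide)
    have z22 : A 2 2 = 0 := hA 2 2 (by change (1 : Fin 2) ≠ σ 1; rw [h1]; decide)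
    have z23 : A 2 3 = 0 := hA 2 3 (by change (1 : Fin 2) ≠ σ 1; rw [h1]; decide)
    have z32 : A 3 2 = 0 := hA 3 2 (by change (1 : Fin 2) ≠ σ 1; rw [h1]; decide)
    have z33 : A 3 3 = 0 := hA 3 3 (by change (1 : Fin 2) ≠ σ 1; rw [h1]; decide)
    have hd : (A 2 0 * A 3 1 - A 2 1 * A 3 0) * (A 0 2 * A 1 3 - A 0 3 * A 1 2) = 1 := by
      rw [← hdet, z00, z01, z10, z11]
      ring
    have hd' : (A 2 0 * A 3 1 - A 2 1 * A 3 0) * (A 0 2 * A 1 3 - A 0 3 * A 1 2) ^ q = 1 := by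
      rw [LieClassical.HermBasic.sub_pow_q hF, mul_pow, mul_pow]
      simp [z00, z01, z10, z11, z22, z23, z32, z33, hq0] at h03 h02 h12 h13
      linear_combination (A 2 1 * A 1 2 ^ q + A 3 1 * A 0 2 ^ q) * h03 - (A 2 1 * A 1 3 ^ q + A 3 1 * A 0 3 ^ q) * h02 + h12
    obtain ⟨c, hc, hc1, hc2⟩ := fin' _ _ hd hd'
    refine ⟨c, hc, fun u v => ?_⟩
    unfold detForm
    simp only [hmv, z00, z01, z10, z11, z22, z23, z32, z33]
    linear_combination (-(u 0 * v 1 - u 1 * v 0)) * hc1 + (-(u 2 * v 3 - u 3 * v 2)) * hc2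

/-- The frame of a pair of complementary totally isotropic planes. -/
theorem exists_anti_frame [Fintype F] {q : ℕ} (hF : Fintype.card F = q ^ 2)
    {D : Fin 2 → Submodule F (Fin 4 → F)} (hD : IsMDecomposition 2 D)
    (hs : ∀ i, IsTotallySingularFor (hermForm 4 F q) (D i)) :
    ∃ Q : GL (Fin 4) F, (∀ u v, hermForm 4 F q ((Q : Matrix (Fin 4) (Fin 4) F) *ᵥ u)
      ((Q : Matrix (Fin 4) (Fin 4) F) *ᵥ v) = antiForm q u v) ∧
      (Q : Matrix (Fin 4) (Fin 4) F) *ᵥ Pi.single 0 1 ∈ D 0 ∧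
      (Q : Matrix (Fin 4) (Fin 4) F) *ᵥ Pi.single 1 1 ∈ D 0 ∧
      (Q : Matrix (Fin 4) (Fin 4) F) *ᵥ Pi.single 2 1 ∈ D 1 ∧
      (Q : Matrix (Fin 4) (Fin 4) F) *ᵥ Pi.single 3 1 ∈ D 1 := by
  have htop : D 0 ⊔ D 1 = ⊤ := by
    have := hD.iSup_eq_top
    rw [eq_top_iff, ← this, iSup_le_iff]
    intro i
    fin_cases i
    · exact le_sup_left
    · exact le_sup_right
  let e := Module.finBasisOfFinrankEq F (D 0) (hD.finrank_eq 0)
  have he : ∀ x ∈ D 0, ∃ a b : F, x = a • (e 0 : Fin 4 → F) + b • (e 1 : Fin 4 → F) := by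
    intro x hx
    have h := e.sum_repr ⟨x, hx⟩
    rw [Fin.sum_univ_two] at h
    refine ⟨_, _, (congrArg Subtype.val h).symm⟩
  -- the pairing
  let Φ : D 1 →ₗ[F] (Fin 2 → F) :=
    { toFun := fun v => ![hermForm 4 F q (v : Fin 4 → F) (e 0), hermForm 4 F q (v : Fin 4 → F) (e 1)]
      map_add' := fun v w => by
        ext i; fin_cases i <;> simp [herm_add_left]
      map_smul' := fun c v => by
        ext i; fin_cases i <;> simp [herm_smul_left] }
  have hinj : Function.Injective Φ := by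
    rw [← LinearMap.ker_eq_bot, LinearMap.ker_eq_bot']
    intro v hv
    have h0 : hermForm 4 F q (v : Fin 4 → F) (e 0) = 0 := congrFun hv 0
    have h1 : hermForm 4 F q (v : Fin 4 → F) (e 1) = 0 := congrFun hv 1
    apply Subtype.ext
    apply herm_nondeg hF
    intro x
    have hx : x ∈ D 0 ⊔ D 1 := by rw [htop]; exact Submodule.mem_top
    obtain ⟨y, hy, z, hz, rfl⟩ := Submodule.mem_sup.1 hx
    obtain ⟨a, b, rfl⟩ := he y hy
    rw [herm_add_right hF, herm_add_right hF, herm_smul_right, herm_smul_right, h0, h1,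
      hs 1 _ v.2 _ hz]
    simp
  have hsurj : Function.Surjective Φ := by
    apply (LinearMap.injective_iff_surjective_of_finrank_eq_finrank _).1 hinj
    rw [hD.finrank_eq 1]
    simp
  obtain ⟨v3, hv3⟩ := hsurj ![1, 0]
  obtain ⟨v2, hv2⟩ := hsurj ![0, 1]
  have h30 : hermForm 4 F q (v3 : Fin 4 → F) (e 0) = 1 := congrFun hv3 0
  have h31 : hermForm 4 F q (v3 : Fin 4 → F) (e 1) = 0 := congrFun hv3 1
  have h20 : hermForm 4 F q (v2 : Fin 4 → F) (e 0) = 0 := congrFun hv2 0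
  have h21 : hermForm 4 F q (v2 : Fin 4 → F) (e 1) = 1 := congrFun hv2 1
  have h03 : hermForm 4 F q (e 0 : Fin 4 → F) v3 = 1 := by rw [herm_swap hF, h30, one_pow]
  have h13 : hermForm 4 F q (e 1 : Fin 4 → F) v3 = 0 := by rw [herm_swap hF, h31, zero_pow_q hF]
  have h02 : hermForm 4 F q (e 0 : Fin 4 → F) v2 = 0 := by rw [herm_swap hF, h20, zero_pow_q hF]
  have h12 : hermForm 4 F q (e 1 : Fin 4 → F) v2 = 1 := by rw [herm_swap hF, h21, one_pow]
  have s0 : ∀ i j, hermForm 4 F q (e i : Fin 4 → F) (e j) = 0 := fun i j => hs 0 _ (e i).2 _ (e j).2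
  have s1 : ∀ x y : D 1, hermForm 4 F q (x : Fin 4 → F) y = 0 := fun x y => hs 1 _ x.2 _ y.2
  let b : Fin 4 → (Fin 4 → F) := ![e 0, e 1, v2, v3]
  let M : Matrix (Fin 4) (Fin 4) F := Matrix.of fun i j => b j i
  have hM : ∀ x : Fin 4 → F, M *ᵥ x = x 0 • (e 0 : Fin 4 → F) + x 1 • (e 1 : Fin 4 → F) +
      x 2 • (v2 : Fin 4 → F) + x 3 • (v3 : Fin 4 → F) := by
    intro x
    ext i
    simp only [Matrix.mulVec, dotProduct, Fin.sum_univ_four, M, b, Matrix.of_apply,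
      Matrix.cons_val_zero, Matrix.cons_val_one, Matrix.cons_val, Pi.add_apply, Pi.smul_apply, smul_eq_mul]
    ring
  have hform : ∀ u v, hermForm 4 F q (M *ᵥ u) (M *ᵥ v) = antiForm q u v := by
    intro u v
    rw [hM, hM]
    simp only [herm_add_left, herm_add_right hF, herm_smul_left, herm_smul_right, s0, s1, h30, h31, h20, h21,
      h03, h13, h02, h12, antiForm]
    ring
  have hunit : IsUnit M := by
    rw [← Matrix.mulVec_injective_iff_isUnit]
    intro x y hxy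
    have h1 : M *ᵥ (x - y) = 0 := by
      rw [Matrix.mulVec_sub]
      exact sub_eq_zero.2 hxy
    have h2 : ∀ v, antiForm q (x - y) v = 0 := by
      intro v
      rw [← hform, h1, herm_zero_left]
    have hq0 : q ≠ 0 := (q_pos hF).ne'
    have a0 := h2 (Pi.single 3 1)
    have a1 := h2 (Pi.single 2 1)
    have a2 := h2 (Pi.single 1 1)
    have a3 := h2 (Pi.single 0 1)
    simp [antiForm, hq0] at a0 a1 a2 a3
    funext i
    fin_cases i
    · exact sub_eq_zero.1 a0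
    · exact sub_eq_zero.1 a1
    · exact sub_eq_zero.1 a2
    · exact sub_eq_zero.1 a3
  obtain ⟨Q, hQ⟩ := hunit
  refine ⟨Q, ?_, ?_, ?_, ?_, ?_⟩
  · intro u v
    rw [hQ, hform]
  · rw [hQ, hM]; simp
  · rw [hQ, hM]; simp
  · rw [hQ, hM]; simp
  · rw [hQ, hM]; simp

/-- The matrix whose columns span the fixed points of `tau` over the fixed field. -/
def fixMat (q : ℕ) (η : F) : Matrix (Fin 4) (Fin 4) F :=
  !![1, η, 0, 0; 0, 0, 1, η; -1, -η ^ q, 0, 0; 0, 0, 1, η ^ q]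

theorem fixMat_mulVec (q : ℕ) (η : F) (u : Fin 4 → F) : fixMat q η *ᵥ u =
    ![u 0 + η * u 1, u 2 + η * u 3, -(u 0 + η ^ q * u 1), u 2 + η ^ q * u 3] := by
  ext i
  (fin_cases i <;> simp [fixMat, Matrix.mulVec, dotProduct, Fin.sum_univ_four]); ring

theorem fixMat_det {q : ℕ} {η : F} (hη : η ^ q ≠ η) : (fixMat q η).det ≠ 0 := by
  have h : (fixMat q η).det = (η ^ q - η) ^ 2 := by
    rw [det_four]
    simp [fixMat]
    ring
  rw [h]
  exact pow_ne_zero 2 (sub_ne_zero.2 hη)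

theorem tau_fixMat [Fintype F] {q : ℕ} (hF : Fintype.card F = q ^ 2) {η : F} {u : Fin 4 → F}
    (hu : ∀ i, u i ^ q = u i) : tau q (fixMat q η *ᵥ u) = fixMat q η *ᵥ u := by
  rw [fixMat_mulVec]
  ext i
  fin_cases i
  · simp [tau, neg_pow_q hF, LieClassical.HermBasic.add_pow_q hF, mul_pow, hu, pow_q_pow_q hF]
  · simp [tau, neg_pow_q hF, LieClassical.HermBasic.add_pow_q hF, mul_pow, hu, pow_q_pow_q hF]
  · simp [tau, neg_pow_q hF, LieClassical.HermBasic.add_pow_q hF, mul_pow, hu, pow_q_pow_q hF]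
  · simp [tau, neg_pow_q hF, LieClassical.HermBasic.add_pow_q hF, mul_pow, hu, pow_q_pow_q hF]

theorem exists_of_tau [Fintype F] {q : ℕ} (hF : Fintype.card F = q ^ 2) {η : F} (hη : η ^ q ≠ η)
    {v : Fin 4 → F} (hv : tau q v = v) : ∃ w : Fin 4 → F, (∀ i, w i ∈ fixQ hF) ∧ v = fixMat q η *ᵥ w := by
  have hc : Fintype.card F = Nat.card (fixQ hF) ^ 2 := by rw [card_fixQ, hF]
  obtain ⟨a, b, hab⟩ := SpInSU.exists_decomp hF hc hη (v 0)
  obtain ⟨c, d, hcd⟩ := SpInSU.exists_decomp hF hc hη (v 1)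
  have ha : (a : F) ^ q = a := a.2
  have hb : (b : F) ^ q = b := b.2
  have hc' : (c : F) ^ q = c := c.2
  have hd : (d : F) ^ q = d := d.2
  have h2 : v 2 = -(v 0) ^ q := (congrFun hv 2).symm
  have h3 : v 3 = (v 1) ^ q := (congrFun hv 3).symm
  refine ⟨![a, b, c, d], ?_, ?_⟩
  · intro i
    fin_cases i
    · exact a.2
    · exact b.2
    · exact c.2
    · exact d.2
  · rw [fixMat_mulVec]
    ext i
    fin_cases i
    · simpa using hab
    · simpa using hcd
    · have : v 2 = -((a : F) + η ^ q * b) := by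
        rw [h2, hab, LieClassical.HermBasic.add_pow_q hF, mul_pow, ha, hb]
      simpa using this
    · have : v 3 = (c : F) + η ^ q * d := by
        rw [h3, hcd, LieClassical.HermBasic.add_pow_q hF, mul_pow, hc', hd]
      simpa using this

/-- The antidiagonal form is nondegenerate. -/
theorem antiForm_nondeg [Fintype F] {q : ℕ} (hF : Fintype.card F = q ^ 2) {x y : Fin 4 → F}
    (h : ∀ u, antiForm q u x = antiForm q u y) : x = y := by
  have a0 := h (Pi.single 3 1)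
  have a1 := h (Pi.single 2 1)
  have a2 := h (Pi.single 1 1)
  have a3 := h (Pi.single 0 1)
  simp [antiForm] at a0 a1 a2 a3
  funext i
  fin_cases i
  · exact (pow_q_inj hF).1 a0
  · exact (pow_q_inj hF).1 a1
  · exact (pow_q_inj hF).1 a2
  · exact (pow_q_inj hF).1 a3

theorem rev_block : ∀ (i : Fin 2) (k : Fin 4), ((finProdFinEquiv (m := 2) (n := 2)).symm k).1 ≠ i →
    ((finProdFinEquiv (m := 2) (n := 2)).symm (Fin.rev k)).1 = i := by
  decide

/-- `q ≤ 3`: the stabiliser in `SU_4(q)` of a complementary pair of totally isotropic planes lies in a subfield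
group of symplectic type. -/
theorem su_planes_small [Fintype F] {q : ℕ} (hF : Fintype.card F = q ^ 2) (hq : q ≤ 3)
    {D : Fin 2 → Submodule F (Fin 4 → F)} (hD : IsMDecomposition 2 D)
    (hs : ∀ i, IsTotallySingularFor (hermForm 4 F q) (D i)) :
    ∃ (F₀ : Subfield F) (P : GL (Fin 4) F) (ζ : F), Fintype.card F = Nat.card F₀ ^ 2 ∧ ζ ≠ 0 ∧
      ζ + ζ ^ q = 0 ∧ IsFormRationalStructure (hermForm 4 F q) F₀ ζ P ∧
      (∀ u : Fin 4 → F, (∀ i, u i ∈ F₀) → (hermForm 4 F q) ((P : Matrix (Fin 4) (Fin 4) F) *ᵥ u)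
        ((P : Matrix (Fin 4) (Fin 4) F) *ᵥ u) = 0) ∧
      decompositionStabilizer D ⊓ SUg 4 F q ≤ subfieldSubgroup F₀ P := by
  obtain ⟨Q, hQf, hQ0, hQ1, hQ2, hQ3⟩ := exists_anti_frame hF hD hs
  obtain ⟨η, hη⟩ := exists_not_fixed hF
  obtain ⟨ζ, hζ0, hζ⟩ := exists_trace_zero_ne hF
  let P0 : GL (Fin 4) F := Matrix.GeneralLinearGroup.mkOfDetNeZero (fixMat q η) (fixMat_det hη)
  have hP0 : (P0 : Matrix (Fin 4) (Fin 4) F) = fixMat q η := rfl
  have hform : ∀ u v : Fin 4 → F, (∀ i, v i ∈ fixQ hF) →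
      hermForm 4 F q (((Q * P0 : GL (Fin 4) F) : Matrix (Fin 4) (Fin 4) F) *ᵥ u)
        (((Q * P0 : GL (Fin 4) F) : Matrix (Fin 4) (Fin 4) F) *ᵥ v) =
      detForm (fixMat q η *ᵥ u) (fixMat q η *ᵥ v) := by
    intro u v hv
    rw [Units.val_mul, ← Matrix.mulVec_mulVec, ← Matrix.mulVec_mulVec, hQf, hP0, ← antiForm_tau hF,
      tau_fixMat hF hv]
  have hnorm : ∀ k : Fin 4, ∀ x : Fin 4 → F, hermForm 4 F q ((Q : Matrix (Fin 4) (Fin 4) F) *ᵥ x)
      ((Q : Matrix (Fin 4) (Fin 4) F) *ᵥ Pi.single k 1) = x (Fin.rev k) := by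
    intro k x
    rw [hQf]
    have hq0 : q ≠ 0 := (q_pos hF).ne'
    fin_cases k <;> simp [antiForm, hq0]
  refine ⟨fixQ hF, Q * P0, ζ, by rw [card_fixQ, hF], hζ0, hζ, ?_, ?_, ?_⟩
  · intro u v hu hv
    rw [hform u v hv, mem_fixQ, fixMat_mulVec, fixMat_mulVec]
    have e : ∀ a b c d a' b' c' d' : F, detForm ![a, b, c, d] ![a', b', c', d'] =
        a * b' - b * a' + (c * d' - d * c') := fun _ _ _ _ _ _ _ _ => rfl
    rw [e]
    have hu' : ∀ i, u i ^ q = u i := hu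
    have hv' : ∀ i, v i ^ q = v i := hv
    have hζ' : ζ ^ q = - ζ := by linear_combination hζ
    rw [mul_pow, hζ', LieClassical.HermBasic.add_pow_q hF, LieClassical.HermBasic.sub_pow_q hF, LieClassical.HermBasic.sub_pow_q hF, mul_pow, mul_pow, mul_pow, mul_pow, neg_pow_q hF, neg_pow_q hF,
      LieClassical.HermBasic.add_pow_q hF, LieClassical.HermBasic.add_pow_q hF, LieClassical.HermBasic.add_pow_q hF, LieClassical.HermBasic.add_pow_q hF,
      LieClassical.HermBasic.add_pow_q hF, LieClassical.HermBasic.add_pow_q hF, LieClassical.HermBasic.add_pow_q hF, LieClassical.HermBasic.add_pow_q hF]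
    simp only [mul_pow, hu', hv', pow_q_pow_q hF]
    ring
  · intro u hu
    rw [hform u u hu]
    unfold detForm
    ring
  · rintro g ⟨⟨σ, hσ⟩, hgU, hgs⟩
    -- the matrix in the frame
    have hgQ : ∀ x : Fin 4 → F, (Q : Matrix (Fin 4) (Fin 4) F) *ᵥ
        (((Q⁻¹ * g * Q : GL (Fin 4) F) : Matrix (Fin 4) (Fin 4) F) *ᵥ x) =
        (g : Matrix (Fin 4) (Fin 4) F) *ᵥ ((Q : Matrix (Fin 4) (Fin 4) F) *ᵥ x) := by
      intro x
      rw [Matrix.mulVec_mulVec, Matrix.mulVec_mulVec, ← Units.val_mul, ← Units.val_mul]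
      congr 2
      simp [mul_assoc]
    have hAiso : ∀ u v, antiForm q (((Q⁻¹ * g * Q : GL (Fin 4) F) : Matrix (Fin 4) (Fin 4) F) *ᵥ u)
        (((Q⁻¹ * g * Q : GL (Fin 4) F) : Matrix (Fin 4) (Fin 4) F) *ᵥ v) = antiForm q u v := by
      intro u v
      rw [← hQf, hgQ, hgQ]
      rw [show hermForm 4 F q ((g : Matrix (Fin 4) (Fin 4) F) *ᵥ ((Q : Matrix (Fin 4) (Fin 4) F) *ᵥ u))
        ((g : Matrix (Fin 4) (Fin 4) F) *ᵥ ((Q : Matrix (Fin 4) (Fin 4) F) *ᵥ v)) =
        hermForm 4 F q ((Q : Matrix (Fin 4) (Fin 4) F) *ᵥ u) ((Q : Matrix (Fin 4) (Fin 4) F) *ᵥ v) from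
        hgU _ _, hQf]
    have hdet : ((Q⁻¹ * g * Q : GL (Fin 4) F) : Matrix (Fin 4) (Fin 4) F).det = 1 := by
      rw [Units.val_mul, Units.val_mul, Matrix.det_mul, Matrix.det_mul, (H908.mem_sl_iff g).1 hgs, mul_one,
        ← Matrix.det_mul, ← Units.val_mul, inv_mul_cancel, Units.val_one, Matrix.det_one]
    have hblk : ∀ l : Fin 4, (Q : Matrix (Fin 4) (Fin 4) F) *ᵥ Pi.single l 1 ∈
        D ((finProdFinEquiv (m := 2) (n := 2)).symm l).1 := by
      intro l
      fin_cases l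
      · exact hQ0
      · exact hQ1
      · exact hQ2
      · exact hQ3
    have hzero : ∀ (i : Fin 2) (w : Fin 4 → F), (Q : Matrix (Fin 4) (Fin 4) F) *ᵥ w ∈ D i →
        ∀ k : Fin 4, ((finProdFinEquiv (m := 2) (n := 2)).symm k).1 ≠ i → w k = 0 := by
      intro i w hw k hk
      have h1 : ((finProdFinEquiv (m := 2) (n := 2)).symm (Fin.rev k)).1 = i := rev_block i k hk
      have h2 := hnorm (Fin.rev k) w
      rw [Fin.rev_rev] at h2
      rw [← h2]
      apply hs i _ hw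
      rw [← h1]
      exact hblk _
    have hA : ∀ k l : Fin 4, ((finProdFinEquiv (m := 2) (n := 2)).symm k).1 ≠
        σ ((finProdFinEquiv (m := 2) (n := 2)).symm l).1 →
        ((Q⁻¹ * g * Q : GL (Fin 4) F) : Matrix (Fin 4) (Fin 4) F) k l = 0 := by
      intro k l hkl
      have h1 : (Q : Matrix (Fin 4) (Fin 4) F) *ᵥ
        (((Q⁻¹ * g * Q : GL (Fin 4) F) : Matrix (Fin 4) (Fin 4) F) *ᵥ Pi.single l 1) ∈
          D (σ ((finProdFinEquiv (m := 2) (n := 2)).symm l).1) := by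
        rw [hgQ, ← hσ]
        exact ⟨_, hblk l, rfl⟩
      have h2 := hzero _ _ h1 k hkl
      rwa [Matrix.mulVec_single_one] at h2
    obtain ⟨c, hc, hcf⟩ := detForm_anti hF hq hdet hAiso σ hA
    set A := Q⁻¹ * g * Q with hAdef
    have hcq : c ^ q = c := by
      rcases hc with h | h
      · rw [h, one_pow]
      · rw [h, neg_pow_q hF, one_pow]
    -- `τ A v = c A v` for fixed `v`
    have htau : ∀ v : Fin 4 → F, tau q v = v → tau q ((A : Matrix (Fin 4) (Fin 4) F) *ᵥ v) =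
        c • ((A : Matrix (Fin 4) (Fin 4) F) *ᵥ v) := by
      intro v hv
      apply antiForm_nondeg hF
      intro x
      obtain ⟨y, rfl⟩ : ∃ y, x = (A : Matrix (Fin 4) (Fin 4) F) *ᵥ y :=
        ⟨((A⁻¹ : GL (Fin 4) F) : Matrix (Fin 4) (Fin 4) F) *ᵥ x, by
          rw [Matrix.mulVec_mulVec, ← Units.val_mul, mul_inv_cancel, Units.val_one, Matrix.one_mulVec]⟩
      rw [antiForm_tau hF, hcf, ← antiForm_tau hF, hv, ← hAiso y v]
      simp only [antiForm, Pi.smul_apply, smul_eq_mul, mul_pow, hcq]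
      ring
    apply mem_subfieldSubgroup_of_lines (by simp)
    intro u
    have hfix := tau_fixMat hF (η := η) (u := cv (fixQ hF) u) (fun i => (u i).2)
    have hsm : ∃ l : F, tau q (l • ((A : Matrix (Fin 4) (Fin 4) F) *ᵥ (fixMat q η *ᵥ cv (fixQ hF) u))) =
        l • ((A : Matrix (Fin 4) (Fin 4) F) *ᵥ (fixMat q η *ᵥ cv (fixQ hF) u)) ∧ l ≠ 0 := by
      have hsmul : ∀ (l : F) (w : Fin 4 → F), tau q (l • w) = l ^ q • tau q w := by
        intro l w
        ext i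
        fin_cases i <;> simp [tau, mul_pow]
      rcases hc with h | h
      · refine ⟨1, ?_, one_ne_zero⟩
        rw [one_smul, htau _ hfix, h, one_smul]
      · refine ⟨ζ, ?_, hζ0⟩
        rw [hsmul, htau _ hfix, h, smul_smul]
        congr 1
        linear_combination -hζ
    obtain ⟨l, hl, hl0⟩ := hsm
    obtain ⟨w, hw, hw'⟩ := exists_of_tau hF hη hl
    refine ⟨l⁻¹, fun i => ⟨w i, hw i⟩, ?_⟩
    have e : cv (fixQ hF) (fun i => ⟨w i, hw i⟩) = w := rfl
    rw [rv, rv, e, Units.val_mul, ← Matrix.mulVec_mulVec, ← Matrix.mulVec_mulVec, hP0, ← hw',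
      Matrix.mulVec_smul, smul_smul, inv_mul_cancel₀ hl0, one_smul, hgQ]

end Cfsg.Agent.H908
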