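import Cfsg.Agent.H918.UWrap
import Cfsg.Agent.H930.UnitaryTwo
import Cfsg.Agent.H908.SUPlanes

/-!
# Maximal subgroups of `SU_4(q)`: the reduction to the general theorem

From "a maximal subgroup of `SU_4(q)` is in a member of `InUnitaryClass` or in the residual class" to the list of
statement S5784.
-/

set_option autoImplicit false

namespace Cfsg.Agent.H908

open Cfsg Cfsg.Agent.H918
open scoped Matrix MatrixGroups

theorem four_eq_pow {k t : ℕ} (ht : 2 ≤ t) (hk : 3 ≤ k) : k ^ t ≠ 4 := by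
  intro h
  have h1 : 3 ^ t ≤ k ^ t := Nat.pow_le_pow_left hk t
  have h2 : 3 ^ 2 ≤ 3 ^ t := Nat.pow_le_pow_right (by norm_num) ht
  omega

theorem su4_cases {F : Type*} [Field F] [Fintype F] (q : ℕ) (hF : Fintype.card F = q ^ 2) (H : Subgroup (Matrix.GeneralLinearGroup (Fin 4) F)) (hH : Cfsg.Geo.IsMaximalIn (Cfsg.GU 4 F q ⊓ Cfsg.Geo.specialLinear (Fin 4) F) H)
    (h : (∃ M : Subgroup (Matrix.GeneralLinearGroup (Fin 4) F), Geo.InUnitaryClass 4 F q M ∧ H ≤ M) ∨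
      Geo.InUnitaryResidualClass H) :
    (∃ W : Submodule F (Fin 4 → F), W ≠ ⊥ ∧ Cfsg.Geo.IsTotallySingularFor (Cfsg.hermForm 4 F q) W ∧ H = Cfsg.Geo.subspaceStabilizer W ⊓ (Cfsg.GU 4 F q ⊓ Cfsg.Geo.specialLinear (Fin 4) F)) ∨
    (∃ W : Submodule F (Fin 4 → F), W ≠ ⊥ ∧ Cfsg.Geo.IsNondegenerateOn (Cfsg.hermForm 4 F q) W ∧ 2 * Module.finrank F W < 4 ∧ H = Cfsg.Geo.subspaceStabilizer W ⊓ (Cfsg.GU 4 F q ⊓ Cfsg.Geo.specialLinear (Fin 4) F)) ∨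
    (q ≠ 3 ∧ ∃ D : Fin 4 → Submodule F (Fin 4 → F), Cfsg.Geo.IsNondegenerateMDecomposition (Cfsg.hermForm 4 F q) 1 D ∧ H = Cfsg.Geo.decompositionStabilizer D ⊓ (Cfsg.GU 4 F q ⊓ Cfsg.Geo.specialLinear (Fin 4) F)) ∨
    (3 ≤ q ∧ ∃ D : Fin 2 → Submodule F (Fin 4 → F), Cfsg.Geo.IsNondegenerateMDecomposition (Cfsg.hermForm 4 F q) 2 D ∧ H = Cfsg.Geo.decompositionStabilizer D ⊓ (Cfsg.GU 4 F q ⊓ Cfsg.Geo.specialLinear (Fin 4) F)) ∨
    (4 ≤ q ∧ ∃ D : Fin 2 → Submodule F (Fin 4 → F), Cfsg.Geo.IsMDecomposition 2 D ∧ (∀ i, Cfsg.Geo.IsTotallySingularFor (Cfsg.hermForm 4 F q) (D i)) ∧ H = Cfsg.Geo.decompositionStabilizer D ⊓ (Cfsg.GU 4 F q ⊓ Cfsg.Geo.specialLinear (Fin 4) F)) ∨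
    (∃ (F₀ : Subfield F) (r : ℕ) (P : Matrix.GeneralLinearGroup (Fin 4) F), r.Prime ∧ Odd r ∧ Fintype.card F = Nat.card F₀ ^ r ∧ Cfsg.Geo.IsFormRationalStructure (Cfsg.hermForm 4 F q) F₀ 1 P ∧ H = Cfsg.Geo.subfieldSubgroup F₀ P ⊓ (Cfsg.GU 4 F q ⊓ Cfsg.Geo.specialLinear (Fin 4) F)) ∨
    (∃ (F₀ : Subfield F) (P : Matrix.GeneralLinearGroup (Fin 4) F) (ζ : F), Fintype.card F = Nat.card F₀ ^ 2 ∧ ζ ≠ 0 ∧ ζ + ζ ^ q = 0 ∧ Cfsg.Geo.IsFormRationalStructure (Cfsg.hermForm 4 F q) F₀ ζ P ∧ (∀ u : Fin 4 → F, (∀ i, u i ∈ F₀) → (Cfsg.hermForm 4 F q) (Matrix.mulVec (P : Matrix (Fin 4) (Fin 4) F) u) (Matrix.mulVec (P : Matrix (Fin 4) (Fin 4) F) u) = 0) ∧ H = Cfsg.Geo.subfieldSubgroup F₀ P ⊓ (Cfsg.GU 4 F q ⊓ Cfsg.Geo.specialLinear (Fin 4) F)) ∨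
    (Odd q ∧ ∃ (F₀ : Subfield F) (P : Matrix.GeneralLinearGroup (Fin 4) F), Fintype.card F = Nat.card F₀ ^ 2 ∧ Cfsg.Geo.IsFormRationalStructure (Cfsg.hermForm 4 F q) F₀ 1 P ∧ H = Cfsg.Geo.subfieldSubgroup F₀ P ⊓ (Cfsg.GU 4 F q ⊓ Cfsg.Geo.specialLinear (Fin 4) F)) ∨
    (∃ (p : ℕ) (R : Subgroup (Matrix.GeneralLinearGroup (Fin 4) F)), p.Prime ∧ q = p ∧ p % 4 = 3 ∧ Cfsg.Geo.IsSymplecticTypeGroup 2 R ∧ Cfsg.Geo.ActsAbsolutelyIrreducibly (Cfsg.Geo.matrixSet R) ∧ R ≤ Cfsg.Geo.similarityGroup (Cfsg.hermForm 4 F q) ∧ Nat.card R = 64 ∧ Nat.card (Subgroup.center R) = 4 ∧ H = Cfsg.Geo.subgroupNormalizer R ⊓ (Cfsg.GU 4 F q ⊓ Cfsg.Geo.specialLinear (Fin 4) F)) ∨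
    Cfsg.Geo.InUnitaryResidualClass H := by
  have h32 : ¬ (4 = 3 ∧ q = 2) := by omega
  have hq2 : 2 ≤ q := Cfsg.Agent.LieClassical.HermBasic.two_le hF
  have hHG : ∀ g ∈ H, ∀ u v, hermForm 4 F q ((g : Matrix (Fin 4) (Fin 4) F) *ᵥ u)
      ((g : Matrix (Fin 4) (Fin 4) F) *ᵥ v) = hermForm 4 F q u v := fun g hg => (hH.1.le hg).1
  rcases unitary_maximal_cases hF (by norm_num) h32 hH
    (fun k t e P hk ht hkt => absurd hkt (four_eq_pow ht hk)) h with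
    h | h | ⟨t, k, D, htk, ht, hD, h⟩ | ⟨k, D, hk, hD, hs, h⟩ | h | ⟨F₀, P, hq', h⟩ |
    ⟨F₀, P, ζ, -, h⟩ | ⟨r, R, p, e, k, hR, -, -, -, -, hro, -, hk1, -, hn, -⟩ |
    ⟨R, p, k, hp, hqp, hp4, hR, habs, hRs, hz, hcR, hn, h⟩ | ⟨r, K, hr, hro, hrn, hK, hKa, h⟩ |
    ⟨n₁, n₂, e, P, f₁, f₂, hn, h2, hlt, hf₁, hf₂, hf, h⟩ |
    ⟨k, t, e, P, f₁, hkt, hk, ht, -⟩ | h
  · exact Or.inl h
  · exact Or.inr (Or.inl h)
  · -- nondegenerate decompositions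
    have hcases : (t = 2 ∧ k = 2) ∨ (t = 4 ∧ k = 1) := by
      have ht4 : t ∣ 4 := ⟨k, htk.symm⟩
      have hts : t ≤ 4 := Nat.le_of_dvd (by norm_num) ht4
      interval_cases t <;> omega
    have hmain : (∃ D : Fin 4 → Submodule F (Fin 4 → F),
        Geo.IsNondegenerateMDecomposition (hermForm 4 F q) 1 D ∧
        H = Geo.decompositionStabilizer D ⊓ SUg 4 F q) ∨
        (3 ≤ q ∧ ∃ D : Fin 2 → Submodule F (Fin 4 → F),
        Geo.IsNondegenerateMDecomposition (hermForm 4 F q) 2 D ∧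
        H = Geo.decompositionStabilizer D ⊓ SUg 4 F q) := by
      rcases hcases with ⟨rfl, rfl⟩ | ⟨rfl, rfl⟩
      · by_cases hq3 : 3 ≤ q
        · exact Or.inr ⟨hq3, D, hD, h⟩
        · obtain rfl : q = 2 := by omega
          obtain ⟨E, hE, hE'⟩ := Cfsg.Agent.H930.exists_refinement hF
            (Cfsg.Agent.H930.hermForm_isUnitaryFormPow hF 4) hD
          refine Or.inl ⟨E, hE, eq_inf_of_maximal hH (fun g hg => hE' g (hHG g hg) ?_)
            (SUg_not_le_decompositionStabilizer hF (by norm_num) h32 hE.decomp)⟩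
          rw [h] at hg
          exact hg.1
      · exact Or.inl ⟨D, hD, h⟩
    rcases hmain with ⟨D, hD, h⟩ | hmain
    · by_cases hq3 : q = 3
      · subst hq3
        obtain ⟨R, hR, habs, hRs, hcR, hz, hle⟩ := su_frame_three hF hD
        iterate 8 right
        left
        have hsolv : Group.IsSolvable R := by
          have : Fact (Nat.Prime 2) := ⟨Nat.prime_two⟩
          have := hR.pGroup.isNilpotent
          infer_instance
        have hns : ¬ R ≤ Geo.scalars (Fin 4) F :=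
          not_le_scalars_of_irreducible (by simp) habs.1
        exact ⟨3, R, by norm_num, rfl, by norm_num, hR, habs, hRs, hcR, hz,
          eq_inf_of_maximal hH (h.le.trans hle) (SUg_not_le_subgroupNormalizer hF (by norm_num) h32 hRs hsolv hns)⟩
      · iterate 2 right
        exact Or.inl ⟨hq3, D, hD, h⟩
    · iterate 3 right
      exact Or.inl hmain
  · obtain rfl : k = 2 := by omega
    by_cases hq4 : 4 ≤ q
    · iterate 4 right
      exact Or.inl ⟨hq4, D, hD, hs, h⟩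
    · obtain ⟨F₀, P, ζ, hc, hζ0, hζ, hf, hf', hle⟩ := su_planes_small hF (by omega) hD hs
      iterate 6 right
      left
      exact ⟨F₀, P, ζ, hc, hζ0, hζ, hf, hf', eq_inf_of_maximal hH (h.le.trans hle)
        (SUg_not_le_subfieldSubgroup hF (by norm_num) h32 (subfield_ne_top_of_card hF le_rfl hc) P)⟩
  · iterate 5 right
    exact Or.inl h
  · iterate 7 right
    exact Or.inl ⟨hq', F₀, P, h⟩
  · iterate 6 right
    exact Or.inl ⟨F₀, P, ζ, h⟩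
  · exfalso
    have h1 : r ∣ 4 := by
      have : r ∣ r ^ k := dvd_pow_self r (by omega)
      rwa [← hn] at this
    have h2 := (Nat.prime_dvd_prime_iff_eq hR.prime Nat.prime_two).1
      (hR.prime.dvd_of_dvd_pow (show r ∣ 2 ^ 2 by norm_num; exact h1))
    subst h2
    revert hro
    decide
  · iterate 8 right
    left
    have hk2 : k = 2 := by
      have : 2 ^ 2 = 2 ^ k := by rw [← hn]; norm_num
      exact (Nat.pow_right_injective le_rfl this).symm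
    subst hk2
    exact ⟨p, R, hp, hqp, hp4, hR, habs, hRs, by rw [hcR]; norm_num, hz, h⟩
  · exfalso
    have h2 := (Nat.prime_dvd_prime_iff_eq hr Nat.prime_two).1
      (hr.dvd_of_dvd_pow (show r ∣ 2 ^ 2 by norm_num; exact hrn))
    subst h2
    revert hro
    decide
  · exfalso
    have h1 : n₁ < 2 ∨ 2 < n₁ ∨ n₁ = 2 := by omega
    rcases h1 with h1 | h1 | h1
    · omega
    · have : 3 * 4 ≤ n₁ * n₂ := Nat.mul_le_mul (by omega) (by omega)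
      omega
    · subst h1
      omega
  · exact absurd hkt (four_eq_pow ht hk)
  · iterate 9 right
    exact h

end Cfsg.Agent.H908
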