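import Mathlib

/-!
# Lifting elements of order prime to the kernel through a central extension
-/

set_option autoImplicit false

namespace Cfsg.Agent.H908

variable {L T : Type*} [Group L] [Group T] {π : L →* T}

/-- An element of order prime to the kernel is determined by its image. -/
theorem lift_unique [Finite L] (hc : π.ker ≤ Subgroup.center L) {g h : L} (hgh : π g = π h)
    (hg : (Nat.card π.ker).Coprime (orderOf g)) (hh : (Nat.card π.ker).Coprime (orderOf h)) : g = h := by
  set z := g * h⁻¹ with hz
  have hzk : z ∈ π.ker := by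
    rw [MonoidHom.mem_ker, hz, map_mul, map_inv, hgh, mul_inv_cancel]
  have hzc : z ∈ Subgroup.center L := hc hzk
  have hgz : g = z * h := by rw [hz]; group
  have hcomm : Commute z h := (Subgroup.mem_center_iff.1 hzc h).symm
  set m := orderOf g * orderOf h with hm
  have h1 : z ^ m * h ^ m = 1 := by
    rw [← hcomm.mul_pow, ← hgz, hm, pow_mul, pow_orderOf_eq_one, one_pow]
  have h2 : h ^ m = 1 := by rw [hm, mul_comm, pow_mul, pow_orderOf_eq_one, one_pow]
  have h3 : z ^ m = 1 := by rwa [h2, mul_one] at h1
  have h4 : z ^ Nat.card π.ker = 1 := by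
    have := pow_card_eq_one' (x := (⟨z, hzk⟩ : π.ker))
    exact congrArg Subtype.val this
  have h5 : orderOf z ∣ Nat.gcd m (Nat.card π.ker) :=
    Nat.dvd_gcd (orderOf_dvd_of_pow_eq_one h3) (orderOf_dvd_of_pow_eq_one h4)
  have h6 : Nat.gcd m (Nat.card π.ker) = 1 := by
    rw [hm, Nat.gcd_comm]
    exact Nat.Coprime.mul_right hg hh
  rw [h6, Nat.dvd_one, orderOf_eq_one_iff] at h5
  rw [hgz, h5, one_mul]

/-- Elements of order prime to the kernel lift to elements of the same order. -/
theorem exists_lift [Finite L] (hs : Function.Surjective π) (t : T)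
    (ht : (Nat.card π.ker).Coprime (orderOf t)) : ∃ g : L, π g = t ∧ orderOf g = orderOf t := by
  obtain ⟨g, rfl⟩ := hs t
  set n := orderOf (π g) with hn
  set k := Nat.card π.ker with hk
  have hfin : IsOfFinOrder (π g) := MonoidHom.isOfFinOrder π (isOfFinOrder_of_finite g)
  have hn0 : n ≠ 0 := by
    rw [hn]; exact hfin.orderOf_pos.ne'
  have hk0 : k ≠ 0 := Nat.card_pos.ne'
  obtain ⟨m, hm1, hm2⟩ := Nat.chineseRemainder ht 0 1
  -- `m ≡ 0 mod k`, `m ≡ 1 mod n`
  refine ⟨g ^ m, ?_, ?_⟩
  · rw [map_pow]
    conv_rhs => rw [← pow_one (π g)]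
    rw [pow_eq_pow_iff_modEq, ← hn]
    exact hm2
  · have hπ : π (g ^ m) = π g := by
      rw [map_pow]
      conv_rhs => rw [← pow_one (π g)]
      rw [pow_eq_pow_iff_modEq, ← hn]
      exact hm2
    apply Nat.dvd_antisymm
    · apply orderOf_dvd_of_pow_eq_one
      have h1 : g ^ n ∈ π.ker := by
        rw [MonoidHom.mem_ker, map_pow, hn, pow_orderOf_eq_one]
      have h2 : (g ^ n) ^ k = 1 := by
        have := pow_card_eq_one' (x := (⟨g ^ n, h1⟩ : π.ker))
        exact congrArg Subtype.val this
      obtain ⟨c, hc⟩ := (Nat.modEq_zero_iff_dvd).1 hm1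
      rw [← pow_mul, mul_comm, pow_mul, hc, pow_mul, h2, one_pow]
    · have := orderOf_map_dvd π (g ^ m)
      rwa [hπ, ← hn] at this

/-- Conjugation relations lift. -/
theorem conj_lift [Finite L] (hc : π.ker ≤ Subgroup.center L) {y g h : L} (h1 : π (y * g * y⁻¹) = π h)
    (hg : (Nat.card π.ker).Coprime (orderOf g)) (hh : (Nat.card π.ker).Coprime (orderOf h)) :
    y * g * y⁻¹ = h := by
  refine lift_unique hc h1 ?_ hh
  have : orderOf (y * g * y⁻¹) = orderOf g := by
    have := orderOf_injective (MulAut.conj y).toMonoidHom (MulAut.conj y).injective g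
    simpa using this
  rwa [this]

/-- Elements of order prime to the kernel whose image commutes with `π y` commute with `y`. -/
theorem commute_lift [Finite L] (hc : π.ker ≤ Subgroup.center L) {y g : L} (h1 : π y * π g = π g * π y)
    (hg : (Nat.card π.ker).Coprime (orderOf g)) : y * g = g * y := by
  have h2 : y * g * y⁻¹ = g := by
    apply conj_lift hc _ hg hg
    rw [map_mul, map_mul, map_inv, h1, mul_assoc, mul_inv_cancel, mul_one]
  calc y * g = (y * g * y⁻¹) * y := by group
    _ = g * y := by rw [h2]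

end Cfsg.Agent.H908
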