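import Cfsg.Agent.H908.SpTenTrace
import Cfsg.Agent.H908.TenA7
import Cfsg.Agent.H912.Reidx

/-!
# `A₇` in `Sp₁₀(q)`, `q` a power of seven (helper908)

* `Cv.false` : the double cover of `A₇` has no faithful symplectic representation of dimension ten in characteristic
  prime to six;
* `sp10_a7`, `sp10_a7'` : `A₇` is not the socle of a core fixing an alternating form in dimension ten, characteristic seven.
-/

set_option autoImplicit false
set_option linter.unusedSectionVars false

namespace Cfsg.Agent.H908.SpTen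

open Cfsg Cfsg.Geo Module Equiv Equiv.Perm
open Matrix hiding mul_apply'
open Cfsg.Agent.H637.JW Cfsg.Agent.H637.SevenA7 Cfsg.Agent.H908.Ten Cfsg.Agent.H915.LD
open scoped commutatorElement

universe u v

variable {F : Type u} [Field F] {T : Type v} [Group T]

/-- a conjugator for three-cycles -/
def k1 : A7 := mk (swap 2 3 * swap 5 6)
/-- a conjugator for products of two three-cycles -/
def k2 : A7 := mk (swap 2 6 * swap 4 5)

/-- A double cover of `A₇` acting faithfully. -/
structure Cv (h : AT F T) where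
  π : T →* A7
  z : T
  surj : Function.Surjective π
  ker : ∀ k, π k = 1 → k = 1 ∨ k = z
  z_ne : z ≠ 1
  zz : z * z = 1
  neg : ∀ v, h.σ z v = -v
  inv : ∀ u, π u ≠ 1 → π (u * u) = 1 → u * u = z

namespace Cv

variable {h : AT F T} (D : Cv h)

theorem cen (x : T) : D.z * x = x * D.z := by
  apply h.σ_injective
  refine LinearMap.ext fun v => ?_
  rw [mul_apply', mul_apply', D.neg, D.neg, map_neg]

theorem z_pow_three : D.z ^ 3 = D.z := by rw [pow_succ, pow_two, D.zz, one_mul]

theorem uniq {x y : T} (hx : x ^ 3 = 1) (hy : y ^ 3 = 1) (he : D.π x = D.π y) : x = y := by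
  have h1 : D.π (x * y⁻¹) = 1 := by rw [map_mul, map_inv, he, mul_inv_cancel]
  rcases D.ker _ h1 with h2 | h2
  · exact mul_inv_eq_one.1 h2
  · exfalso
    have h3 : x = D.z * y := by rw [← h2, inv_mul_cancel_right]
    rw [h3, (show Commute D.z y from D.cen y).mul_pow, hy, mul_one, D.z_pow_three] at hx
    exact D.z_ne hx

theorem lift (x : A7) (hx : x ^ 3 = 1) : ∃ y, y ^ 3 = 1 ∧ D.π y = x := by
  obtain ⟨y, rfl⟩ := D.surj x
  have h1 : (y ^ 3) * (y ^ 3) = 1 := by
    rcases D.ker (y ^ 3) (by rw [map_pow, hx]) with h2 | h2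
    · rw [h2, one_mul]
    · rw [h2, D.zz]
  refine ⟨y ^ 4, ?_, ?_⟩
  · calc (y ^ 4) ^ 3 = ((y ^ 3) * (y ^ 3)) * ((y ^ 3) * (y ^ 3)) := by rw [← pow_mul, ← pow_add, ← pow_add]
      _ = 1 := by rw [h1, one_mul]
  · rw [map_pow]
    calc D.π y ^ 4 = D.π y ^ 3 * D.π y := by rw [← pow_succ]
      _ = D.π y := by rw [hx, one_mul]

theorem conj_of {x y : T} (hx : x ^ 3 = 1) (hy : y ^ 3 = 1) {k : A7} (hk : k * D.π x * k⁻¹ = D.π y) :
    ∃ m, D.π m = k ∧ m * x * m⁻¹ = y := by
  obtain ⟨m, rfl⟩ := D.surj k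
  refine ⟨m, rfl, D.uniq ?_ hy ?_⟩
  · rw [conj_pow, hx, mul_one, mul_inv_cancel]
  · rw [map_mul, map_mul, map_inv, hk]

/-- two elements of order three generating a group of even order -/
theorem d_le_five {x : T} (hx : x ^ 3 = 1) {k : A7} (h1 : D.π x * (k * D.π x * k⁻¹) ≠ 1)
    (h2 : (D.π x * (k * D.π x * k⁻¹)) * (D.π x * (k * D.π x * k⁻¹)) = 1) (hF : (2 : F) ≠ 0) : h.d x ≤ 5 := by
  have h2' : (2 : AlgebraicClosure F) ≠ 0 := by
    intro h0
    apply hF
    apply (algebraMap F (AlgebraicClosure F)).injective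
    rw [map_zero, ← h0]
    exact map_ofNat _ 2
  obtain ⟨m, rfl⟩ := D.surj k
  have h3 : (x * (m * x * m⁻¹)) * (x * (m * x * m⁻¹)) = D.z := D.inv _ (by
    rw [map_mul, map_mul, map_mul, map_inv]
    exact h1) (by
    rw [map_mul, map_mul, map_mul, map_mul, map_inv]
    exact h2)
  have h4 : h.d (m * x * m⁻¹) = h.d x := (h.d_conj (isConj_iff.2 ⟨m, rfl⟩)).symm
  have h5 := Submodule.finrank_sup_add_finrank_inf_eq (Fix h.σ x) (Fix h.σ (m * x * m⁻¹))
  have h6 : Fix h.σ x ⊓ Fix h.σ (m * x * m⁻¹) = ⊥ := by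
    rw [eq_bot_iff]
    rintro v ⟨hv1, hv2⟩
    rw [SetLike.mem_coe, mem_Fix] at hv1 hv2
    rw [Submodule.mem_bot]
    have h7 : h.σ D.z v = v := by
      have h8 : h.σ (x * (m * x * m⁻¹)) v = v := by rw [mul_apply' x, hv2, hv1]
      rw [← h3, mul_apply' (x * (m * x * m⁻¹)), h8, h8]
    rw [D.neg] at h7
    have h8 : (2 : AlgebraicClosure F) • v = 0 := by
      rw [two_smul]
      nth_rewrite 1 [← h7]
      exact neg_add_cancel v
    exact (smul_eq_zero.1 h8).resolve_left h2'
  rw [h6, finrank_bot, add_zero] at h5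
  have h7 := Submodule.finrank_le (Fix h.σ x ⊔ Fix h.σ (m * x * m⁻¹))
  rw [Module.finrank_fin_fun] at h7
  change _ = h.d x + h.d (m * x * m⁻¹) at h5
  omega

/-- spaces invariant under a quaternion group are even-dimensional -/
theorem even_quat (h2 : (2 : AlgebraicClosure F) ≠ 0) {S X : T} (hS : S * S = D.z)
    (hSX : S * X = D.z * (X * S)) {U : Submodule (AlgebraicClosure F) (Fin 10 → AlgebraicClosure F)}
    (hUS : ∀ v ∈ U, h.σ S v ∈ U) (hUX : ∀ v ∈ U, h.σ X v ∈ U) : Even (finrank (AlgebraicClosure F) U) := by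
  obtain ⟨i, hi⟩ : ∃ i : AlgebraicClosure F, i * i = -1 := by
    obtain ⟨i, hi⟩ := IsAlgClosed.exists_pow_nat_eq (-1 : AlgebraicClosure F) (n := 2) (by norm_num)
    exact ⟨i, by rw [← pow_two, hi]⟩
  have hSS : ∀ v, h.σ S (h.σ S v) = -v := fun v => by rw [← mul_apply', hS, D.neg]
  have hSXv : ∀ v, h.σ S (h.σ X v) = -h.σ X (h.σ S v) := fun v => by
    rw [← mul_apply', hSX, mul_apply', D.neg, mul_apply']
  have h3 := two_inf h2 (A := (-i) • h.σ S) (U := U) (fun v _ => by
    rw [LinearMap.smul_apply, LinearMap.smul_apply, map_smul, hSS, smul_smul, smul_neg, ← neg_smul, neg_mul_neg, hi,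
      neg_neg, one_smul]) (fun v hv => by
    rw [LinearMap.smul_apply]
    exact U.smul_mem _ (hUS v hv))
  have h4 : ∀ j : AlgebraicClosure F, finrank (AlgebraicClosure F) (U ⊓ ((-i) • h.σ S).eigenspace j : Submodule _ _) ≤
      finrank (AlgebraicClosure F) (U ⊓ ((-i) • h.σ S).eigenspace (-j) : Submodule _ _) := by
    intro j
    refine finrank_le_of_map (σ := h.σ) X fun v hv => ?_
    rw [Submodule.mem_inf, Module.End.mem_eigenspace_iff, LinearMap.smul_apply] at hv ⊢
    refine ⟨hUX v hv.1, ?_⟩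
    rw [hSXv, smul_neg, ← map_smul, hv.2, map_smul, neg_smul]
  have h5 := h4 1
  have h6 := h4 (-1)
  rw [neg_neg] at h6
  exact ⟨_, by rw [← h3, le_antisymm h5 h6]⟩

include D in
/-- **The double cover of `A₇` has no faithful symplectic representation of dimension ten.** -/
theorem false (h2F : (2 : F) ≠ 0) (h3F : (3 : F) ≠ 0) : False := by
  have hc : ∀ n : ℕ, (n : F) ≠ 0 → (n : AlgebraicClosure F) ≠ 0 := by
    intro n hn h0
    apply hn
    apply (algebraMap F (AlgebraicClosure F)).injective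
    rw [map_natCast, h0, map_zero]
  have h2 : (2 : AlgebraicClosure F) ≠ 0 := by exact_mod_cast hc 2 (by exact_mod_cast h2F)
  have h3 : (3 : AlgebraicClosure F) ≠ 0 := by exact_mod_cast hc 3 (by exact_mod_cast h3F)
  have h3' : ((3 : ℕ) : AlgebraicClosure F) ≠ 0 := by exact_mod_cast h3
  obtain ⟨ζ, hζ⟩ := exists_root (K := AlgebraicClosure F) (N := 3) h3'
  -- lifts
  obtain ⟨A, hA, hA'⟩ := D.lift a a_pow
  obtain ⟨B, hB, hB'⟩ := D.lift b b_pow
  obtain ⟨C, hC, hC'⟩ := D.lift c c_pow
  obtain ⟨S, hS⟩ := D.surj s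
  obtain ⟨X, hX⟩ := D.surj t
  -- the quaternion group
  have hSS : S * S = D.z := D.inv S (by rw [hS]; decide +kernel) (by rw [map_mul, hS, s_sq])
  have hXX : X * X = D.z := D.inv X (by rw [hX]; decide +kernel) (by rw [map_mul, hX, t_sq])
  have hSX2 : (S * X) * (S * X) = D.z := D.inv (S * X) (by rw [map_mul, hS, hX]; decide +kernel)
    (by rw [map_mul, map_mul, hS, hX]; decide +kernel)
  have hSX : S * X = D.z * (X * S) := by
    have e1 : S * (S * X * S * X) * X = S * D.z * X := by rw [← hSX2]; group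
    have e2 : S * (S * X * S * X) * X = (S * S) * (X * S) * (X * X) := by group
    rw [e2, hSS, hXX, ← D.cen (D.z * (X * S)), ← mul_assoc, D.zz, one_mul, ← D.cen, mul_assoc] at e1
    rw [e1, ← mul_assoc, D.zz, one_mul]
  -- `C` commutes with the quaternion group
  have comm : ∀ {x y : T}, y ^ 3 = 1 → D.π x * D.π y = D.π y * D.π x → x * y = y * x := by
    intro x y hy hxy
    have h4 : x * y * x⁻¹ = y := D.uniq (by rw [conj_pow, hy, mul_one, mul_inv_cancel]) hy (by
      rw [map_mul, map_mul, map_inv, hxy, mul_inv_cancel_right])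
    calc x * y = (x * y * x⁻¹) * x := by group
      _ = y * x := by rw [h4]
  have hSC : S * C = C * S := comm hC (by rw [hS, hC', c_s'])
  have hXC : X * C = C * X := comm hC (by rw [hX, hC', c_t'])
  have inv : ∀ (x y : T) (i : AlgebraicClosure F), x * y = y * x → ∀ v ∈ (h.σ y).eigenspace i, h.σ x v ∈ (h.σ y).eigenspace i := by
    intro x y i hxy v hv
    rw [Module.End.mem_eigenspace_iff] at hv ⊢
    rw [← mul_apply', ← hxy, mul_apply', hv, map_smul]
  have ev : ∀ i : AlgebraicClosure F, Even (finrank (AlgebraicClosure F) ((h.σ C).eigenspace i)) := fun i =>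
    D.even_quat h2 hSS hSX (inv S C i hSC) (inv X C i hXC)
  obtain ⟨d1, hd1⟩ : Even (h.d C) := ev 1
  obtain ⟨d2, hd2⟩ := ev ζ
  obtain ⟨d3, -⟩ := h.dim3 h3 hζ hC
  -- conjugacy
  have hAC : h.d A = h.d C := by
    obtain ⟨k, hk⟩ := isConj_iff.1 cj_c
    obtain ⟨m, -, hm⟩ := D.conj_of hA hC (k := k) (by rw [hA', hC', hk])
    exact h.d_conj (isConj_iff.2 ⟨m, hm⟩)
  -- the group of order nine
  have hAB : A * B = B * A := comm hB (by rw [hA', hB', ab_comm])
  have hAB3 : (A * B) ^ 3 = 1 := by rw [(show Commute A B from hAB).mul_pow, hA, hB, one_mul]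
  obtain ⟨G, hG⟩ := D.surj g
  have hGA : G⁻¹ * A * G = B := D.uniq (by
    have := conj_pow (i := 3) (a := G⁻¹) (b := A)
    rw [inv_inv] at this
    rw [this, hA, mul_one, inv_mul_cancel]) hB (by rw [map_mul, map_mul, map_inv, hG, hA', hB', g_a])
  have hGB : G⁻¹ * B * G = A * A := D.uniq (by
    have := conj_pow (i := 3) (a := G⁻¹) (b := B)
    rw [inv_inv] at this
    rw [this, hB, mul_one, inv_mul_cancel]) (by rw [(show Commute A A from rfl).mul_pow, hA, one_mul]) (by
    rw [map_mul, map_mul, map_inv, map_mul, hG, hA', hB', g_b])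
  obtain ⟨x, y, E1, E2, E3⟩ := h.dimE h3 hA hB hAB hGA hGB
  have L1 := D.d_le_five hA (k := k1) (by rw [hA']; decide +kernel) (by rw [hA']; decide +kernel) h2F
  have L2 := D.d_le_five hAB3 (k := k2) (by rw [map_mul, hA', hB']; decide +kernel)
    (by rw [map_mul, hA', hB']; decide +kernel) h2F
  omega

end Cv

/-! ### The main theorem -/

/-- all involutions of `A₇` are conjugate -/
theorem conj_s {x : A7} (hx : x * x = 1) (h1 : x ≠ 1) : IsConj s x := by
  have key : ∀ y : A7, y * y ≠ 1 → IsConj y x → False := by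
    intro y hy hc
    obtain ⟨k, rfl⟩ := isConj_iff.1 hc
    apply hy
    have h2 : k⁻¹ * ((k * y * k⁻¹) * (k * y * k⁻¹)) * k = y * y := by group
    rw [← h2, hx, mul_one, inv_mul_cancel]
  rcases classes x with h | h | h | h | h | h | h | h
  · exact absurd h h1
  · exact (key _ (by decide +kernel) h).elim
  · exact (key _ (by decide +kernel) h).elim
  · exfalso
    have h2 : orderOf (x : Perm (Fin 7)) = 7 := by rw [← lcm_cycleType, h]; rfl
    have h3 : (x : Perm (Fin 7)) ^ 2 = 1 := by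
      rw [pow_two]
      exact congrArg Subtype.val hx
    have h4 := orderOf_dvd_of_pow_eq_one h3
    rw [h2] at h4
    exact absurd h4 (by decide)
  · exact h
  · exact (key _ (by decide +kernel) h).elim
  · exact (key _ (by decide +kernel) h).elim
  · exact (key _ (by decide +kernel) h).elim

/-- the core itself -/
def ofCore {P : Subgroup (GL (Fin 10) F)} (hc : Core P) {f : (Fin 10 → F) → (Fin 10 → F) → F} (hf : IsSymplecticForm f)
    (hfix : FixesForm (matrixSet P) f) : AT F P where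
  ρ := P.subtype
  f := f
  sym := hf
  fix := by rw [Subgroup.range_subtype]; exact hfix
  irr := by rw [Subgroup.range_subtype]; exact hc.absIrred
  inj := Subtype.val_injective

/-- **`A₇` is not the socle of a core in `Sp₁₀(7^k)`.** -/
theorem sp10_a7 [Finite F] [CharP F 7] {P : Subgroup (GL (Fin 10) F)} (hc : Core P) (hfa : FixA P)
    (e : Soc P ≃* alternatingGroup (Fin 7)) : False := by
  classical
  obtain ⟨f₀, hf, hfix⟩ := hfa
  let AA := ofCore hc hf hfix
  have hn : ∀ n : ℕ, ¬ 7 ∣ n → (n : F) ≠ 0 := by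
    intro n hn h0
    exact hn ((CharP.cast_eq_zero_iff F 7 n).1 h0)
  have h2 : (2 : F) ≠ 0 := by exact_mod_cast hn 2 (by norm_num)
  have h3 : (3 : F) ≠ 0 := by exact_mod_cast hn 3 (by norm_num)
  have hfin : Finite P := inferInstance
  set f : P →* A7 := e.toMonoidHom.comp (toSoc P) with hfd
  have hsurj : Function.Surjective f := e.surjective.comp (toSoc_surjective P)
  have hkc : f.ker ≤ Subgroup.center P := by
    rw [hfd, ker_comp]; exact scalars_le_center
  have hcen : ∀ {k : P}, f k = 1 → ∀ x, x * k = k * x := fun {k} hk x =>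
    Subgroup.mem_center_iff.1 (hkc ((MonoidHom.mem_ker).2 hk)) x
  have hsc : ∀ k : P, f k = 1 → (k : GL (Fin 10) F) = 1 ∨
      ((k : GL (Fin 10) F) : Matrix (Fin 10) (Fin 10) F) = -1 := by
    intro k hk
    have h1 : k ∈ f.ker := hk
    rw [hfd, ker_comp, Subgroup.mem_subgroupOf, mem_scalars_iff] at h1
    obtain ⟨c, hc'⟩ := h1
    have h2 : (c : F) * c = 1 := by
      obtain ⟨⟨y, hy⟩, -⟩ := hf.nondegenerate (Pi.single 0 1) (by
        intro h0
        have := congrFun h0 0
        simp at this)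
      have h4 := hfix _ ⟨k, k.2, rfl⟩ (Pi.single 0 1) y
      have h5 : ((k : GL (Fin 10) F) : Matrix (Fin 10) (Fin 10) F) = (c : F) • (1 : Matrix (Fin 10) (Fin 10) F) := hc'
      have h6 : ∀ v : Fin 10 → F, ((k : GL (Fin 10) F) : Matrix (Fin 10) (Fin 10) F) *ᵥ v = (c : F) • v := fun v => by
        rw [h5, Matrix.smul_mulVec, Matrix.one_mulVec]
      rw [h6, h6, hf.bilinear.smul_left, hf.bilinear.smul_right] at h4
      have h7 : ((c : F) * c - 1) * f₀ (Pi.single 0 1) y = 0 := by linear_combination h4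
      rcases mul_eq_zero.1 h7 with h8 | h8
      · exact sub_eq_zero.1 h8
      · first
          | exact absurd h8 hy
          | (rw [hf.skew] at h8; exact absurd (neg_eq_zero.1 h8) hy)
    rcases mul_self_eq_one_iff.1 h2 with h3 | h3
    · left
      apply Units.ext
      rw [hc', h3, one_smul]; rfl
    · right
      rw [hc', h3, neg_one_smul]
  by_cases hinj : Function.Injective f
  · let E : P ≃* A7 := MulEquiv.ofBijective f ⟨hinj, hsurj⟩
    exact (AA.congr E.symm).false7
  rw [injective_iff_map_eq_one] at hinj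
  push Not at hinj
  obtain ⟨z, hz, hz1⟩ := hinj
  have hzm : ((z : GL (Fin 10) F) : Matrix (Fin 10) (Fin 10) F) = -1 := by
    rcases hsc z hz with h1 | h1
    · exact absurd (Subtype.ext h1) hz1
    · exact h1
  have hker : ∀ k : P, f k = 1 → k = 1 ∨ k = z := by
    intro k hk
    rcases hsc k hk with h1 | h1
    · exact Or.inl (Subtype.ext h1)
    · exact Or.inr (Subtype.ext (Units.ext (by rw [h1, hzm])))
  have hzz : z * z = 1 := by
    apply Subtype.ext
    apply Units.ext
    change ((z : GL (Fin 10) F) : Matrix (Fin 10) (Fin 10) F) * ((z : GL (Fin 10) F) : Matrix (Fin 10) (Fin 10) F) = 1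
    rw [hzm, neg_mul_neg, one_mul]
  have hksq : ∀ k : P, f k = 1 → k * k = 1 := by
    intro k hk
    rcases hker k hk with rfl | rfl
    · exact one_mul 1
    · exact hzz
  have hp2 : IsPGroup 2 f.ker := fun k => ⟨1, Subtype.ext (by
    rw [pow_one, pow_two]
    exact hksq k.1 k.2)⟩
  -- the dihedral group
  obtain ⟨D, hD, hidx, hrD, hsD, hgen⟩ := H908.exists_dih (T := A7) Alt.card_A7 (by decide) (a := r) (b := s)
    (by decide +kernel) (by decide +kernel) s_not_mem (by decide +kernel) (by decide +kernel)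
  obtain ⟨R, hR⟩ := hsurj r
  obtain ⟨S, hS⟩ := hsurj s
  have hcomm := H908.ker_of_dihedral (Y := P) hc.commutator_top (f := f) hsurj hkc hp2 hD hidx (a := R) (b := S)
    (by rw [hR]; exact hrD) (by rw [hS]; exact hsD) (by rw [hR, hS]; exact hgen) (by rw [hR]; decide +kernel)
    (by rw [hR]; decide +kernel) (by rw [hR, hS]; decide +kernel) hz
  have hzc : z = ⁅S, R ^ 2⁆ := hcomm.resolve_left hz1
  set X : P := R ^ 2 with hXd
  have hfX : f X = t := by rw [hXd, map_pow, hR, pow_two, r_sq]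
  have hSX : S * X = z * (X * S) := by rw [hzc, commutatorElement_def]; group
  have hzcen := hcen hz
  -- squares
  have hsq : ∀ u w : P, f (u * u) = 1 → IsConj (f u) (f w) → w * w = u * u := by
    intro u w hu hc
    obtain ⟨g, hg⟩ := isConj_iff.1 hc
    obtain ⟨g, rfl⟩ := hsurj g
    have hk : f (w * (g * u * g⁻¹)⁻¹) = 1 := by
      rw [map_mul, map_inv, map_mul, map_mul, map_inv, hg, mul_inv_cancel]
    obtain ⟨k, hkd⟩ : ∃ k, k = w * (g * u * g⁻¹)⁻¹ := ⟨_, rfl⟩
    rw [← hkd] at hk
    have hw : w = k * (g * u * g⁻¹) := by rw [hkd]; group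
    have hk2 := hksq k hk
    have hkx := hcen hk
    calc w * w = k * ((g * u * g⁻¹) * k) * (g * u * g⁻¹) := by rw [hw]; group
      _ = k * (k * (g * u * g⁻¹)) * (g * u * g⁻¹) := by rw [hkx]
      _ = (k * k) * (g * (u * u) * g⁻¹) := by group
      _ = u * u := by rw [hk2, one_mul, hcen hu, mul_inv_cancel_right]
  have hSS : f (S * S) = 1 := by rw [map_mul, hS, s_sq]
  have h3' : X * X = S * S := hsq S X hSS (by rw [hS, hfX]; exact cj_t)
  have h4 : (S * X) * (S * X) = S * S := hsq S (S * X) hSS (by rw [hS, map_mul, hS, hfX]; exact cj_s_t)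
  have h5 : S * S = z := by
    have h6 : X * S = z * (S * X) := by
      rw [hSX, ← mul_assoc, hzz, one_mul]
    calc S * S = (S * X) * (S * X) := h4.symm
      _ = S * (X * S) * X := by group
      _ = S * (z * (S * X)) * X := by rw [h6]
      _ = z * ((S * S) * (X * X)) := by rw [← mul_assoc S z, hzcen S]; group
      _ = z * ((S * S) * (S * S)) := by rw [h3']
      _ = z := by rw [hksq _ hSS, mul_one]
  refine Cv.false (h := AA) ⟨f, z, hsurj, hker, hz1, hzz, ?_, ?_⟩ h2 h3
  · intro v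
    rw [AT.σ_apply]
    change (algebraMap F (AlgebraicClosure F)).mapMatrix ((z : GL (Fin 10) F) : Matrix (Fin 10) (Fin 10) F) *ᵥ v = -v
    rw [hzm, map_neg, map_one, Matrix.neg_mulVec, Matrix.one_mulVec]
  · intro u hu1 hu2
    rw [← h5]
    refine hsq S u hSS ?_
    rw [hS]
    exact conj_s (by rw [← map_mul]; exact hu2) hu1

/-- the same for an arbitrary index set of ten elements -/
theorem sp10_a7' {ι : Type} [Fintype ι] [DecidableEq ι] (hι : Fintype.card ι = 10) [Finite F] [CharP F 7]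
    {P : Subgroup (GL ι F)} (hc : Core P) (hfa : FixA P) (e : Soc P ≃* alternatingGroup (Fin 7)) : False := by
  let ε : ι ≃ Fin 10 := Fintype.equivFinOfCardEq hι
  exact sp10_a7 (H912.Rx.core_re ε hc) (H912.Rx.fixA_re_of ε hfa) ((H912.Rx.socEquiv ε).symm.trans e)

/-- the same, in the form of helper912's `a7_ne_seven` -/
theorem a7_seven {ι : Type} [Fintype ι] [DecidableEq ι] [Finite F] {P : Subgroup (GL ι F)} (hC : Core P) (hA : FixA P)
    (hn : Fintype.card ι = 10) (e : Soc P ≃* alternatingGroup (Fin 7)) (h7 : (7 : F) = 0) : False := by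
  obtain ⟨p, hp⟩ := CharP.exists F
  have h1 : p ∣ 7 := (CharP.cast_eq_zero_iff F p 7).1 (by exact_mod_cast h7)
  rcases (Nat.dvd_prime (by norm_num)).1 h1 with h2 | h2
  · exact CharP.char_ne_one F p h2
  · subst h2
    exact sp10_a7' hn hC hA e

end Cfsg.Agent.H908.SpTen
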