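import Cfsg.Prelude.Def_GeometricClasses
import Cfsg.Agent.LieClassical.SLGen

/-!
# `SL_n` is transitive on independent `k`-tuples, `k < n`; a maximal subgroup of `SL_n`, `n ≥ 3`,
contains the scalars

* `slMk` : a matrix of determinant one as a member of `GL`;
* `exists_sl_map` : for `k < n`, any two linearly independent `k`-tuples are related by `SL_n`;
* `perfect_specialLinear` : `⁅SL_n, SL_n⁆ = SL_n` in `GL_n`, `3 ≤ n`;
* `sup_scalars_ne` : `H` maximal in `SL_n`, `3 ≤ n`, implies `H ⊔ (Z ⊓ SL_n) ≠ SL_n`.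
-/

set_option autoImplicit false
set_option linter.style.haveILetI false

namespace Cfsg.Agent.H908

open Cfsg.Geo Matrix
open scoped commutatorElement

section general

variable {ι : Type} [Fintype ι] [DecidableEq ι] {F : Type*} [Field F]

/-- A matrix of determinant one as a member of `GL`. -/
noncomputable def slMk (A : Matrix ι ι F) (h : A.det = 1) : GL ι F :=
  Matrix.GeneralLinearGroup.mkOfDetNeZero A (by rw [h]; exact one_ne_zero)

@[simp] theorem slMk_coe (A : Matrix ι ι F) (h : A.det = 1) :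
    ((slMk A h : GL ι F) : Matrix ι ι F) = A := rfl

theorem mem_sl_iff (g : GL ι F) : g ∈ specialLinear ι F ↔ (g : Matrix ι ι F).det = 1 := by
  unfold specialLinear
  rw [MonoidHom.mem_ker]
  constructor
  · intro h
    have := congrArg Units.val h
    simpa using this
  · intro h
    apply Units.ext
    simpa using h

theorem slMk_mem (A : Matrix ι ι F) (h : A.det = 1) : slMk A h ∈ specialLinear ι F := by
  rw [mem_sl_iff]; exact h

theorem specialLinear_eq_range :
    specialLinear ι F = (Matrix.SpecialLinearGroup.toGL (n := ι) (R := F)).range := by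
  ext g
  rw [mem_sl_iff, MonoidHom.mem_range]
  constructor
  · intro h
    exact ⟨⟨g, h⟩, Units.ext rfl⟩
  · rintro ⟨x, rfl⟩
    exact x.2

theorem perfect_specialLinear (h3 : 3 ≤ Fintype.card ι) :
    ⁅specialLinear ι F, specialLinear ι F⁆ = specialLinear ι F := by
  rw [specialLinear_eq_range, MonoidHom.range_eq_map, ← Subgroup.map_commutator]
  congr 1
  exact Cfsg.Agent.LieClassical.SLGen.commutator_eq_top h3

theorem scalars_comm {z : GL ι F} (hz : z ∈ scalars ι F) (g : GL ι F) : z * g = g * z := by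
  obtain ⟨c, hc⟩ := (mem_scalars_iff z).1 hz
  apply Units.ext
  rw [Units.val_mul, Units.val_mul, hc]
  simp

theorem commutator_mul_central {G : Type*} [Group G] {x y x' y' : G} (c1 : ∀ g, y * g = g * y)
    (c2 : ∀ g, y' * g = g * y') : ⁅x * y, x' * y'⁆ = ⁅x, x'⁆ := by
  rw [commutatorElement_def, commutatorElement_def, _root_.mul_inv_rev, _root_.mul_inv_rev]
  calc x * y * (x' * y') * (y⁻¹ * x⁻¹) * (y'⁻¹ * x'⁻¹)
      = x * (y * (x' * y')) * (y⁻¹ * x⁻¹) * (y'⁻¹ * x'⁻¹) := by group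
    _ = x * ((x' * y') * y) * (y⁻¹ * x⁻¹) * (y'⁻¹ * x'⁻¹) := by rw [c1]
    _ = x * x' * (y' * x⁻¹) * (y'⁻¹ * x'⁻¹) := by group
    _ = x * x' * (x⁻¹ * y') * (y'⁻¹ * x'⁻¹) := by rw [c2]
    _ = x * x' * x⁻¹ * x'⁻¹ := by group

theorem le_of_le_sup_central {G : Type*} [Group G] {H Z S : Subgroup G}
    (hZ : ∀ z ∈ Z, ∀ g, z * g = g * z) (hS : ⁅S, S⁆ = S) (h : S ≤ H ⊔ Z) : S ≤ H := by
  haveI : Z.Normal := ⟨fun z hz g => by
    have := hZ z hz g
    rwa [← this, mul_assoc, mul_inv_cancel, mul_one]⟩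
  rw [← hS, Subgroup.commutator_le]
  intro a ha b hb
  have key : ∀ a ∈ S, ∃ x ∈ H, ∃ y ∈ Z, x * y = a := by
    intro a ha
    have h1 : a ∈ ((H ⊔ Z : Subgroup G) : Set G) := h ha
    rw [Subgroup.mul_normal] at h1
    obtain ⟨x, hx, y, hy, e⟩ := Set.mem_mul.1 h1
    exact ⟨x, hx, y, hy, e⟩
  obtain ⟨x, hx, y, hy, rfl⟩ := key a ha
  obtain ⟨x', hx', y', hy', rfl⟩ := key b hb
  rw [commutator_mul_central (hZ y hy) (hZ y' hy'), commutatorElement_def]
  exact H.mul_mem (H.mul_mem (H.mul_mem hx hx') (H.inv_mem hx)) (H.inv_mem hx')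

/-- If `S` is perfect, a subgroup `H` with `S ≤ H Z`, `Z` scalar, contains `S`. -/
theorem le_of_le_sup_scalars {H Z S : Subgroup (GL ι F)} (hZ : Z ≤ scalars ι F) (hS : ⁅S, S⁆ = S)
    (h : S ≤ H ⊔ Z) : S ≤ H :=
  le_of_le_sup_central (fun _ hz g => scalars_comm (hZ hz) g) hS h

/-- A maximal subgroup of `SL_n`, `n ≥ 3`, does not cover `PSL_n`. -/
theorem sup_scalars_ne {S H : Subgroup (GL ι F)} (hS : ⁅S, S⁆ = S) (hH : IsMaximalIn S H) :
    H ⊔ (scalars ι F ⊓ S) ≠ S := by
  intro h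
  have := le_of_le_sup_scalars (H := H) (Z := scalars ι F ⊓ S) inf_le_left hS h.ge
  exact absurd this (not_le_of_gt hH.1)

/-- If `H` is maximal in `S`, `H ≤ M` and `¬ S ≤ M` then `H = M ⊓ S`. -/
theorem eq_inf_of_maximal {G : Type*} [Group G] {S H M : Subgroup G} (hH : IsMaximalIn S H)
    (hM : H ≤ M) (hS : ¬ S ≤ M) : H = M ⊓ S := by
  rcases hH.2 (M ⊓ S) (le_inf hM hH.1.le) inf_le_right with h | h
  · exact h.symm
  · exact absurd (h.ge.trans inf_le_left) hS

end general

section trans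

variable {F : Type*} [Field F] {n : ℕ}

theorem sumExtend_inl {K V ι : Type*} [Field K] [AddCommGroup V] [Module K V] {v : ι → V}
    (hv : LinearIndependent K v) (i : ι) : Module.Basis.sumExtend hv (Sum.inl i) = v i := by
  simp only [Module.Basis.sumExtend, Module.Basis.coe_reindex, Function.comp_apply,
    Module.Basis.extend_apply_self]
  erw [Equiv.Set.sumDiffSubset_apply_inl]
  · rfl
  · exact hv.linearIndepOn_id.subset_extend _

/-- `SL_n` is transitive on linearly independent `k`-tuples for `k < n`. -/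
theorem exists_sl_map {k : ℕ} (hk : k < n) (v w : Fin k → (Fin n → F))
    (hv : LinearIndependent F v) (hw : LinearIndependent F w) :
    ∃ g ∈ specialLinear (Fin n) F, ∀ i, (g : Matrix (Fin n) (Fin n) F) *ᵥ v i = w i := by
  classical
  let b := Module.Basis.sumExtend hv
  let b' := Module.Basis.sumExtend hw
  haveI f1 : Finite (Fin k ⊕ Module.Basis.sumExtendIndex hv) := Module.Finite.finite_basis b
  haveI f2 : Finite (Fin k ⊕ Module.Basis.sumExtendIndex hw) := Module.Finite.finite_basis b'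
  haveI g1 : Finite (Module.Basis.sumExtendIndex hv) :=
    Finite.of_injective _ (Sum.inr_injective (α := Fin k))
  haveI g2 : Finite (Module.Basis.sumExtendIndex hw) :=
    Finite.of_injective _ (Sum.inr_injective (α := Fin k))
  haveI := Fintype.ofFinite (Module.Basis.sumExtendIndex hv)
  haveI := Fintype.ofFinite (Module.Basis.sumExtendIndex hw)
  have c1 : k + Fintype.card (Module.Basis.sumExtendIndex hv) = n := by
    have := Module.finrank_eq_card_basis b
    rw [Fintype.card_sum, Fintype.card_fin, Module.finrank_fin_fun] at this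
    exact this.symm
  have c2 : k + Fintype.card (Module.Basis.sumExtendIndex hw) = n := by
    have := Module.finrank_eq_card_basis b'
    rw [Fintype.card_sum, Fintype.card_fin, Module.finrank_fin_fun] at this
    exact this.symm
  have c3 : Fintype.card (Module.Basis.sumExtendIndex hv) =
      Fintype.card (Module.Basis.sumExtendIndex hw) := by
    omega
  have c4 : 0 < Fintype.card (Module.Basis.sumExtendIndex hv) := by omega
  obtain ⟨j0⟩ := Fintype.card_pos_iff.1 c4
  let e := Fintype.equivOfCardEq c3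
  let g0 : (Fin n → F) ≃ₗ[F] (Fin n → F) := b.equiv b' (Equiv.sumCongr (Equiv.refl (Fin k)) e)
  have hb : ∀ i, b (Sum.inl i) = v i := fun i => sumExtend_inl hv i
  have hb' : ∀ i, b' (Sum.inl i) = w i := fun i => sumExtend_inl hw i
  have hg0 : ∀ i, g0 (v i) = w i := by
    intro i
    rw [← hb, ← hb']
    simp [g0]
  have hd0 : LinearMap.det (g0 : (Fin n → F) →ₗ[F] (Fin n → F)) ≠ 0 :=
    (LinearEquiv.isUnit_det' g0).ne_zero
  let c := (LinearMap.det (g0 : (Fin n → F) →ₗ[F] (Fin n → F)))⁻¹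
  let D : (Fin n → F) →ₗ[F] (Fin n → F) :=
    Matrix.toLin b b (Matrix.diagonal (Function.update 1 (Sum.inr j0) c))
  have hD : LinearMap.det D = c := by
    rw [LinearMap.det_toLin, Matrix.det_diagonal, Finset.prod_update_of_mem (Finset.mem_univ _)]
    simp
  have hDv : ∀ i, D (v i) = v i := by
    intro i
    rw [← hb, Matrix.toLin_self]
    simp [Matrix.diagonal_apply]
  let A : Matrix (Fin n) (Fin n) F :=
    LinearMap.toMatrix' ((g0 : (Fin n → F) →ₗ[F] (Fin n → F)) ∘ₗ D)
  have hA : A.det = 1 := by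
    rw [LinearMap.det_toMatrix', LinearMap.det_comp, hD]
    exact mul_inv_cancel₀ hd0
  refine ⟨slMk A hA, slMk_mem A hA, fun i => ?_⟩
  rw [slMk_coe, ← Matrix.toLin'_apply, Matrix.toLin'_toMatrix', LinearMap.comp_apply, hDv]
  exact hg0 i

theorem exists_sl_map1 (hn : 2 ≤ n) {v w : Fin n → F} (hv : v ≠ 0) (hw : w ≠ 0) :
    ∃ g ∈ specialLinear (Fin n) F, (g : Matrix (Fin n) (Fin n) F) *ᵥ v = w := by
  obtain ⟨g, hg, h⟩ := exists_sl_map (k := 1) (by omega) ![v] ![w]
    (linearIndependent_unique_iff.2 (by simpa using hv))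
    (linearIndependent_unique_iff.2 (by simpa using hw))
  exact ⟨g, hg, by simpa using h 0⟩

theorem exists_sl_map2 (hn : 3 ≤ n) {v₀ v₁ w₀ w₁ : Fin n → F}
    (hv : LinearIndependent F ![v₀, v₁]) (hw : LinearIndependent F ![w₀, w₁]) :
    ∃ g ∈ specialLinear (Fin n) F, (g : Matrix (Fin n) (Fin n) F) *ᵥ v₀ = w₀ ∧
      (g : Matrix (Fin n) (Fin n) F) *ᵥ v₁ = w₁ := by
  obtain ⟨g, hg, h⟩ := exists_sl_map (k := 2) (by omega) _ _ hv hw
  exact ⟨g, hg, by simpa using h 0, by simpa using h 1⟩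

theorem exists_sl_map3 (hn : 4 ≤ n) {v₀ v₁ v₂ w₀ w₁ w₂ : Fin n → F}
    (hv : LinearIndependent F ![v₀, v₁, v₂]) (hw : LinearIndependent F ![w₀, w₁, w₂]) :
    ∃ g ∈ specialLinear (Fin n) F, (g : Matrix (Fin n) (Fin n) F) *ᵥ v₀ = w₀ ∧
      (g : Matrix (Fin n) (Fin n) F) *ᵥ v₁ = w₁ ∧ (g : Matrix (Fin n) (Fin n) F) *ᵥ v₂ = w₂ := by
  obtain ⟨g, hg, h⟩ := exists_sl_map (k := 3) (by omega) _ _ hv hw
  exact ⟨g, hg, by simpa using h 0, by simpa using h 1, by simpa using h 2⟩

end trans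

end Cfsg.Agent.H908
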