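import Cfsg.Agent.H908.Frob8
import Cfsg.Agent.H912.BdOrth1
import Cfsg.Agent.H912.CrossList
import Cfsg.Agent.S0826
import Cfsg.Agent.S0256
import Cfsg.Agent.S0825

/-!
# `L₄(2)`, `Sp₆(2)` and `Ω₈⁺(2)` do not occur in dimension four, odd characteristic
-/

set_option autoImplicit false
set_option linter.unusedSectionVars false

namespace Cfsg.Agent.H908

open Cfsg Cfsg.Geo
open scoped MatrixGroups

theorem exists_f8_comm {G : Type*} [Group G] (f : alternatingGroup (Fin 8) →* G) (hf : Function.Injective f) :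
    Nonempty (F8 (commutator G)) := by
  have hc : commutator (alternatingGroup (Fin 8)) = ⊤ :=
    commutator_alternatingGroup_eq_top (by simp)
  have hmem : ∀ x, f x ∈ commutator G := by
    intro x
    have h1 : (⊤ : Subgroup (alternatingGroup (Fin 8))).map f ≤ commutator G := by
      rw [← hc, commutator_def, Subgroup.map_commutator, commutator_def]
      exact Subgroup.commutator_mono le_top le_top
    exact h1 (Subgroup.mem_map_of_mem f (Subgroup.mem_top x))
  exact ⟨f8A8.map (f.codRestrict (commutator G) hmem) (fun a b h => hf (congrArg Subtype.val h))⟩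

variable {F : Type*} [Field F] [Finite F] {P : Subgroup (GL (Fin 4) F)}

theorem not_four_l42 (h2 : (2 : F) ≠ 0) (hperf : ⁅P, P⁆ = P) {T : Type*} [Group T] (hT : H912.Bd.IsL 4 2 T)
    (e : (P ⧸ (scalars (Fin 4) F).subgroupOf P) ≃* T) : False := by
  obtain ⟨K, _, _, hK, ⟨e'⟩⟩ := hT
  obtain ⟨e''⟩ := S0256.result hK
  exact not_four_alt h2 hperf le_rfl ⟨e'.trans e''⟩ e

theorem not_four_s62 (h2 : (2 : F) ≠ 0) (hperf : ⁅P, P⁆ = P) {T : Type*} [Group T] (hT : H912.Bd.IsS 3 2 T)
    (e : (P ⧸ (scalars (Fin 4) F).subgroupOf P) ≃* T) : False := by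
  obtain ⟨K, _, _, hK, ⟨e'⟩⟩ := hT
  obtain ⟨f, hf⟩ := S0826.result 4 (by norm_num)
  let g : alternatingGroup (Fin 8) →* Matrix.symplecticGroup (Fin 3) (ZMod 2) := f.comp (alternatingGroup (Fin 8)).subtype
  have hg : Function.Injective g := hf.comp (Subgroup.subtype_injective _)
  let D : F8 (Cfsg.PSp 3 (ZMod 2)) := (f8A8.map g hg).mapc (QuotientGroup.mk' _) (by
    intro x hx y
    rw [QuotientGroup.mk'_apply, QuotientGroup.eq_one_iff] at hx
    exact Subgroup.mem_center_iff.1 hx y)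
  let σ : ZMod 2 ≃+* K := ZMod.ringEquivOfPrime K Nat.prime_two hK
  let e'' := LieClassical.FieldTransfer.pspCongr 3 σ
  exact (D.map e''.toMonoidHom e''.injective).not_four h2 hperf (e.trans e')

theorem not_four_o82 (h2 : (2 : F) ≠ 0) (hperf : ⁅P, P⁆ = P) {T : Type*} [Group T] (hT : H912.Bd.IsOP 4 2 T)
    (e : (P ⧸ (scalars (Fin 4) F).subgroupOf P) ≃* T) : False := by
  obtain ⟨K, _, _, hK, ⟨e'⟩⟩ := hT
  obtain ⟨θ⟩ := S0825.result hK
  obtain ⟨D⟩ := exists_f8_comm (θ.symm.toMonoidHom.comp (alternatingGroup (Fin 8)).subtype)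
    (θ.symm.injective.comp (Subgroup.subtype_injective _))
  obtain ⟨f, hf⟩ := H912.Bd.exists_plus (K := K) (m := 3) (n := 4) (by norm_num)
  exact ((D.mapc f (fun x hx y => Subgroup.mem_center_iff.1 (hf hx) y))).not_four h2 hperf (e.trans e')

end Cfsg.Agent.H908
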