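import Cfsg.Agent.H908.SLTrans

/-!
# Decompositions in coordinates

* `card_eq_of_decomp` : `t * m = n` for an `m`-decomposition of `F^n` with `t` members;
* `exists_frame` : a matrix `P` taking the coordinate blocks to the members;
* `block_of_mem` : a member of the stabiliser permutes the blocks.
-/

set_option autoImplicit false
set_option linter.style.haveILetI false

namespace Cfsg.Agent.H908

open Cfsg.Geo Matrix

variable {F : Type*} [Field F] {n t m : ℕ}

theorem exists_adapted {D : Fin t → Submodule F (Fin n → F)} (hD : IsMDecomposition m D) :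
    ∃ b : Module.Basis (Fin t × Fin m) F (Fin n → F), ∀ i j, b (i, j) ∈ D i := by
  classical
  have hint : DirectSum.IsInternal D :=
    DirectSum.isInternal_submodule_of_iSupIndep_of_iSup_eq_top hD.indep hD.iSup_eq_top
  let v : ∀ i, Module.Basis (Fin m) F (D i) := fun i =>
    Module.finBasisOfFinrankEq F (D i) (hD.finrank_eq i)
  refine ⟨(hint.collectedBasis v).reindex (Equiv.sigmaEquivProd (Fin t) (Fin m)), fun i j => ?_⟩
  rw [Module.Basis.reindex_apply]
  exact hint.collectedBasis_mem v ⟨i, j⟩

theorem card_eq_of_decomp {D : Fin t → Submodule F (Fin n → F)} (hD : IsMDecomposition m D) :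
    t * m = n := by
  obtain ⟨b, -⟩ := exists_adapted hD
  have := Module.finrank_eq_card_basis b
  rw [Module.finrank_fin_fun, Fintype.card_prod, Fintype.card_fin, Fintype.card_fin] at this
  exact this.symm

/-- Coordinates adapted to a decomposition. -/
theorem exists_frame {D : Fin t → Submodule F (Fin n → F)} (hD : IsMDecomposition m D)
    (e : Fin t × Fin m ≃ Fin n) : ∃ P : GL (Fin n) F, ∀ i (v : Fin n → F),
      (P : Matrix (Fin n) (Fin n) F) *ᵥ v ∈ D i ↔ ∀ k, (e.symm k).1 ≠ i → v k = 0 := by
  classical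
  obtain ⟨b, hb⟩ := exists_adapted hD
  let b' := b.reindex e
  let L : (Fin n → F) ≃ₗ[F] (Fin n → F) := (Pi.basisFun F (Fin n)).equiv b' (Equiv.refl _)
  have hL : ∀ v : Fin n → F, L v = ∑ k, v k • b' k := by
    intro v
    conv_lhs => rw [← (Pi.basisFun F (Fin n)).sum_repr v]
    rw [map_sum]
    apply Finset.sum_congr rfl
    intro k _
    rw [map_smul, Module.Basis.equiv_apply]
    simp
  let A : Matrix (Fin n) (Fin n) F := LinearMap.toMatrix' (L : (Fin n → F) →ₗ[F] (Fin n → F))
  have hA : A.det ≠ 0 := by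
    rw [LinearMap.det_toMatrix']
    exact (LinearEquiv.isUnit_det' L).ne_zero
  refine ⟨Matrix.GeneralLinearGroup.mkOfDetNeZero A hA, fun i v => ?_⟩
  have hv : ((Matrix.GeneralLinearGroup.mkOfDetNeZero A hA : GL (Fin n) F) :
      Matrix (Fin n) (Fin n) F) *ᵥ v = L v := by
    change A *ᵥ v = _
    rw [← Matrix.toLin'_apply, Matrix.toLin'_toMatrix']
    rfl
  rw [hv, hL]
  have hb' : ∀ k, b' k ∈ D (e.symm k).1 := by
    intro k
    have : b' k = b ((e.symm k).1, (e.symm k).2) := by
      simp [b', Module.Basis.reindex_apply]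
    rw [this]
    exact hb _ _
  have hsplit : ∀ v : Fin n → F, ∀ i, (∀ k, (e.symm k).1 ≠ i → v k = 0) →
      ∑ k, v k • b' k ∈ D i := by
    intro v i h
    apply Submodule.sum_mem
    intro k _
    by_cases hk : (e.symm k).1 = i
    · exact (D i).smul_mem _ (hk ▸ hb' k)
    · rw [h k hk, zero_smul]; exact (D i).zero_mem
  constructor
  · intro h k hk
    -- subtract the block `i`
    let u : Fin n → F := fun k => if (e.symm k).1 = i then v k else 0
    let w : Fin n → F := fun k => if (e.symm k).1 = i then 0 else v k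
    have huw : ∑ k, v k • b' k = ∑ k, u k • b' k + ∑ k, w k • b' k := by
      rw [← Finset.sum_add_distrib]
      apply Finset.sum_congr rfl
      intro k _
      simp only [u, w]
      split_ifs <;> simp
    have hu : ∑ k, u k • b' k ∈ D i := hsplit u i (fun k hk => by simp only [u]; rw [if_neg hk])
    have hw : ∑ k, w k • b' k ∈ D i := by
      have := (D i).sub_mem h hu
      rw [huw] at this
      simpa using this
    have hw' : ∑ k, w k • b' k ∈ ⨆ j, ⨆ (_ : j ≠ i), D j := by
      apply Submodule.sum_mem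
      intro k _
      by_cases hk : (e.symm k).1 = i
      · simp only [w]; rw [if_pos hk, zero_smul]; exact Submodule.zero_mem _
      · apply Submodule.smul_mem
        exact (le_iSup₂_of_le (f := fun j (_ : j ≠ i) => D j) (e.symm k).1 hk le_rfl) (hb' k)
    have h0 : ∑ k, w k • b' k = 0 := (Submodule.disjoint_def.1 (hD.indep i)) _ hw hw'
    have := Fintype.linearIndependent_iff.1 b'.linearIndependent w h0 k
    simp only [w] at this
    rwa [if_neg hk] at this
  · exact hsplit v i

/-- A member of the stabiliser of the decomposition permutes the blocks. -/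
theorem block_of_mem {D : Fin t → Submodule F (Fin n → F)}
    {e : Fin t × Fin m ≃ Fin n} {P : GL (Fin n) F} (hP : ∀ i (v : Fin n → F),
      (P : Matrix (Fin n) (Fin n) F) *ᵥ v ∈ D i ↔ ∀ k, (e.symm k).1 ≠ i → v k = 0)
    {g : GL (Fin n) F} {σ : Equiv.Perm (Fin t)}
    (hσ : ∀ i, (D i).map (Matrix.toLin' (g : Matrix (Fin n) (Fin n) F)) = D (σ i)) (k l : Fin n)
    (hkl : (e.symm k).1 ≠ σ (e.symm l).1) :
    ((P⁻¹ * g * P : GL (Fin n) F) : Matrix (Fin n) (Fin n) F) k l = 0 := by
  classical
  have h1 : (P : Matrix (Fin n) (Fin n) F) *ᵥ (Pi.single l 1) ∈ D (e.symm l).1 := by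
    rw [hP]
    intro k' hk'
    have : k' ≠ l := fun h => hk' (by rw [h])
    rw [Pi.single_eq_of_ne this]
  have h2 : (g : Matrix (Fin n) (Fin n) F) *ᵥ ((P : Matrix (Fin n) (Fin n) F) *ᵥ (Pi.single l 1)) ∈
      D (σ (e.symm l).1) := by
    rw [← hσ]
    exact ⟨_, h1, rfl⟩
  have h3 : (P : Matrix (Fin n) (Fin n) F) *ᵥ
      (((P⁻¹ * g * P : GL (Fin n) F) : Matrix (Fin n) (Fin n) F) *ᵥ (Pi.single l 1)) ∈
      D (σ (e.symm l).1) := by
    rw [Matrix.mulVec_mulVec, ← Units.val_mul]
    have : P * (P⁻¹ * g * P) = g * P := by simp [mul_assoc]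
    rw [this, Units.val_mul, ← Matrix.mulVec_mulVec]
    exact h2
  rw [hP] at h3
  have h4 := h3 k hkl
  rw [Matrix.mulVec_single_one] at h4
  exact h4

end Cfsg.Agent.H908
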