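import Cfsg.Agent.H908.CovFour

/-!
# Traces for groups with dihedral Sylow 2-subgroups of order eight
-/

set_option autoImplicit false
set_option linter.unusedSectionVars false

namespace Cfsg.Agent.H908

open Cfsg Cfsg.Geo
open scoped MatrixGroups commutatorElement

/-- Dihedral Sylow 2-subgroups of order eight, one class of involutions. -/
structure DihType (T : Type*) [Group T] where
  a : T
  b : T
  m : ℕ
  card : Nat.card T = 8 * m
  odd : Odd m
  ha2 : a ^ 2 ≠ 1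
  ha4 : a ^ 4 = 1
  hb : b ^ 2 = 1
  hb1 : b ≠ 1
  hab : b * a * b⁻¹ = a⁻¹
  inv : ∀ t : T, t ^ 2 = 1 → t ≠ 1 → IsConj (a ^ 2) t

namespace DihType

variable {T : Type*} [Group T] (D : DihType T)

theorem b_not_mem : D.b ∉ Subgroup.zpowers D.a := by
  intro hmem
  obtain ⟨k, hk⟩ := Subgroup.mem_zpowers_iff.1 hmem
  have h1 : D.b * D.a * D.b⁻¹ = D.a := by rw [← hk]; group
  rw [D.hab] at h1
  apply D.ha2
  rw [pow_two]
  nth_rewrite 1 [← h1]
  group

/-- The elements of even order which are not conjugate to `a`. -/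
def Mixed (t : T) : Prop := ∃ c u w : T, t = c * u ∧ Odd (orderOf c) ∧ u ^ 2 = 1 ∧ u ≠ 1 ∧ w ^ 2 = 1 ∧ w ≠ 1 ∧ w ≠ u ∧
  c * u = u * c ∧ c * w = w * c ∧ u * w = w * u

end DihType

theorem DihType.Mixed.inv {T : Type*} [Group T] {t : T} (h : DihType.Mixed t) : DihType.Mixed t⁻¹ := by
  obtain ⟨c, u, w, rfl, h1, h2, h3, h4, h5, h6, h7, h8, h9⟩ := h
  have hu : u⁻¹ = u := inv_eq_of_mul_eq_one_left (by rw [← pow_two, h2])
  refine ⟨c⁻¹, u, w, ?_, by rwa [orderOf_inv], h2, h3, h4, h5, h6, ?_, ?_, h9⟩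
  · rw [h7, mul_inv_rev, hu]
  · rw [inv_mul_eq_iff_eq_mul, ← mul_assoc, h7, mul_inv_cancel_right]
  · rw [inv_mul_eq_iff_eq_mul, ← mul_assoc, h8, mul_inv_cancel_right]

/-- An involution lies in a mixed set with `c = 1`. -/
theorem DihType.mixed_of_sq {T : Type*} [Group T] (D : DihType T) {t : T} (ht : t ^ 2 = 1) (ht1 : t ≠ 1) :
    DihType.Mixed t := by
  obtain ⟨g, hg⟩ := isConj_iff.1 (D.inv t ht ht1)
  have hba : D.b * D.a ^ 2 = D.a ^ 2 * D.b := by
    have : D.b * D.a ^ 2 * D.b⁻¹ = D.a ^ 2 := by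
      rw [← conj_pow, D.hab, inv_pow, inv_eq_iff_mul_eq_one, ← pow_add, D.ha4]
    calc D.b * D.a ^ 2 = (D.b * D.a ^ 2 * D.b⁻¹) * D.b := by group
      _ = _ := by rw [this]
  refine ⟨1, t, g * D.b * g⁻¹, by rw [one_mul], by rw [orderOf_one]; exact odd_one, ht, ht1, ?_, ?_, ?_, by group, by group, ?_⟩
  · rw [conj_pow, D.hb]; group
  · intro h
    apply D.hb1
    have : D.b = g⁻¹ * (g * D.b * g⁻¹) * g := by group
    rw [this, h]; group
  · intro h
    rw [← hg] at h
    have h1 : D.b = D.a ^ 2 := by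
      have : D.b = g⁻¹ * (g * D.b * g⁻¹) * g := by group
      rw [this, h]; group
    exact D.b_not_mem (by rw [h1]; exact Subgroup.pow_mem _ (Subgroup.mem_zpowers _) 2)
  · rw [← hg]
    calc g * D.a ^ 2 * g⁻¹ * (g * D.b * g⁻¹) = g * (D.a ^ 2 * D.b) * g⁻¹ := by group
      _ = g * (D.b * D.a ^ 2) * g⁻¹ := by rw [hba]
      _ = _ := by group

namespace Cov

variable {F : Type*} [Field F] {T : Type*} [Group T] {P : Subgroup (GL (Fin 4) F)} {φ : P →* T} (h : Cov P φ)

/-- The case of a non-trivial centre. -/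
structure Two (φ : P →* T) : Prop where
  pm : Pm φ
  sq : ∀ y : P, φ y ≠ 1 → φ y ^ 2 = 1 → mt P (y * y) = -1

/-- lifts of commuting involutions anticommute -/
theorem Two.anti (h : Cov P φ) (h2 : (2 : F) ≠ 0) (t : Two φ) {x y : P} (hx : φ x ^ 2 = 1) (hx1 : φ x ≠ 1)
    (hy : φ y ^ 2 = 1) (hy1 : φ y ≠ 1) (hxy : φ x * φ y = φ y * φ x) (hne : φ x ≠ φ y) :
    mt P x * mt P y = -(mt P y * mt P x) := by
  rcases h.comm_or_anti hxy (by rw [← pow_two, hx]) with h1 | h1
  · exfalso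
    have h3 : mt P (x * y * (x * y)) = -1 := by
      apply t.sq (x * y)
      · rw [map_mul]
        intro h4
        apply hne
        have h5 : φ x = (φ y)⁻¹ := mul_eq_one_iff_eq_inv.1 h4
        rw [h5, inv_eq_iff_mul_eq_one, ← pow_two, hy]
      · rw [map_mul, (show Commute (φ x) (φ y) from hxy).mul_pow, hx, hy, mul_one]
    have h4 : mt P (x * y * (x * y)) = 1 := by
      have e1 : mt P x * mt P x = -1 := by rw [← map_mul, t.sq x hx1 hx]
      have e2 : mt P y * mt P y = -1 := by rw [← map_mul, t.sq y hy1 hy]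
      calc mt P (x * y * (x * y)) = mt P x * (mt P y * mt P x) * mt P y := by
            simp only [map_mul, mul_assoc]
        _ = mt P x * (mt P x * mt P y) * mt P y := by rw [h1]
        _ = (mt P x * mt P x) * (mt P y * mt P y) := by simp only [mul_assoc]
        _ = 1 := by rw [e1, e2, neg_mul_neg, one_mul]
    rw [h3] at h4
    have h5 := congrFun (congrFun h4 0) 0
    simp only [Matrix.neg_apply, Matrix.one_apply_eq] at h5
    apply h2
    linear_combination -h5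
  · exact h1

theorem Two.tr_mixed [Finite F] (h : Cov P φ) (h2 : (2 : F) ≠ 0) (t : Two φ) {y : P} (hm : DihType.Mixed (φ y)) :
    tr y = 0 := by
  obtain ⟨c, u, w, hy, h1, hu, hu1, hw, hw1, hwu, hcu, hcw, huw⟩ := hm
  obtain ⟨C, hC, hC2⟩ := h.exists_lift c h1
  obtain ⟨W, hW⟩ := h.surj w
  obtain ⟨U, hU⟩ : ∃ U, U = C⁻¹ * y := ⟨_, rfl⟩
  have hUu : φ U = u := by rw [hU, map_mul, map_inv, hC, hy]; group
  have hyU : y = C * U := by rw [hU]; group
  have e1 : W * C = C * W := h.commute_lift (by rw [hW, hC, hcw]) (by rw [hC2]; exact h1)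
  have e2 : mt P U * mt P W = -(mt P W * mt P U) :=
    t.anti h h2 (by rwa [hUu]) (by rwa [hUu]) (by rwa [hW]) (by rwa [hW]) (by rw [hUu, hW, huw])
      (by rw [hUu, hW]; exact fun h' => hwu h'.symm)
  apply h.tr_zero_of_anti h2 (y := W)
  rw [hyU]
  calc mt P (C * U) * mt P W = mt P C * (mt P U * mt P W) := by rw [map_mul, mul_assoc]
    _ = -(mt P C * mt P W * mt P U) := by rw [e2, mul_neg, mul_assoc]
    _ = -(mt P (C * W) * mt P U) := by rw [map_mul]
    _ = -(mt P (W * C) * mt P U) := by rw [e1]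
    _ = -(mt P W * mt P (C * U)) := by simp only [map_mul, mul_assoc]

include h in
theorem dih_two [Finite F] (D : DihType T) : Function.Injective φ ∨ (Two φ ∧
      (∀ y z : P, φ y = D.a → φ z = D.b → z * y * z⁻¹ = y⁻¹)) := by
  rcases h.dih_cases D.card D.odd D.ha2 D.ha4 D.b_not_mem D.hb D.hab D.inv with h1 | ⟨h1, h3, h4⟩
  · exact Or.inl h1
  · exact Or.inr ⟨⟨h1, h3⟩, h4⟩

/-- lifts of elements of order four are real -/
theorem Two.tr_a (h : Cov P φ) (D : DihType T)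
    (h4 : ∀ y z : P, φ y = D.a → φ z = D.b → z * y * z⁻¹ = y⁻¹) {y : P} (hy : IsConj D.a (φ y)) :
    tr y⁻¹ = tr y := by
  obtain ⟨g, hg⟩ := isConj_iff.1 hy
  obtain ⟨x, rfl⟩ := h.surj g
  obtain ⟨z, hz⟩ := h.surj D.b
  have h1 : φ (x⁻¹ * y * x) = D.a := by rw [map_mul, map_mul, map_inv, ← hg]; group
  have h3 := h4 _ z h1 hz
  have e1 : tr y = tr (x⁻¹ * y * x) := by
    have := tr_conj x⁻¹ y
    rw [inv_inv] at this
    exact this.symm
  have e2 : tr y⁻¹ = tr (x⁻¹ * y * x)⁻¹ := by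
    have := tr_conj x⁻¹ y⁻¹
    rw [inv_inv] at this
    rw [← this]
    congr 1
    group
  rw [e1, e2, ← h3, tr_conj]

include h in
/-- **All traces are real** for a group of dihedral type all of whose elements of odd order are real, `φ` injective or not. -/
theorem dih_real [Finite F] (h2 : (2 : F) ≠ 0) (D : DihType T) (Q : P → Prop)
    (hcls : ∀ y : P, Q y → (Odd (orderOf (φ y)) ∧ IsConj (φ y) (φ y)⁻¹) ∨ IsConj D.a (φ y) ∨ DihType.Mixed (φ y))
    (hinj : Function.Injective φ → ∀ y : P, Q y → IsConj (φ y) (φ y)⁻¹) :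
    ∀ y : P, Q y → tr y⁻¹ = tr y := by
  intro y hQ
  rcases h.dih_two D with hi | ⟨t, h4⟩
  · obtain ⟨g, hg⟩ := isConj_iff.1 (hinj hi y hQ)
    obtain ⟨x, rfl⟩ := h.surj g
    have : x * y * x⁻¹ = y⁻¹ := by
      apply hi
      rw [map_mul, map_mul, map_inv, map_inv, hg]
    rw [← this, tr_conj]
  · rcases hcls y hQ with ⟨h1, h3⟩ | h1 | h1
    · exact h.tr_inv_of_odd t.pm h1 h3
    · exact Two.tr_a h D h4 h1
    · rw [t.tr_mixed h h2 h1, t.tr_mixed h h2 (by rw [map_inv]; exact h1.inv)]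

end Cov

end Cfsg.Agent.H908
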