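import Mathlib

/-!
# Linear algebra for projective representations of degree four
-/

set_option autoImplicit false
set_option linter.unusedSectionVars false

namespace Cfsg.Agent.H908

open Module

section Gen

variable {K : Type*} [Field K] {V : Type*} [AddCommGroup V] [Module K V] [FiniteDimensional K V]

/-- An operator anticommuting with an invertible one has trace zero. -/
theorem trace_eq_zero_of_anti (h2 : (2 : K) ≠ 0) {A B B' : End K V} (hB : B' * B = 1)
    (hB' : B * B' = 1)
    (h : A * B = -(B * A)) : LinearMap.trace K V A = 0 := by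
  have h1 : LinearMap.trace K V A = LinearMap.trace K V (B' * (B * A)) := by
    rw [← mul_assoc, hB, one_mul]
  have h3 : LinearMap.trace K V (B' * (B * A)) = - LinearMap.trace K V A := by
    have : B * A = -(A * B) := by rw [h, neg_neg]
    rw [this, mul_neg, map_neg, ← mul_assoc, LinearMap.trace_mul_comm, ← mul_assoc]
    rw [hB', one_mul]
  have h4 : (2 : K) * LinearMap.trace K V A = 0 := by
    have := h1.trans h3
    linear_combination this
  exact (mul_eq_zero.1 h4).resolve_left h2

/-- On a space with anticommuting invertible operators the dimension is even. -/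
theorem even_finrank_of_anti (h2 : (2 : K) ≠ 0) {A B : End K V} (hA : LinearMap.det A ≠ 0)
    (hB : LinearMap.det B ≠ 0) (h : A * B = -(B * A)) : Even (finrank K V) := by
  have h1 : LinearMap.det A * LinearMap.det B =
      (-1) ^ finrank K V * (LinearMap.det B * LinearMap.det A) := by
    rw [← map_mul, h, ← map_mul]
    have : -(B * A) = (-1 : K) • (B * A) := by rw [neg_smul, one_smul]
    rw [this, LinearMap.det_smul]
  by_contra hodd
  rw [Nat.not_even_iff_odd] at hodd
  rw [hodd.neg_one_pow] at h1
  have h3 : (2 : K) * (LinearMap.det A * LinearMap.det B) = 0 := by linear_combination h1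
  rcases mul_eq_zero.1 h3 with h4 | h4
  · exact h2 h4
  · rcases mul_eq_zero.1 h4 with h5 | h5
    · exact hA h5
    · exact hB h5

/-- The eigenspace idempotent: `R² = μ²`, `R` commutes with two anticommuting invertible operators, `dim V = 4`, and
`R` is not scalar: then the trace of `R` is zero. -/
theorem trace_eq_zero_of_commute (h2 : (2 : K) ≠ 0) (h4 : finrank K V = 4) {A B R : End K V}
    (hA : IsUnit A) (hB : IsUnit B) (h : A * B = -(B * A)) (hRA : R * A = A * R) (hRB : R * B = B * R)
    {μ : K} (hμ : μ ≠ 0) (hR : R * R = (μ * μ) • (1 : End K V)) (hns : ∀ c : K, R ≠ c • 1) :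
    LinearMap.trace K V R = 0 := by
  set e : End K V := (2 : K)⁻¹ • (1 + μ⁻¹ • R) with he
  have he2 : IsIdempotentElem e := by
    change e * e = e
    have hx : (μ⁻¹ • R) * (μ⁻¹ • R) = 1 := by
      rw [smul_mul_smul_comm, hR, smul_smul]
      have : μ⁻¹ * μ⁻¹ * (μ * μ) = 1 := by field_simp
      rw [this, one_smul]
    have h3 : (1 + μ⁻¹ • R) * (1 + μ⁻¹ • R) = (2 : K) • (1 + μ⁻¹ • R) := by
      rw [mul_add, mul_one, add_mul, one_mul, hx, two_smul]; abel
    rw [he, smul_mul_smul_comm, h3, smul_smul]
    congr 1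
    field_simp
  have hRe : R = μ • ((2 : K) • e - 1) := by
    rw [he, smul_smul, mul_inv_cancel₀ h2, one_smul, add_sub_cancel_left, smul_smul, mul_inv_cancel₀ hμ, one_smul]
  have heA : e * A = A * e := by
    rw [he, smul_mul_assoc, mul_smul_comm, add_mul, mul_add, one_mul, mul_one, smul_mul_assoc, mul_smul_comm, hRA]
  have heB : e * B = B * e := by
    rw [he, smul_mul_assoc, mul_smul_comm, add_mul, mul_add, one_mul, mul_one, smul_mul_assoc, mul_smul_comm, hRB]
  set W := LinearMap.range e with hW
  have hWA : ∀ C : End K V, e * C = C * e → ∀ x ∈ W, C x ∈ W := by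
    rintro C hC _ ⟨y, rfl⟩
    exact ⟨C y, by rw [← Module.End.mul_apply, hC, Module.End.mul_apply]⟩
  have heven : Even (finrank K W) := by
    have hdet : ∀ C : End K V, IsUnit C → ∀ hC : ∀ x ∈ W, C x ∈ W, LinearMap.det (C.restrict hC) ≠ 0 := by
      intro C hCu hC h0
      have h5 : ¬ Function.Injective (C.restrict hC) := by
        intro hinj
        have h6 : LinearMap.ker (C.restrict hC) = ⊥ := LinearMap.ker_eq_bot.2 hinj
        have := (LinearMap.isUnit_iff_ker_eq_bot _).2 h6
        exact (LinearMap.isUnit_det _ this).ne_zero h0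
      apply h5
      intro x y hxy
      apply Subtype.ext
      have h7 : C x = C y := congrArg Subtype.val hxy
      obtain ⟨u, rfl⟩ := hCu
      have h8 := congrArg (fun z => (↑u⁻¹ : End K V) z) h7
      simpa [← Module.End.mul_apply] using h8
    apply even_finrank_of_anti h2 (hdet A hA (hWA A heA)) (hdet B hB (hWA B heB))
    ext x
    have := congrArg (fun z : End K V => z (x : V)) h
    simpa using this
  have hle : finrank K W ≤ 4 := h4 ▸ Submodule.finrank_le W
  have htr : LinearMap.trace K V e = (finrank K W : K) :=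
    (LinearMap.IsIdempotentElem.isProj_range e he2).trace
  have hcases : finrank K W = 0 ∨ finrank K W = 2 ∨ finrank K W = 4 := by
    obtain ⟨k, hk⟩ := heven
    omega
  rcases hcases with h0 | h0 | h0
  · exfalso
    have : W = ⊥ := Submodule.finrank_eq_zero.1 h0
    have he0 : e = 0 := LinearMap.range_eq_bot.1 this
    apply hns (-μ)
    rw [hRe, he0, smul_zero, zero_sub, smul_neg, neg_smul]
  · rw [hRe, map_smul, map_sub, map_smul, htr, h0, LinearMap.trace_one, h4]
    push_cast
    have : (2 : K) • (2 : K) - 4 = 0 := by rw [smul_eq_mul]; norm_num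
    rw [this, smul_zero]
  · exfalso
    have : W = ⊤ := Submodule.eq_top_of_finrank_eq (by rw [h0, h4])
    have he1 : e = 1 := by
      ext x
      have hx : x ∈ W := by rw [this]; exact Submodule.mem_top
      obtain ⟨y, rfl⟩ := hx
      rw [← Module.End.mul_apply, he2.eq]
      rfl
    apply hns μ
    rw [hRe, he1]
    congr 1
    rw [two_smul, add_sub_cancel_right]

/-- Lemma on the four-group and a transposition: `S` normalises the quaternion-like pair `I, J`. -/
theorem transposition_dichotomy (h2 : (2 : K) ≠ 0) (h4 : finrank K V = 4) {I J S : End K V} {α σ μ : K}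
    (hα : α ≠ 0) (hσ : σ ≠ 0) (hII : I * I = α • (1 : End K V)) (hJJ : J * J = α • (1 : End K V))
    (hIJ : I * J = -(J * I)) (hSI : S * I = J * S) (hSJ : S * J = I * S) (hSS : S * S = σ • (1 : End K V))
    (hμ : μ * μ = 2 * α * σ) :
    (∃ r : K, r ≠ 0 ∧ S = r • (I + J)) ∨ LinearMap.trace K V (S * I) = 0 := by
  have hμ0 : μ ≠ 0 := by
    rintro rfl
    rw [zero_mul] at hμ
    exact mul_ne_zero (mul_ne_zero h2 hα) hσ hμ.symm
  have hu : ∀ (A : End K V) (c : K), c ≠ 0 → A * A = c • (1 : End K V) → IsUnit A := by
    intro A c hc hAA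
    refine ⟨⟨A, c⁻¹ • A, ?_, ?_⟩, rfl⟩
    · rw [mul_smul_comm, hAA, smul_smul, inv_mul_cancel₀ hc, one_smul]
    · rw [smul_mul_assoc, hAA, smul_smul, inv_mul_cancel₀ hc, one_smul]
  -- `R = S (I + J)`
  set R := S * (I + J) with hR
  have hSIJ : S * (I + J) = (I + J) * S := by
    rw [mul_add, add_mul, hSI, hSJ, add_comm]
  have hsq : (I + J) * (I + J) = (2 * α) • (1 : End K V) := by
    rw [mul_add, add_mul, add_mul, hII, hJJ, hIJ, two_mul, add_smul]
    abel
  have hRR : R * R = (μ * μ) • (1 : End K V) := by
    calc R * R = S * (I + J) * ((I + J) * S) := by rw [hR]; nth_rewrite 2 [hSIJ]; rfl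
      _ = S * ((I + J) * (I + J)) * S := by noncomm_ring
      _ = (μ * μ) • (1 : End K V) := by
        rw [hsq, mul_smul_comm, mul_one, smul_mul_assoc, hSS, smul_smul, hμ]
  have hIC : (I + J) * I = J * (I + J) := by
    rw [add_mul, mul_add, hII, hJJ, add_comm]
  have hJC : (I + J) * J = I * (I + J) := by
    rw [add_mul, mul_add, hII, hJJ, add_comm]
  have hRI : R * I = I * R := by
    rw [hR, mul_assoc, hIC, ← mul_assoc, hSJ, mul_assoc]
  have hRJ : R * J = J * R := by
    rw [hR, mul_assoc, hJC, ← mul_assoc, hSI, mul_assoc]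
  -- `S = (2α)⁻¹ R (I + J)`
  have hS : S = (2 * α)⁻¹ • (R * (I + J)) := by
    rw [hR, mul_assoc, hsq, mul_smul_comm, mul_one, smul_smul, inv_mul_cancel₀ (mul_ne_zero h2 hα), one_smul]
  by_cases hns : ∃ c : K, R = c • 1
  · left
    obtain ⟨c, hc⟩ := hns
    have hc0 : c ≠ 0 := by
      rintro rfl
      rw [zero_smul] at hc
      rw [hc, zero_mul] at hRR
      have h1 : (1 : End K V) = 0 := by
        have h3 : μ * μ ≠ 0 := mul_ne_zero hμ0 hμ0
        have := congrArg (fun z => (μ * μ)⁻¹ • z) hRR
        simp only [smul_zero, smul_smul, inv_mul_cancel₀ h3, one_smul] at this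
        exact this.symm
      have h5 : finrank K V = 0 := by
        rw [Module.finrank_eq_zero_iff_isTorsion] 
        intro x
        exact ⟨1, by
          have := congrArg (fun z : End K V => z x) h1
          simpa using this⟩
      omega
    refine ⟨(2 * α)⁻¹ * c, mul_ne_zero (inv_ne_zero (mul_ne_zero h2 hα)) hc0, ?_⟩
    rw [hS, hc, smul_mul_assoc, one_mul, smul_smul]
  · right
    push Not at hns
    have htr := trace_eq_zero_of_commute h2 h4 (hu I α hα hII) (hu J α hα hJJ) hIJ hRI hRJ hμ0 hRR hns
    -- `S I = (2α)⁻¹ R (α + J I)`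
    have h5 : S * I = (2 * α)⁻¹ • (α • R + R * (J * I)) := by
      rw [hS, smul_mul_assoc, mul_assoc, add_mul, hII, mul_add, mul_smul_comm, mul_one]
    have h6 : LinearMap.trace K V (R * (J * I)) = 0 := by
      apply trace_eq_zero_of_anti h2 (B := I) (B' := α⁻¹ • I)
      · rw [smul_mul_assoc, hII, smul_smul, inv_mul_cancel₀ hα, one_smul]
      · rw [mul_smul_comm, hII, smul_smul, inv_mul_cancel₀ hα, one_smul]
      · calc R * (J * I) * I = R * J * (I * I) := by noncomm_ring
          _ = α • (R * J) := by rw [hII, mul_smul_comm, mul_one]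
          _ = (I * I) * (R * J) := by rw [hII, smul_mul_assoc, one_mul]
          _ = I * (I * R) * J := by noncomm_ring
          _ = I * (R * I) * J := by rw [hRI]
          _ = I * R * (I * J) := by noncomm_ring
          _ = I * R * -(J * I) := by rw [hIJ]
          _ = -(I * (R * (J * I))) := by noncomm_ring
    rw [h5, map_smul, map_add, map_smul, htr, h6]
    simp

end Gen

end Cfsg.Agent.H908
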