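import Cfsg.Agent.H908.FourMat

/-!
# Projective representations of degree four of groups containing `L_2(7)`: the elements `x, d, i, j, s`
-/

set_option autoImplicit false
set_option linter.unusedSectionVars false

namespace Cfsg.Agent.H908

open Module

variable {K : Type*} [Field K] {V : Type*} [AddCommGroup V] [Module K V] [FiniteDimensional K V]

/-- An operator of order seven normalised by `D : X ↦ X²` has an eigenvector `v` with `v, D v, D² v` eigenvectors for
different eigenvalues. -/
theorem exists_seven [IsAlgClosed K] (h7 : (7 : K) ≠ 0) {X D : End K V} (hX : X ^ 7 = 1) (hX1 : X ≠ 1)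
    (hD : D ^ 3 = 1) (hDX : D * X = X ^ 2 * D) :
    ∃ (ζ : K) (v : V), ζ ^ 7 = 1 ∧ ζ ≠ 1 ∧ v ≠ 0 ∧ X v = ζ • v ∧ X (D v) = ζ ^ 4 • D v ∧
      X (D (D v)) = ζ ^ 2 • D (D v) ∧ LinearIndependent K ![v, D v, D (D v)] := by
  set N : End K V := 1 + X + X ^ 2 + X ^ 3 + X ^ 4 + X ^ 5 + X ^ 6 with hN
  have hNX : N * (X - 1) = 0 := by
    rw [hN]
    have : (1 + X + X ^ 2 + X ^ 3 + X ^ 4 + X ^ 5 + X ^ 6) * (X - 1) = X ^ 7 - 1 := by noncomm_ring
    rw [this, hX, sub_self]
  have hcomm : Commute X N := by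
    rw [hN]
    exact ((((((Commute.one_right X).add_right (Commute.refl X)).add_right ((Commute.refl X).pow_right 2)).add_right
      ((Commute.refl X).pow_right 3)).add_right ((Commute.refl X).pow_right 4)).add_right
      ((Commute.refl X).pow_right 5)).add_right ((Commute.refl X).pow_right 6)
  have hker : LinearMap.ker N ≠ ⊥ := by
    intro h0
    apply hX1
    have hu : IsUnit N := (LinearMap.isUnit_iff_ker_eq_bot N).2 h0
    have : X - 1 = 0 := by
      obtain ⟨u, hu⟩ := hu
      have h1 : (↑u⁻¹ : End K V) * (N * (X - 1)) = X - 1 := by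
        rw [← hu, ← mul_assoc, Units.inv_mul, one_mul]
      rw [← h1, hNX, mul_zero]
    exact sub_eq_zero.1 this
  have hmaps : ∀ x ∈ LinearMap.ker N, X x ∈ LinearMap.ker N := by
    intro x hx
    rw [LinearMap.mem_ker] at hx ⊢
    rw [← Module.End.mul_apply, ← hcomm.eq, Module.End.mul_apply, hx, map_zero]
  have : Nontrivial (LinearMap.ker N) := Submodule.nontrivial_iff_ne_bot.2 hker
  obtain ⟨ζ, hζ⟩ := Module.End.exists_eigenvalue (X.restrict hmaps)
  obtain ⟨v', hv'⟩ := hζ.exists_hasEigenvector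
  have hv0 : (v' : V) ≠ 0 := fun h => hv'.2 (Subtype.ext h)
  have hXv : X (v' : V) = ζ • (v' : V) := by
    have := congrArg Subtype.val (Module.End.mem_eigenspace_iff.1 hv'.1)
    simpa using this
  set v : V := (v' : V) with hv
  have hpow : ∀ n : ℕ, (X ^ n) v = ζ ^ n • v := by
    intro n
    induction n with
    | zero => simp
    | succ n ih => rw [pow_succ', Module.End.mul_apply, ih, map_smul, hXv, smul_smul, ← pow_succ]
  have hζ7 : ζ ^ 7 = 1 := by
    have := hpow 7
    rw [hX, Module.End.one_apply] at this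
    have h1 : (ζ ^ 7 - 1) • v = 0 := by rw [sub_smul, one_smul, ← this, sub_self]
    exact sub_eq_zero.1 ((smul_eq_zero.1 h1).resolve_right hv0)
  have hNv : N v = 0 := v'.2
  have hζ1 : ζ ≠ 1 := by
    rintro rfl
    have : N v = (7 : K) • v := by
      rw [hN]
      simp only [LinearMap.add_apply, Module.End.one_apply, hpow, one_pow, one_smul, hXv]
      have : (7 : K) • v = (1 + 1 + 1 + 1 + 1 + 1 + 1 : K) • v := by congr 1; norm_num
      rw [this]
      simp only [add_smul, one_smul]
    rw [this] at hNv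
    exact (smul_eq_zero.1 hNv).elim h7 hv0
  have hζ0 : ζ ≠ 0 := by
    rintro rfl
    simp at hζ7
  -- eigenvalues of `D v`
  have step : ∀ (c : K) (w : V), X w = c • w → X (D w) = c ^ 4 • D w := by
    intro c w hw
    have h1 : (X ^ 2) (D w) = c • D w := by
      rw [← Module.End.mul_apply, ← hDX, Module.End.mul_apply, hw, map_smul]
    have h2 : X = (X ^ 2) ^ 4 := by
      rw [← pow_mul]
      have : X ^ (2 * 4) = X ^ 7 * X := by rw [← pow_succ]
      rw [this, hX, one_mul]
    have h3 : ∀ n : ℕ, ((X ^ 2) ^ n) (D w) = c ^ n • D w := by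
      intro n
      induction n with
      | zero => simp
      | succ n ih => rw [pow_succ', Module.End.mul_apply, ih, map_smul, h1, smul_smul, ← pow_succ]
    calc X (D w) = ((X ^ 2) ^ 4) (D w) := by rw [← h2]
      _ = c ^ 4 • D w := h3 4
  have hinj : Function.Injective D := by
    intro a b hab
    have h1 : D (D (D a)) = D (D (D b)) := by rw [hab]
    have h2 : ∀ a, D (D (D a)) = a := by
      intro a
      have := congrArg (fun z : End K V => z a) hD
      simpa [pow_succ, Module.End.mul_apply] using this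
    rwa [h2, h2] at h1
  have e1 := step ζ v hXv
  have e2 := step _ _ e1
  have e2' : X (D (D v)) = ζ ^ 2 • D (D v) := by
    rw [e2]
    congr 1
    calc (ζ ^ 4) ^ 4 = ζ ^ 7 * ζ ^ 7 * ζ ^ 2 := by ring
      _ = ζ ^ 2 := by rw [hζ7]; ring
  refine ⟨ζ, v, hζ7, hζ1, hv0, hXv, e1, e2', ?_⟩
  have hDv0 : D v ≠ 0 := fun h => hv0 (hinj (by rw [h, map_zero]))
  have hDDv0 : D (D v) ≠ 0 := fun h => hDv0 (hinj (by rw [h, map_zero]))
  have hne1 : ζ ≠ ζ ^ 4 := by
    intro h
    apply hζ1
    have h3 : ζ ^ 3 = 1 := by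
      apply mul_left_cancel₀ hζ0
      rw [mul_one, ← pow_succ']
      exact h.symm
    calc ζ = ζ ^ 7 := by
            rw [show ζ ^ 7 = (ζ ^ 3) ^ 2 * ζ by ring, h3]; ring
      _ = 1 := hζ7
  have hne2 : ζ ≠ ζ ^ 2 := by
    intro h
    apply hζ1
    apply mul_left_cancel₀ hζ0
    rw [mul_one, ← pow_two]
    exact h.symm
  have hne3 : ζ ^ 4 ≠ ζ ^ 2 := by
    intro h
    apply hne2
    calc ζ = (ζ ^ 4) ^ 2 := by rw [show (ζ ^ 4) ^ 2 = ζ ^ 7 * ζ by ring, hζ7, one_mul]
      _ = (ζ ^ 2) ^ 2 := by rw [h]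
      _ = ζ ^ 4 := by ring
      _ = ζ ^ 2 := h
  have key := Module.End.eigenvectors_linearIndependent' X ![ζ, ζ ^ 4, ζ ^ 2] (by
    intro a b hab
    fin_cases a <;> fin_cases b <;> simp at hab ⊢
    · exact hne1 hab
    · exact hne2 hab
    · exact hne1 hab.symm
    · exact hne3 hab
    · exact hne2 hab.symm
    · exact hne3 hab.symm) ![v, D v, D (D v)] (by
    intro a
    fin_cases a
    · exact ⟨Module.End.mem_eigenspace_iff.2 hXv, hv0⟩
    · exact ⟨Module.End.mem_eigenspace_iff.2 e1, hDv0⟩
    · exact ⟨Module.End.mem_eigenspace_iff.2 e2', hDDv0⟩)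
  exact key

/-- `D` of order three with `v, D v, D² v` independent satisfies no relation `D = a D² + b`. -/
theorem no_quadratic {D : End K V} {v : V} (hli : LinearIndependent K ![v, D v, D (D v)]) {a b : K}
    (h : D = a • (D * D) + b • 1) : False := by
  have h1 := congrArg (fun z : End K V => z v) h
  simp only [LinearMap.add_apply, LinearMap.smul_apply, Module.End.mul_apply, Module.End.one_apply] at h1
  have h2 := Fintype.linearIndependent_iff.1 hli ![b, -1, a] (by
    rw [Fin.sum_univ_three]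
    simp only [Matrix.cons_val_zero, Matrix.cons_val_one, Matrix.cons_val]
    have : (-1 : K) • D v = -(a • D (D v) + b • v) := by rw [← h1, neg_one_smul]
    rw [this]
    abel)
  have h3 := h2 1
  simp at h3

/-- `D³ = 1`, `det D = 1`, `v, D v, D² v` independent in dimension four: the trace is one. -/
theorem trace_eq_one (h4 : finrank K V = 4) {D : End K V} (hD : D ^ 3 = 1) (hdet : LinearMap.det D = 1) {v : V}
    (hli : LinearIndependent K ![v, D v, D (D v)]) : LinearMap.trace K V D = 1 := by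
  -- a fourth basis vector
  obtain ⟨u, hu⟩ : ∃ u : V, LinearIndependent K ![u, v, D v, D (D v)] := by
    have hlt : Submodule.span K (Set.range ![v, D v, D (D v)]) ≠ ⊤ := by
      intro htop
      have h5 := finrank_span_eq_card hli
      rw [htop, finrank_top, h4] at h5
      simp at h5
    obtain ⟨u, -, hu⟩ := SetLike.exists_of_lt (lt_top_iff_ne_top.2 hlt)
    refine ⟨u, ?_⟩
    rw [show (![u, v, D v, D (D v)] : Fin 4 → V) = Fin.cons u ![v, D v, D (D v)] from rfl,
      linearIndependent_finCons]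
    exact ⟨hli, hu⟩
  let B : Basis (Fin 4) K V := basisOfLinearIndependentOfCardEqFinrank hu (by rw [h4]; simp)
  have hB0 : B 0 = u := by simp [B]
  have hB1 : B 1 = v := by simp [B]
  have hB2 : B 2 = D v := by simp [B]
  have hB3 : B 3 = D (D v) := by simp [B]
  have hDDD : D (D (D v)) = v := by
    have := congrArg (fun z : End K V => z v) hD
    simpa [pow_succ, Module.End.mul_apply] using this
  have hc : ∀ i j, LinearMap.toMatrix B B D i j = B.repr (D (B j)) i := fun i j => LinearMap.toMatrix_apply _ _ _ _ _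
  have c1 : ∀ i, LinearMap.toMatrix B B D i 1 = if i = 2 then 1 else 0 := by
    intro i
    rw [hc, hB1, ← hB2, B.repr_self, Finsupp.single_apply]
    simp only [eq_comm]
  have c2 : ∀ i, LinearMap.toMatrix B B D i 2 = if i = 3 then 1 else 0 := by
    intro i
    rw [hc, hB2, ← hB3, B.repr_self, Finsupp.single_apply]
    simp only [eq_comm]
  have c3 : ∀ i, LinearMap.toMatrix B B D i 3 = if i = 1 then 1 else 0 := by
    intro i
    rw [hc, hB3, hDDD, ← hB1, B.repr_self, Finsupp.single_apply]
    simp only [eq_comm]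
  rw [← LinearMap.det_toMatrix B] at hdet
  rw [LinearMap.trace_eq_matrix_trace K B]
  set M := LinearMap.toMatrix B B D with hM
  have hdet' : M.det = M 0 0 := by
    have hMM : M = !![M 0 0, 0, 0, 0; M 1 0, 0, 0, 1; M 2 0, 1, 0, 0; M 3 0, 0, 1, 0] := by
      ext i j
      fin_cases j
      · fin_cases i <;> rfl
      · have := c1 i
        fin_cases i <;> simpa using this
      · have := c2 i
        fin_cases i <;> simpa using this
      · have := c3 i
        fin_cases i <;> simpa using this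
    rw [hMM, Matrix.det_succ_row_zero, Fin.sum_univ_four]
    simp [Matrix.det_fin_three, Fin.succAbove]
  rw [Matrix.trace, Fin.sum_univ_four]
  simp only [Matrix.diag_apply]
  rw [c1 1, c2 2, c3 3, ← hdet', hdet]
  simp

/-- The main computation: operators `X, D, I, J, S` of a projective representation of degree four. -/
theorem seven_main [IsAlgClosed K] (h2 : (2 : K) ≠ 0) (h7 : (7 : K) ≠ 0) (h4 : finrank K V = 4)
    {X D I J S : End K V} {α σ c : K} (hX : X ^ 7 = 1) (hX1 : X ≠ 1) (hD : D ^ 3 = 1) (hDX : D * X = X ^ 2 * D)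
    (hα : α ≠ 0) (hσ : σ ≠ 0) (hII : I * I = α • (1 : End K V)) (hJJ : J * J = α • (1 : End K V))
    (hIJ : I * J = -(J * I)) (hSI : S * I = -(J * S)) (hSJ : S * J = -(I * S)) (hSS : S * S = σ • (1 : End K V))
    (hDI : D * I = J * D) (hDJ : D * J = c • (I * J) * D) (hSD : S * D = D ^ 2 * S) :
    LinearMap.trace K V (S * I) = 0 := by
  obtain ⟨μ, hμ⟩ := IsAlgClosed.exists_pow_nat_eq (2 * α * σ) (n := 2) (by norm_num)
  rcases transposition_dichotomy (J := -J) h2 h4 hα hσ hII (by rw [neg_mul_neg, hJJ])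
    (by rw [mul_neg, hIJ, neg_mul]) (by rw [hSI, neg_mul]) (by rw [mul_neg, hSJ, neg_neg]) hSS (μ := μ)
    (by rw [← hμ, pow_two]) with
    ⟨r, hr, hS⟩ | h
  swap
  · exact h
  exfalso
  obtain ⟨ζ, v, -, -, -, -, -, -, hli⟩ := exists_seven h7 hX hX1 hD hDX
  have hD3 : D * D * D = 1 := by
    rw [← hD]; noncomm_ring
  have hJI : J * I = -(I * J) := by rw [hIJ, neg_neg]
  -- `σ D² = D S D⁻¹ S = r² (J + c I J) (I + J)`
  have h1 : D * S = r • ((J - c • (I * J)) * D) := by
    rw [hS, mul_smul_comm, mul_add, mul_neg, hDI, hDJ, sub_mul, sub_eq_add_neg]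
  have h5 : D * S * S = σ • D := by rw [mul_assoc, hSS, mul_smul_comm, mul_one]
  have h6 : D * S = S * D * D := by
    rw [hSD]
    calc D * S = 1 * (D * S) := (one_mul _).symm
      _ = D * D * D * (D * S) := by rw [hD3]
      _ = D ^ 2 * (D ^ 2 * S) := by noncomm_ring
      _ = D ^ 2 * (S * D) := by rw [hSD]
      _ = D ^ 2 * S * D := by rw [mul_assoc]
  have h7' : σ • (D * D) = r ^ 2 • ((J - c • (I * J)) * (I + -J)) := by
    calc σ • (D * D) = D * (σ • D) := by rw [mul_smul_comm]
      _ = D * (D * S * S) := by rw [h5]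
      _ = D * (S * D * D * S) := by rw [h6]
      _ = (D * S) * (D * D * S) := by noncomm_ring
      _ = r • ((J - c • (I * J)) * D) * (D * D * S) := by rw [h1]
      _ = r • ((J - c • (I * J)) * (D * D * D) * S) := by
          rw [smul_mul_assoc]; congr 1
      _ = r • ((J - c • (I * J)) * S) := by rw [hD3, mul_one]
      _ = r ^ 2 • ((J - c • (I * J)) * (I + -J)) := by
          conv_lhs => rw [hS]
          rw [mul_smul_comm, smul_smul, pow_two]
  have h8 : (J - c • (I * J)) * (I + -J) = -(α • (1 : End K V)) + (c * α) • I + (c * α) • J - I * J := by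
    have e1 : I * J * I = -(α • J) := by
      rw [hIJ, neg_mul, mul_assoc, hII, mul_smul_comm, mul_one]
    have e2 : I * J * J = α • I := by rw [mul_assoc, hJJ, mul_smul_comm, mul_one]
    rw [sub_mul, mul_add, mul_add, mul_neg, mul_neg, smul_mul_assoc, smul_mul_assoc, e1, e2, hJJ, hJI, smul_neg,
      smul_smul, smul_smul]
    abel
  -- the square of the pure part is scalar
  set y : End K V := (c * α) • I + (c * α) • J - I * J with hy
  have hyy : y * y = (2 * (c * α) ^ 2 * α - α ^ 2) • (1 : End K V) := by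
    have e1 : I * J * I = -(α • J) := by
      rw [hIJ, neg_mul, mul_assoc, hII, mul_smul_comm, mul_one]
    have e2 : I * J * J = α • I := by rw [mul_assoc, hJJ, mul_smul_comm, mul_one]
    have e3 : I * (I * J) = α • J := by rw [← mul_assoc, hII, smul_mul_assoc, one_mul]
    have e4 : J * (I * J) = -(α • I) := by
      rw [← mul_assoc, hJI, neg_mul, mul_assoc, hJJ, mul_smul_comm, mul_one]
    have e5 : I * J * (I * J) = -((α * α) • (1 : End K V)) := by
      rw [← mul_assoc, e1, neg_mul, smul_mul_assoc, hJJ, smul_smul]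
    rw [hy]
    simp only [sub_mul, mul_sub, add_mul, mul_add, smul_mul_assoc, mul_smul_comm, e1, e2, e3, e4, e5, hII, hJJ, hJI]
    simp only [smul_neg, smul_smul]
    module
  have h9 : σ • (D * D) = (-(r ^ 2 * α)) • (1 : End K V) + r ^ 2 • y := by
    rw [h7', h8, hy]
    module
  have h10 : D * D = (σ⁻¹ * (-(r ^ 2 * α))) • (1 : End K V) + (σ⁻¹ * r ^ 2) • y := by
    have := congrArg (fun z => σ⁻¹ • z) h9
    simp only [smul_smul, inv_mul_cancel₀ hσ, one_smul, smul_add] at this
    exact this
  -- `D = (D²)²`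
  have h11 : D = D * D * (D * D) := by
    calc D = 1 * D := (one_mul _).symm
      _ = D * D * D * D := by rw [hD3]
      _ = D * D * (D * D) := by noncomm_ring
  set A := σ⁻¹ * (-(r ^ 2 * α)) with hA
  set C := σ⁻¹ * r ^ 2 with hC
  have hC0 : C ≠ 0 := mul_ne_zero (inv_ne_zero hσ) (pow_ne_zero 2 hr)
  have hyD : y = C⁻¹ • (D * D) - (C⁻¹ * A) • (1 : End K V) := by
    rw [h10, smul_add, smul_smul, smul_smul, inv_mul_cancel₀ hC0, one_smul]
    abel
  apply no_quadratic hli (a := 2 * A) (b := C ^ 2 * (2 * (c * α) ^ 2 * α - α ^ 2) - A ^ 2)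
  have h12 : D * D * (D * D) = (A • (1 : End K V) + C • y) * (A • (1 : End K V) + C • y) := by rw [h10]
  rw [h12] at h11
  have h13 : (A • (1 : End K V) + C • y) * (A • (1 : End K V) + C • y) =
      (A ^ 2) • (1 : End K V) + (2 * A * C) • y + (C ^ 2) • (y * y) := by
    simp only [add_mul, mul_add, smul_mul_assoc, mul_smul_comm, one_mul, mul_one]
    module
  rw [h13, hyy, hyD] at h11
  refine h11.trans ?_
  have hCC : C * C⁻¹ = 1 := mul_inv_cancel₀ hC0
  have : (2 * A * C) • (C⁻¹ • (D * D) - (C⁻¹ * A) • (1 : End K V)) =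
      (2 * A * (C * C⁻¹)) • (D * D) - (2 * A * A * (C * C⁻¹)) • (1 : End K V) := by
    module
  rw [this, hCC]
  module

end Cfsg.Agent.H908
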