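import Cfsg.Agent.H908.Pauli

/-!
# The group `4 ∘ 2^(1+4)` of monomial `4 × 4` matrices: order, centre, characteristic subgroups
-/

set_option autoImplicit false
set_option linter.style.haveILetI false

namespace Cfsg.Agent.H908.Pauli

open Cfsg.Geo Matrix

/-- The character table of the four-group. -/
def h4 (a b : Fin 4) : ℤ :=
  (![![1, 1, 1, 1], ![1, -1, 1, -1], ![1, 1, -1, -1], ![1, -1, -1, 1]] : Fin 4 → Fin 4 → ℤ) a b

theorem h4_00 : h4 0 0 = 1 := by decide
theorem h4_01 : h4 0 1 = 1 := by decide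
theorem h4_02 : h4 0 2 = 1 := by decide
theorem h4_03 : h4 0 3 = 1 := by decide
theorem h4_10 : h4 1 0 = 1 := by decide
theorem h4_11 : h4 1 1 = -1 := by decide
theorem h4_12 : h4 1 2 = 1 := by decide
theorem h4_13 : h4 1 3 = -1 := by decide
theorem h4_20 : h4 2 0 = 1 := by decide
theorem h4_21 : h4 2 1 = 1 := by decide
theorem h4_22 : h4 2 2 = -1 := by decide
theorem h4_23 : h4 2 3 = -1 := by decide
theorem h4_30 : h4 3 0 = 1 := by decide
theorem h4_31 : h4 3 1 = -1 := by decide
theorem h4_32 : h4 3 2 = -1 := by decide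
theorem h4_33 : h4 3 3 = 1 := by decide
theorem h4_add : ∀ i a j : Fin 4, h4 i (x4 a j) = h4 i a * h4 i j := by decide
theorem h4_symm : ∀ i j : Fin 4, h4 i j = h4 j i := by decide
theorem h4_add' : ∀ b i j : Fin 4, h4 (x4 b i) j = h4 b j * h4 i j := by decide
theorem h4_sq : ∀ i j : Fin 4, h4 i j * h4 i j = 1 := by decide
theorem h4_prod : ∀ i : Fin 4, h4 i 0 * h4 i 1 * h4 i 2 * h4 i 3 = 1 := by decide
theorem h4_zero : ∀ i : Fin 4, h4 i 0 = 1 := by decide
theorem h4_orth : ∀ i j : Fin 4, h4 i 0 * h4 0 j + h4 i 1 * h4 1 j + h4 i 2 * h4 2 j + h4 i 3 * h4 3 j =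
  if i = j then 4 else 0 := by decide
theorem x4_symm : ∀ a b : Fin 4, x4 a b = x4 b a := by decide
theorem x4_mul' : ∀ a b : Fin 4, x4 a * x4 b = x4 (x4 a b) := by decide
theorem x4_trans : ∀ k j : Fin 4, ∃ a : Fin 4, x4 a k = j := by decide
theorem h4_sep : ∀ i j : Fin 4, i ≠ j → ∃ b : Fin 4, h4 b i = - h4 b j := by decide
theorem x4_zero : ∀ a : Fin 4, x4 a 0 = a := by decide

section group

variable {F : Type*} [Field F]

/-- The entries of a member of `RR`. -/
def ch (l : F) (b : Fin 4) : Fin 4 → F := fun j => l * (h4 b j : F)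

theorem h4_sqF (i j : Fin 4) : (h4 i j : F) * (h4 i j : F) = 1 := by
  rw [← Int.cast_mul, h4_sq, Int.cast_one]

theorem Q_ch {l : F} (hl : l ^ 4 = 1) (b : Fin 4) : Q (ch l b) := by
  refine ⟨fun i => ?_, fun i j => ?_, ?_⟩
  · have := h4_sqF (F := F) b i
    unfold ch
    linear_combination (exp := 1) (h4 b i : F) ^ 4 * hl + ((h4 b i : F) ^ 2 + 1) * this
  · have h1 := h4_sqF (F := F) b i
    have h2 := h4_sqF (F := F) b j
    unfold ch
    linear_combination l ^ 2 * h1 - l ^ 2 * h2
  · rw [Fin.prod_univ_four]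
    have h1 : (h4 b 0 : F) * h4 b 1 * h4 b 2 * h4 b 3 = 1 := by
      rw [← Int.cast_mul, ← Int.cast_mul, ← Int.cast_mul, h4_prod, Int.cast_one]
    unfold ch
    linear_combination l ^ 4 * h1 + hl

theorem eq_ch {c : Fin 4 → F} (hc : Q c) : ∃ b, c = ch (c 0) b := by
  have h0 := Q_ne hc 0
  have key : ∀ j, c j = c 0 ∨ c j = - c 0 := by
    intro j
    have := hc.2.1 j 0
    rcases eq_or_ne (c j) (c 0) with h | h
    · exact Or.inl h
    · right
      have h1 : (c j - c 0) * (c j + c 0) = 0 := by linear_combination this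
      rcases mul_eq_zero.1 h1 with h2 | h2
      · exact absurd (sub_eq_zero.1 h2) h
      · exact eq_neg_of_add_eq_zero_left h2
  have hp := hc.2.2
  rw [Fin.prod_univ_four] at hp
  have e4 := hc.1 0
  have hch : ∀ (b : Fin 4), (c 1 = c 0 * (h4 b 1 : F)) → (c 2 = c 0 * (h4 b 2 : F)) →
      (c 3 = c 0 * (h4 b 3 : F)) → c = ch (c 0) b := by
    intro b h1 h2 h3
    funext j
    unfold ch
    fin_cases j
    · change c 0 = c 0 * ((h4 b 0 : ℤ) : F)
      rw [h4_zero, Int.cast_one, mul_one]
    · exact h1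
    · exact h2
    · exact h3
  have h3 : ∀ s t : F, s * s = 1 → t * t = 1 → c 1 = c 0 * s → c 2 = c 0 * t →
      c 3 = c 0 * (s * t) := by
    intro s t hs ht h1 h2
    apply mul_left_cancel₀ (pow_ne_zero 3 h0)
    rw [h1, h2] at hp
    linear_combination s * t * hp - (s * t) * e4 - c 0 ^ 3 * c 3 * (s * s * ht + hs)
  rcases key 1 with k1 | k1 <;> rcases key 2 with k2 | k2
  · have := h3 1 1 (by norm_num) (by norm_num) (by rw [k1]; ring) (by rw [k2]; ring)
    refine ⟨0, hch 0 ?_ ?_ ?_⟩
    · rw [k1, h4_01]; push_cast; ring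
    · rw [k2, h4_02]; push_cast; ring
    · rw [this, h4_03]; push_cast; ring
  · have := h3 1 (-1) (by norm_num) (by norm_num) (by rw [k1]; ring) (by rw [k2]; ring)
    refine ⟨2, hch 2 ?_ ?_ ?_⟩
    · rw [k1, h4_21]; push_cast; ring
    · rw [k2, h4_22]; push_cast; ring
    · rw [this, h4_23]; push_cast; ring
  · have := h3 (-1) 1 (by norm_num) (by norm_num) (by rw [k1]; ring) (by rw [k2]; ring)
    refine ⟨1, hch 1 ?_ ?_ ?_⟩
    · rw [k1, h4_11]; push_cast; ring
    · rw [k2, h4_12]; push_cast; ring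
    · rw [this, h4_13]; push_cast; ring
  · have := h3 (-1) (-1) (by norm_num) (by norm_num) (by rw [k1]; ring) (by rw [k2]; ring)
    refine ⟨3, hch 3 ?_ ?_ ?_⟩
    · rw [k1, h4_31]; push_cast; ring
    · rw [k2, h4_32]; push_cast; ring
    · rw [this, h4_33]; push_cast; ring

theorem ch_ne {l : F} (hl : l ≠ 0) (b j : Fin 4) : ch l b j ≠ 0 := by
  unfold ch
  apply mul_ne_zero hl
  intro h
  have := h4_sqF (F := F) b j
  rw [h, zero_mul] at this
  exact zero_ne_one this

theorem ch_inj (h2 : (2 : F) ≠ 0) {l l' : F} {b b' : Fin 4} (hl : l ≠ 0) (h : ch l b = ch l' b') :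
    l = l' ∧ b = b' := by
  have e0 := congrFun h 0
  unfold ch at e0
  rw [h4_zero, h4_zero, Int.cast_one, mul_one, mul_one] at e0
  refine ⟨e0, ?_⟩
  subst e0
  have e : ∀ j, (h4 b j : F) = h4 b' j := fun j => mul_left_cancel₀ hl (congrFun h j)
  have key : ∀ b b' j : Fin 4, h4 b j = h4 b' j ∨ h4 b j - h4 b' j = 2 ∨ h4 b j - h4 b' j = -2 := by
    decide
  have e' : ∀ j, h4 b j = h4 b' j := by
    intro j
    rcases key b b' j with h | h | h
    · exact h
    · exfalso
      have := e j
      have h' : ((h4 b j - h4 b' j : ℤ) : F) = 2 := by rw [h]; norm_num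
      rw [Int.cast_sub, this, sub_self] at h'
      exact h2 h'.symm
    · exfalso
      have := e j
      have h' : ((h4 b j - h4 b' j : ℤ) : F) = -2 := by rw [h]; norm_num
      rw [Int.cast_sub, this, sub_self] at h'
      exact h2 (neg_eq_zero.1 h'.symm)
  have key2 : ∀ b b' : Fin 4, (∀ j, h4 b j = h4 b' j) → b = b' := by decide
  exact key2 b b' e'

/-- The members of `RR`. -/
noncomputable def el (a : Fin 4) (l : F) (hl : l ^ 4 = 1) (b : Fin 4) : RR F :=
  ⟨mk (x4 a) (ch l b) (Q_ne (Q_ch hl b)), mk_mem (Q_ch hl b)⟩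

theorem el_coe (a : Fin 4) (l : F) (hl : l ^ 4 = 1) (b : Fin 4) :
    (((el a l hl b : RR F) : GL (Fin 4) F) : Matrix (Fin 4) (Fin 4) F) = mono (x4 a) (ch l b) := rfl

theorem exists_el (x : RR F) : ∃ (a : Fin 4) (l : F) (hl : l ^ 4 = 1) (b : Fin 4),
    x = el a l hl b := by
  obtain ⟨x, a, c, hx, hc⟩ := x
  obtain ⟨b, hb⟩ := eq_ch hc
  refine ⟨a, c 0, hc.1 0, b, ?_⟩
  apply Subtype.ext
  apply Units.ext
  rw [el_coe, ← hb, hx]

variable {i : F}

theorem orderOf_i (h2 : (2 : F) ≠ 0) (hi : i ^ 2 = -1) : orderOf i = 4 := by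
  have : orderOf i = 2 ^ (1 + 1) := by
    haveI : Fact (Nat.Prime 2) := ⟨Nat.prime_two⟩
    apply orderOf_eq_prime_pow
    · rw [pow_one, hi]
      intro h
      apply h2
      linear_combination -h
    · change i ^ 4 = 1
      linear_combination (i ^ 2 - 1) * hi
  rw [this]; rfl

theorem i_four (hi : i ^ 2 = -1) : i ^ 4 = 1 := by linear_combination (i ^ 2 - 1) * hi

theorem pow_i_four (hi : i ^ 2 = -1) (k : ℕ) : (i ^ k) ^ 4 = 1 := by
  rw [← pow_mul, mul_comm, pow_mul, i_four hi, one_pow]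

theorem exists_pow_i (hi : i ^ 2 = -1) {l : F} (hl : l ^ 4 = 1) : ∃ k : Fin 4, l = i ^ (k : ℕ) := by
  have h : (l - 1) * (l + 1) * (l - i) * (l + i) = 0 := by
    linear_combination hl - (l ^ 2 - 1) * hi
  rcases mul_eq_zero.1 h with h | h
  · rcases mul_eq_zero.1 h with h | h
    · rcases mul_eq_zero.1 h with h | h
      · exact ⟨0, by rw [sub_eq_zero.1 h]; simp⟩
      · exact ⟨2, by rw [eq_neg_of_add_eq_zero_left h]; exact hi.symm⟩
    · exact ⟨1, by rw [sub_eq_zero.1 h]; simp⟩
  · refine ⟨3, ?_⟩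
    rw [eq_neg_of_add_eq_zero_left h]
    change -i = i ^ 3
    linear_combination (-i) * hi

theorem card_RR (h2 : (2 : F) ≠ 0) (hi : i ^ 2 = -1) : Nat.card (RR F) = 64 := by
  have h : Function.Bijective (fun p : Fin 4 × Fin 4 × Fin 4 =>
      (el p.1 (i ^ (p.2.1 : ℕ)) (pow_i_four hi _) p.2.2 : RR F)) := by
    constructor
    · rintro ⟨a, k, b⟩ ⟨a', k', b'⟩ h
      have h1 : mono (x4 a) (ch (i ^ (k : ℕ)) b) = mono (x4 a') (ch (i ^ (k' : ℕ)) b') :=
        congrArg (fun x : RR F => ((x : GL (Fin 4) F) : Matrix (Fin 4) (Fin 4) F)) h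
      have hi0 : i ≠ 0 := by
        rintro rfl
        rw [zero_pow two_ne_zero] at hi
        exact one_ne_zero (neg_eq_zero.1 hi.symm)
      obtain ⟨h2', h3⟩ := mono_inj (fun j => ch_ne (pow_ne_zero _ hi0) b j) h1
      obtain ⟨h4, h5⟩ := ch_inj h2 (pow_ne_zero _ hi0) h3
      have h6 : k = k' := by
        apply Fin.ext
        apply pow_injOn_Iio_orderOf (x := i) _ _ h4
        · rw [orderOf_i h2 hi]; exact k.2
        · rw [orderOf_i h2 hi]; exact k'.2
      rw [x4_inj _ _ h2', h6, h5]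
    · intro x
      obtain ⟨a, l, hl, b, rfl⟩ := exists_el x
      obtain ⟨k, rfl⟩ := exists_pow_i hi hl
      exact ⟨(a, k, b), rfl⟩
  rw [← Nat.card_eq_of_bijective _ h]
  simp

/-- Commutation in `RR`. -/
theorem el_mul_coe (a b a' b' : Fin 4) (l l' : F) (hl : l ^ 4 = 1) (hl' : l' ^ 4 = 1) :
    (((el a l hl b * el a' l' hl' b' : RR F) : GL (Fin 4) F) : Matrix (Fin 4) (Fin 4) F) =
      mono (x4 (x4 a a')) (ch (l * l' * (h4 b a' : F)) (x4 b b')) := by
  rw [Subgroup.coe_mul, Units.val_mul, el_coe, el_coe, mono_mul, x4_mul']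
  congr 1
  funext j
  unfold ch
  rw [h4_add b a' j, h4_add' b b' j]
  push_cast
  ring

theorem comm_iff (h2 : (2 : F) ≠ 0) {a b a' b' : Fin 4} {l l' : F} (hl : l ^ 4 = 1)
    (hl' : l' ^ 4 = 1) (h : el a l hl b * el a' l' hl' b' = el a' l' hl' b' * el a l hl b) :
    h4 b a' = h4 b' a := by
  have h1 := congrArg (fun x : RR F => ((x : GL (Fin 4) F) : Matrix (Fin 4) (Fin 4) F)) h
  simp only [el_mul_coe] at h1
  have hl0 : l ≠ 0 := by rintro rfl; simp at hl
  have hl0' : l' ≠ 0 := by rintro rfl; simp at hl'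
  have hne : ∀ b a : Fin 4, (h4 b a : F) ≠ 0 := by
    intro b a h0
    have := h4_sqF (F := F) b a
    rw [h0, zero_mul] at this
    exact zero_ne_one this
  obtain ⟨-, h3⟩ := mono_inj (fun j => ch_ne (mul_ne_zero (mul_ne_zero hl0 hl0') (hne _ _)) _ j) h1
  obtain ⟨h4', -⟩ := ch_inj h2 (mul_ne_zero (mul_ne_zero hl0 hl0') (hne _ _)) h3
  have h5 : (h4 b a' : F) = h4 b' a := by
    apply mul_left_cancel₀ (mul_ne_zero hl0 hl0')
    rw [h4']; ring
  have key : ∀ b a' b' a : Fin 4, h4 b a' = h4 b' a ∨ h4 b a' - h4 b' a = 2 ∨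
      h4 b a' - h4 b' a = -2 := by decide
  rcases key b a' b' a with h | h | h
  · exact h
  · exfalso
    have h' : ((h4 b a' - h4 b' a : ℤ) : F) = 2 := by rw [h]; norm_num
    rw [Int.cast_sub, h5, sub_self] at h'
    exact h2 h'.symm
  · exfalso
    have h' : ((h4 b a' - h4 b' a : ℤ) : F) = -2 := by rw [h]; norm_num
    rw [Int.cast_sub, h5, sub_self] at h'
    exact h2 (neg_eq_zero.1 h'.symm)

theorem el_central {l : F} (hl : l ^ 4 = 1) : el 0 l hl 0 ∈ Subgroup.center (RR F) := by
  rw [Subgroup.mem_center_iff]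
  intro y
  obtain ⟨a, m, hm, b, rfl⟩ := exists_el y
  apply Subtype.ext
  apply Units.ext
  rw [el_mul_coe, el_mul_coe]
  have e1 : ∀ a : Fin 4, x4 a 0 = x4 0 a := by decide
  have e2 : ∀ a : Fin 4, h4 a 0 = 1 := by decide
  have e3 : ∀ a : Fin 4, h4 0 a = 1 := by decide
  rw [e1, e1, e2, e3, mul_comm m l]

theorem center_eq (h2 : (2 : F) ≠ 0) {x : RR F} (hx : x ∈ Subgroup.center (RR F)) :
    ∃ (l : F) (hl : l ^ 4 = 1), x = el 0 l hl 0 := by
  obtain ⟨a, l, hl, b, rfl⟩ := exists_el x
  rw [Subgroup.mem_center_iff] at hx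
  have h1 : ∀ a' b' : Fin 4, h4 b a' = h4 b' a := fun a' b' =>
    comm_iff h2 hl (one_pow 4) (hx (el a' 1 (one_pow 4) b')).symm
  have key : ∀ a b : Fin 4, (∀ a' b' : Fin 4, h4 b a' = h4 b' a) → a = 0 ∧ b = 0 := by decide
  obtain ⟨ha, hb⟩ := key a b h1
  subst ha; subst hb
  exact ⟨l, hl, rfl⟩

theorem card_center (h2 : (2 : F) ≠ 0) (hi : i ^ 2 = -1) : Nat.card (Subgroup.center (RR F)) = 4 := by
  have h : Function.Bijective (fun k : Fin 4 =>
      (⟨el 0 (i ^ (k : ℕ)) (pow_i_four hi _) 0, el_central _⟩ : Subgroup.center (RR F))) := by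
    constructor
    · intro k k' h
      have h1 : mono (x4 0) (ch (i ^ (k : ℕ)) 0) = mono (x4 0) (ch (i ^ (k' : ℕ)) 0) :=
        congrArg (fun x : Subgroup.center (RR F) =>
          (((x : RR F) : GL (Fin 4) F) : Matrix (Fin 4) (Fin 4) F)) h
      have hi0 : i ≠ 0 := by
        rintro rfl
        rw [zero_pow two_ne_zero] at hi
        exact one_ne_zero (neg_eq_zero.1 hi.symm)
      obtain ⟨-, h3⟩ := mono_inj (fun j => ch_ne (pow_ne_zero _ hi0) 0 j) h1
      obtain ⟨h4, -⟩ := ch_inj h2 (pow_ne_zero _ hi0) h3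
      apply Fin.ext
      apply pow_injOn_Iio_orderOf (x := i) _ _ h4
      · rw [orderOf_i h2 hi]; exact k.2
      · rw [orderOf_i h2 hi]; exact k'.2
    · rintro ⟨x, hx⟩
      obtain ⟨l, hl, rfl⟩ := center_eq h2 hx
      obtain ⟨k, rfl⟩ := exists_pow_i hi hl
      exact ⟨k, rfl⟩
  rw [← Nat.card_eq_of_bijective _ h]
  simp

theorem isCyclic_center (hi : i ^ 2 = -1) (h2 : (2 : F) ≠ 0) :
    IsCyclic (Subgroup.center (RR F)) := by
  refine ⟨⟨⟨el 0 i (i_four hi) 0, el_central _⟩, ?_⟩⟩
  rintro ⟨x, hx⟩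
  obtain ⟨l, hl, rfl⟩ := center_eq h2 hx
  obtain ⟨k, rfl⟩ := exists_pow_i hi hl
  refine ⟨(k : ℕ), ?_⟩
  have : ∀ k : ℕ, (⟨el 0 i (i_four hi) 0, el_central _⟩ : Subgroup.center (RR F)) ^ k =
      ⟨el 0 (i ^ k) (pow_i_four hi k) 0, el_central _⟩ := by
    intro k
    induction k with
    | zero =>
      apply Subtype.ext
      apply Subtype.ext
      apply Units.ext
      rw [pow_zero]
      simp only [pow_zero]
      rw [el_coe]
      change (1 : Matrix (Fin 4) (Fin 4) F) = _
      rw [← mono_one]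
      congr 1
      funext j
      unfold ch
      have : ∀ j : Fin 4, h4 0 j = 1 := by decide
      rw [this, Int.cast_one, mul_one]
    | succ k ih =>
      rw [pow_succ, ih]
      apply Subtype.ext
      apply Subtype.ext
      apply Units.ext
      change (((el 0 (i ^ k) (pow_i_four hi k) 0 * el 0 i (i_four hi) 0 : RR F) : GL (Fin 4) F) :
        Matrix (Fin 4) (Fin 4) F) = _
      rw [el_mul_coe, el_coe]
      have e1 : x4 (x4 0 0) = x4 0 := by decide
      have e2 : x4 0 0 = (0 : Fin 4) := by decide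
      have e3 : h4 0 0 = 1 := by decide
      rw [e1, e2, e3, Int.cast_one, mul_one, pow_succ]
  change (⟨el 0 i (i_four hi) 0, el_central _⟩ : Subgroup.center (RR F)) ^ ((k : ℕ) : ℤ) = _
  rw [zpow_natCast]
  exact this k

theorem exponent_RR (h2 : (2 : F) ≠ 0) (hi : i ^ 2 = -1) : Monoid.exponent (RR F) = 4 := by
  apply Nat.dvd_antisymm
  · rw [Monoid.exponent_dvd_iff_forall_pow_eq_one]
    rintro ⟨g, a, c, hg, hc⟩
    apply Subtype.ext
    simpa using pow_four hc hg
  · have h := Monoid.order_dvd_exponent (el 0 i (i_four hi) 0)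
    have : orderOf (el 0 i (i_four hi) 0) = 2 ^ (1 + 1) := by
      haveI : Fact (Nat.Prime 2) := ⟨Nat.prime_two⟩
      apply orderOf_eq_prime_pow
      · intro h
        rw [pow_one, pow_two] at h
        have h' := congrArg (fun x : RR F => ((x : GL (Fin 4) F) : Matrix (Fin 4) (Fin 4) F)) h
        simp only [el_mul_coe] at h'
        have e2 : x4 0 0 = (0 : Fin 4) := by decide
        have e3 : h4 0 0 = 1 := by decide
        rw [e2, e3] at h'
        have h'' := congrFun (congrFun h' 0) 0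
        rw [mono_pos _ _ (by decide)] at h''
        unfold ch at h''
        rw [e3] at h''
        simp only [Int.cast_one, mul_one, OneMemClass.coe_one, Units.val_one,
          Matrix.one_apply_eq] at h''
        apply h2
        linear_combination -h'' + hi
      · change el 0 i (i_four hi) 0 ^ 4 = 1
        apply Subtype.ext
        simpa using pow_four (Q_ch (i_four hi) 0) (el_coe 0 i (i_four hi) 0)
    rw [this] at h
    exact h

/-! ### Two automorphisms -/

theorem char_conj {G : Type*} [Group G] {R : Subgroup G} {A : Subgroup R} (hA : A.Characteristic)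
    {g : G} (hg : g ∈ Subgroup.normalizer (R : Set G)) {x y : R} (hx : x ∈ A)
    (hy : (y : G) = g * x * g⁻¹) : y ∈ A := by
  have h := hA.fixed (Subgroup.normalizerMonoidHom R ⟨g, hg⟩)
  rw [← h] at hx
  have : (Subgroup.normalizerMonoidHom R ⟨g, hg⟩) x = y := by
    apply Subtype.ext
    rw [hy]
    rfl
  rw [← this]
  exact hx

theorem mem_normalizer_of {G : Type*} [Group G] {R : Subgroup G} {g : G}
    (h1 : ∀ x ∈ R, g * x * g⁻¹ ∈ R) (h2 : ∀ x ∈ R, g⁻¹ * x * g ∈ R) :
    g ∈ Subgroup.normalizer (R : Set G) := by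
  rw [Subgroup.mem_normalizer_iff]
  intro x
  refine ⟨h1 x, fun h => ?_⟩
  have := h2 _ h
  simpa [mul_assoc] using this

theorem exists_diag (hi : i ^ 2 = -1) {a : Fin 4} (ha : a ≠ 0) :
    ∃ g : GL (Fin 4) F, g ∈ Subgroup.normalizer (RR F : Set (GL (Fin 4) F)) ∧ ∃ b' : Fin 4, h4 b' a = -1 ∧
      ∀ (l : F) (hl : l ^ 4 = 1) (b : Fin 4),
        g * (el a l hl b : RR F) * g⁻¹ =
          (el a (l * i) (by rw [mul_pow, hl, i_four hi, one_mul]) (x4 b' b) : RR F) := by
  have hi0 : i ≠ 0 := by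
    rintro rfl
    rw [zero_pow two_ne_zero] at hi
    exact one_ne_zero (neg_eq_zero.1 hi.symm)
  -- general construction
  have gen : ∀ (d : Fin 4 → F) (b' : Fin 4), (∀ j, d j ^ 4 = 1) → (∏ j, d j) ^ 2 = 1 →
      (∀ j, d (x4 a j) = i * (h4 b' j : F) * d j) → h4 b' a = -1 →
      ∃ g : GL (Fin 4) F, g ∈ Subgroup.normalizer (RR F : Set (GL (Fin 4) F)) ∧
        ∃ b' : Fin 4, h4 b' a = -1 ∧ ∀ (l : F) (hl : l ^ 4 = 1) (b : Fin 4),
        g * (el a l hl b : RR F) * g⁻¹ =
          (el a (l * i) (by rw [mul_pow, hl, i_four hi, one_mul]) (x4 b' b) : RR F) := by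
    intro d b' hd hp he hb'
    have hd0 : ∀ j, d j ≠ 0 := by
      intro j h0
      have := hd j
      rw [h0] at this
      simp at this
    set g := mk 1 d hd0 with hg
    have hgi : ((g⁻¹ : GL (Fin 4) F) : Matrix (Fin 4) (Fin 4) F) = mono 1 (fun j => (d j)⁻¹) := by
      have := mono_inv (g := g) (σ := 1) (c := d) rfl
      simpa using this
    refine ⟨g, mem_normalizer_of (fun x hx => conj_mem_RR (g := g) (σ := 1) (d := d) rfl hd hp hx)
      (fun x hx => ?_), b', hb', fun l hl b => ?_⟩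
    · have := conj_mem_RR (g := g⁻¹) (σ := 1) (d := fun j => (d j)⁻¹) hgi
        (fun j => by rw [inv_pow, hd, inv_one]) (by rw [Finset.prod_inv_distrib, inv_pow, hp, inv_one]) hx
      simpa using this
    · apply Units.ext
      rw [Units.val_mul, Units.val_mul, hgi, el_coe, el_coe, hg, mk_coe, mono_mul, mono_mul, one_mul,
        mul_one]
      congr 1
      funext j
      change d (x4 a j) * ch l b j * (d j)⁻¹ = _
      rw [he]
      unfold ch
      rw [h4_add']
      have := hd0 j
      push_cast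
      field_simp
  have hh : ∀ a : Fin 4, a ≠ 0 → a = 1 ∨ a = 2 ∨ a = 3 := by decide
  rcases hh a ha with rfl | rfl | rfl
  · refine gen ![1, i, 1, i] 1 ?_ ?_ ?_ (by decide)
    · intro j; fin_cases j <;> simp [i_four hi]
    · rw [Fin.prod_univ_four]; change (1 * i * 1 * i) ^ 2 = 1; linear_combination (i ^ 2 - 1) * hi
    · intro j
      fin_cases j
      · change i = i * ((h4 1 0 : ℤ) : F) * 1; rw [h4_10]; push_cast; ring
      · change 1 = i * ((h4 1 1 : ℤ) : F) * i; rw [h4_11]; push_cast; linear_combination hi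
      · change i = i * ((h4 1 2 : ℤ) : F) * 1; rw [h4_12]; push_cast; ring
      · change 1 = i * ((h4 1 3 : ℤ) : F) * i; rw [h4_13]; push_cast; linear_combination hi
  · refine gen ![1, 1, i, i] 2 ?_ ?_ ?_ (by decide)
    · intro j; fin_cases j <;> simp [i_four hi]
    · rw [Fin.prod_univ_four]; change (1 * 1 * i * i) ^ 2 = 1; linear_combination (i ^ 2 - 1) * hi
    · intro j
      fin_cases j
      · change i = i * ((h4 2 0 : ℤ) : F) * 1; rw [h4_20]; push_cast; ring
      · change i = i * ((h4 2 1 : ℤ) : F) * 1; rw [h4_21]; push_cast; ring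
      · change 1 = i * ((h4 2 2 : ℤ) : F) * i; rw [h4_22]; push_cast; linear_combination hi
      · change 1 = i * ((h4 2 3 : ℤ) : F) * i; rw [h4_23]; push_cast; linear_combination hi
  · refine gen ![1, 1, i, i] 2 ?_ ?_ ?_ (by decide)
    · intro j; fin_cases j <;> simp [i_four hi]
    · rw [Fin.prod_univ_four]; change (1 * 1 * i * i) ^ 2 = 1; linear_combination (i ^ 2 - 1) * hi
    · intro j
      fin_cases j
      · change i = i * ((h4 2 0 : ℤ) : F) * 1; rw [h4_20]; push_cast; ring
      · change i = i * ((h4 2 1 : ℤ) : F) * 1; rw [h4_21]; push_cast; ring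
      · change 1 = i * ((h4 2 2 : ℤ) : F) * i; rw [h4_22]; push_cast; linear_combination hi
      · change 1 = i * ((h4 2 3 : ℤ) : F) * i; rw [h4_23]; push_cast; linear_combination hi

/-- The Hadamard matrix. -/
noncomputable def had (h2 : (2 : F) ≠ 0) : GL (Fin 4) F where
  val := Matrix.of fun i j => (h4 i j : F)
  inv := Matrix.of fun i j => (h4 i j : F) / 4
  val_inv := by
    have h4' : (4 : F) ≠ 0 := by
      have : (4 : F) = 2 * 2 := by norm_num
      rw [this]; exact mul_ne_zero h2 h2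
    ext i j
    rw [Matrix.mul_apply, Fin.sum_univ_four]
    simp only [Matrix.of_apply]
    have := congrArg (fun z : ℤ => (z : F)) (h4_orth i j)
    push_cast at this
    by_cases h : i = j
    · subst h
      rw [Matrix.one_apply_eq]
      rw [if_pos rfl] at this
      field_simp
      linear_combination this
    · rw [Matrix.one_apply_ne h]
      rw [if_neg h] at this
      field_simp
      linear_combination this
  inv_val := by
    have h4' : (4 : F) ≠ 0 := by
      have : (4 : F) = 2 * 2 := by norm_num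
      rw [this]; exact mul_ne_zero h2 h2
    ext i j
    rw [Matrix.mul_apply, Fin.sum_univ_four]
    simp only [Matrix.of_apply]
    have := congrArg (fun z : ℤ => (z : F)) (h4_orth i j)
    push_cast at this
    by_cases h : i = j
    · subst h
      rw [Matrix.one_apply_eq]
      rw [if_pos rfl] at this
      field_simp
      linear_combination this
    · rw [Matrix.one_apply_ne h]
      rw [if_neg h] at this
      field_simp
      linear_combination this

theorem mul_mono_apply (M : Matrix (Fin 4) (Fin 4) F) (σ : Equiv.Perm (Fin 4)) (c : Fin 4 → F)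
    (i j : Fin 4) : (M * mono σ c) i j = M i (σ j) * c j := by
  rw [Matrix.mul_apply, Finset.sum_eq_single (σ j)]
  · rw [mono_pos σ c rfl]
  · intro b _ hb
    rw [mono_neg σ c hb, mul_zero]
  · simp

theorem mono_mul_apply (M : Matrix (Fin 4) (Fin 4) F) (σ : Equiv.Perm (Fin 4)) (c : Fin 4 → F)
    (i j : Fin 4) : (mono σ c * M) (σ i) j = c i * M i j := by
  rw [Matrix.mul_apply, Finset.sum_eq_single i]
  · rw [mono_pos σ c rfl]
  · intro b _ hb
    rw [mono_neg σ c (fun h => hb (σ.injective h).symm), zero_mul]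
  · simp

theorem had_conj (h2 : (2 : F) ≠ 0) {a b : Fin 4} {l : F} (hl : l ^ 4 = 1) :
    had h2 * (el a l hl b : RR F) * (had h2)⁻¹ =
      (el b (l * (h4 a b : F)) (by
        have := h4_sqF (F := F) a b
        linear_combination (exp := 1) (h4 a b : F) ^ 4 * hl + ((h4 a b : F) ^ 2 + 1) * this) a :
          RR F) := by
  rw [mul_inv_eq_iff_eq_mul]
  apply Units.ext
  rw [Units.val_mul, Units.val_mul, el_coe, el_coe]
  have hv : ((had h2 : GL (Fin 4) F) : Matrix (Fin 4) (Fin 4) F) =
    Matrix.of fun i j => (h4 i j : F) := rfl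
  ext i j
  obtain ⟨i, rfl⟩ := (x4 b).surjective i
  rw [mul_mono_apply, mono_mul_apply, hv, Matrix.of_apply, Matrix.of_apply]
  unfold ch
  rw [h4_add, h4_add', h4_add', h4_symm a i]
  have := h4_sqF (F := F) b a
  rw [h4_symm a b]
  have e2 := h4_sqF (F := F) b j
  push_cast
  linear_combination (exp := 1) ((h4 b a : F) * (h4 i a : F) * (h4 i j : F) * l) * e2

theorem had_mem (h2 : (2 : F) ≠ 0) : had h2 ∈ Subgroup.normalizer (RR F : Set (GL (Fin 4) F)) := by
  have h1 : ∀ x ∈ RR F, had h2 * x * (had h2)⁻¹ ∈ RR F := by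
    intro x hx
    obtain ⟨a, l, hl, b, h⟩ := exists_el ⟨x, hx⟩
    have : x = (el a l hl b : RR F) := congrArg Subtype.val h
    rw [this, had_conj]
    exact Subtype.mem _
  refine mem_normalizer_of h1 fun x hx => ?_
  -- `had² = 4`
  have hsq : ∀ y : GL (Fin 4) F, had h2 * (had h2 * y * (had h2)⁻¹) * (had h2)⁻¹ = y := by
    intro y
    have hs : had h2 * had h2 ∈ scalars (Fin 4) F := by
      rw [mem_scalars_iff]
      have h4' : (4 : F) ≠ 0 := by
        have : (4 : F) = 2 * 2 := by norm_num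
        rw [this]; exact mul_ne_zero h2 h2
      refine ⟨Units.mk0 4 h4', ?_⟩
      rw [Units.val_mul]
      ext i j
      rw [Matrix.mul_apply, Fin.sum_univ_four]
      have := congrArg (fun z : ℤ => (z : F)) (h4_orth i j)
      push_cast at this
      have hv : ((had h2 : GL (Fin 4) F) : Matrix (Fin 4) (Fin 4) F) =
    Matrix.of fun i j => (h4 i j : F) := rfl
      rw [hv]
      by_cases h : i = j
      · subst h
        rw [if_pos rfl] at this
        simpa using this
      · rw [if_neg h] at this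
        simpa [h] using this
    have hc := scalars_comm hs y
    calc had h2 * (had h2 * y * (had h2)⁻¹) * (had h2)⁻¹
        = (had h2 * had h2) * y * (had h2)⁻¹ * (had h2)⁻¹ := by simp only [mul_assoc]
      _ = y * (had h2 * had h2) * (had h2)⁻¹ * (had h2)⁻¹ := by rw [hc]
      _ = y := by simp [mul_assoc]
  have e : (had h2)⁻¹ * x * had h2 = had h2 * x * (had h2)⁻¹ := by
    have := hsq ((had h2)⁻¹ * x * had h2)
    rw [← this]
    simp only [mul_assoc, mul_inv_cancel_left, mul_inv_cancel, mul_one]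
  rw [e]
  exact h1 x hx

theorem char_le_center (h2 : (2 : F) ≠ 0) (hi : i ^ 2 = -1) {A : Subgroup (RR F)}
    (hA : A.Characteristic) (hc : ∀ x ∈ A, ∀ y ∈ A, x * y = y * x) :
    A ≤ Subgroup.center (RR F) := by
  -- elements of `A` are diagonal
  have h0 : ∀ (a : Fin 4) (l : F) (hl : l ^ 4 = 1) (b : Fin 4), el a l hl b ∈ A → a = 0 := by
    intro a l hl b hx
    by_contra ha
    obtain ⟨g, hg, b', hb', h⟩ := exists_diag hi ha
    have hy := char_conj hA hg hx (h l hl b).symm
    have h1 := comm_iff h2 _ _ (hc _ hx _ hy)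
    rw [h4_add', hb'] at h1
    have := h4_sq b a
    nlinarith
  intro x hx
  obtain ⟨a, l, hl, b, rfl⟩ := exists_el x
  have ha := h0 a l hl b hx
  subst ha
  have hy := char_conj hA (had_mem h2) hx (had_conj h2 hl).symm
  have hb := h0 _ _ _ _ hy
  subst hb
  exact el_central hl

theorem isSymplecticType (h2 : (2 : F) ≠ 0) (hi : i ^ 2 = -1) : IsSymplecticTypeGroup 2 (RR F) where
  prime := Nat.prime_two
  pGroup := isPGroup_RR
  cyclic_of_characteristic := by
    intro A hA hc
    have h1 := char_le_center h2 hi hA (fun x hx y hy => by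
      have := hc.is_comm.comm ⟨x, hx⟩ ⟨y, hy⟩
      exact congrArg Subtype.val this)
    haveI := isCyclic_center hi h2
    exact isCyclic_of_injective (Subgroup.inclusion h1) (Subgroup.inclusion_injective h1)
  exponent_eq := by
    rw [exponent_RR h2 hi]; rfl

/-- `RR` acts absolutely irreducibly. -/
theorem absIrred (h2 : (2 : F) ≠ 0) : ActsAbsolutelyIrreducibly (matrixSet (RR F)) := by
  have h4' : (4 : F) ≠ 0 := by
    have : (4 : F) = 2 * 2 := by norm_num
    rw [this]; exact mul_ne_zero h2 h2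
  have hm : ∀ a b : Fin 4, mono (x4 a) (ch (1 : F) b) ∈ matrixSet (RR F) := fun a b =>
    ⟨_, (el a 1 (one_pow 4) b).2, rfl⟩
  constructor
  · intro W hW
    by_contra hne
    push Not at hne
    obtain ⟨h0, h1⟩ := hne
    obtain ⟨w, hw, hw0⟩ := Submodule.exists_mem_ne_zero_of_ne_bot h0
    obtain ⟨k, hk⟩ : ∃ k, w k ≠ 0 := by
      by_contra hc
      push Not at hc
      exact hw0 (funext hc)
    -- the coordinate vector `e_k`
    have hd : ∀ b : Fin 4, (fun j => (h4 b j : F) * w j) ∈ W := by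
      intro b
      have : (Matrix.toLin' (mono (x4 0) (ch (1 : F) b))) w ∈ W :=
        hW _ (hm 0 b) ⟨w, hw, rfl⟩
      have e : (Matrix.toLin' (mono (x4 0) (ch (1 : F) b))) w = fun j => (h4 b j : F) * w j := by
        rw [Matrix.toLin'_apply]
        ext j
        rw [Matrix.mulVec, dotProduct, Finset.sum_eq_single j]
        · rw [mono_pos (x4 0) (ch (1 : F) b) (show j = x4 0 j from rfl)]; unfold ch; rw [one_mul]
        · intro b' _ hb'
          rw [mono_neg (x4 0) (ch (1 : F) b) (show j ≠ x4 0 b' from (Ne.symm hb')), zero_mul]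
        · simp
      rw [e] at this
      exact this
    have hek : (Pi.single k (1 : F) : Fin 4 → F) ∈ W := by
      have hs : ((4 * w k)⁻¹ : F) • ((h4 k 0 : F) • (fun j => (h4 0 j : F) * w j) +
          (h4 k 1 : F) • (fun j => (h4 1 j : F) * w j) + (h4 k 2 : F) • (fun j => (h4 2 j : F) * w j) +
          (h4 k 3 : F) • (fun j => (h4 3 j : F) * w j)) ∈ W := by
        apply W.smul_mem
        exact W.add_mem (W.add_mem (W.add_mem (W.smul_mem _ (hd 0)) (W.smul_mem _ (hd 1)))
          (W.smul_mem _ (hd 2))) (W.smul_mem _ (hd 3))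
      convert hs using 1
      ext j
      have := congrArg (fun z : ℤ => (z : F)) (h4_orth k j)
      push_cast at this
      simp only [Pi.smul_apply, Pi.add_apply, smul_eq_mul]
      by_cases h : j = k
      · subst h
        rw [if_pos rfl] at this
        rw [Pi.single_eq_same]
        field_simp
        linear_combination (-1) * this
      · rw [if_neg (Ne.symm h)] at this
        rw [Pi.single_eq_of_ne h]
        field_simp
        linear_combination (-(w j)) * this
    apply h1
    rw [eq_top_iff]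
    intro v _
    have hej : ∀ j, (Pi.single j (1 : F) : Fin 4 → F) ∈ W := by
      intro j
      obtain ⟨a, ha⟩ : ∃ a : Fin 4, x4 a k = j := x4_trans k j
      have := hW _ (hm a 0) ⟨_, hek, rfl⟩
      rw [Matrix.toLin'_apply, mono_mulVec_single, ha] at this
      have e : ch (1 : F) 0 k = 1 := by
        unfold ch
        have : ∀ k : Fin 4, h4 0 k = 1 := by decide
        rw [this, Int.cast_one, mul_one]
      rwa [e] at this
    have : v = ∑ j, v j • (Pi.single j (1 : F) : Fin 4 → F) := by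
      ext i
      simp [Finset.sum_apply, Pi.single_apply]
    rw [this]
    exact W.sum_mem fun j _ => W.smul_mem _ (hej j)
  · intro M hM
    refine ⟨M 0 0, ?_⟩
    -- off-diagonal entries vanish
    have hoff : ∀ i j, i ≠ j → M i j = 0 := by
      intro i j hij
      obtain ⟨b, hb⟩ : ∃ b : Fin 4, h4 b i = - h4 b j := h4_sep i j hij
      have := congrFun (congrFun (hM _ (hm 0 b)) i) j
      rw [mul_mono_apply] at this
      have e := mono_mul_apply M (x4 0) (ch (1 : F) b) i j
      have e' : (mono (x4 0) (ch (1 : F) b) * M) i j = ch (1 : F) b i * M i j := e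
      rw [e'] at this
      change M i j * ch (1 : F) b j = _ at this
      unfold ch at this
      rw [hb] at this
      push_cast at this
      have hs := h4_sqF (F := F) b j
      apply mul_left_cancel₀ h2
      linear_combination (h4 b j : F) * this - 2 * M i j * hs
    have hdiag : ∀ a, M (x4 a 0) (x4 a 0) = M 0 0 := by
      intro a
      have := congrFun (congrFun (hM _ (hm a 0)) (x4 a 0)) 0
      rw [mul_mono_apply, mono_mul_apply] at this
      have e : ch (1 : F) 0 0 = 1 := by
        unfold ch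
        have : h4 0 0 = 1 := by decide
        rw [this, Int.cast_one, mul_one]
      rw [e, mul_one, one_mul] at this
      exact this
    ext i j
    by_cases h : i = j
    · subst h
      obtain ⟨a, ha⟩ : ∃ a : Fin 4, x4 a 0 = i := ⟨i, x4_zero i⟩
      rw [← ha, hdiag]
      simp
    · rw [hoff i j h]
      simp [h]

end group

end Cfsg.Agent.H908.Pauli
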