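import Cfsg.Agent.H908.Planes
import Cfsg.Agent.H908.PauliTwo
import Cfsg.Agent.H908.Conj

/-!
# Frames of lines in dimension four, `|F| = 5`: the stabiliser in `SL_4` normalises `4 ∘ 2^(1+4)`
-/

set_option autoImplicit false
set_option linter.style.haveILetI false

namespace Cfsg.Agent.H908

open Cfsg.Geo Matrix

variable {F : Type*} [Field F]

/-- Coordinates for a frame of lines: members of the stabiliser become monomial. -/
theorem exists_frame_one {n : ℕ} {D : Fin n → Submodule F (Fin n → F)} (hD : IsMDecomposition 1 D) :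
    ∃ P : GL (Fin n) F, ∀ g ∈ decompositionStabilizer D, ∃ (σ : Equiv.Perm (Fin n)) (c : Fin n → F),
      ((P⁻¹ * g * P : GL (Fin n) F) : Matrix (Fin n) (Fin n) F) = Pauli.mono σ c := by
  obtain ⟨P, hP⟩ := exists_frame hD (Equiv.prodUnique (Fin n) (Fin 1))
  refine ⟨P, fun g hg => ?_⟩
  obtain ⟨σ, hσ⟩ := hg
  refine ⟨σ, fun j => ((P⁻¹ * g * P : GL (Fin n) F) : Matrix (Fin n) (Fin n) F) (σ j) j, ?_⟩
  ext k l
  by_cases h : k = σ l
  · rw [Pauli.mono_pos _ _ h, h]
  · rw [Pauli.mono_neg _ _ h]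
    exact block_of_mem hP hσ k l h

/-- The data of class 6 for `4 ∘ 2^(1+4)` in `GL_4(5)`. -/
theorem typeData_five [Fintype F] (hF : Fintype.card F = 5) (P : GL (Fin 4) F) :
    IsLinearSymplecticTypeData 2 (cj P (Pauli.RR F)) := by
  have hp5 : Nat.Prime 5 := by norm_num
  haveI : Fact (Nat.Prime 5) := ⟨hp5⟩
  have hchar : CharP F 5 := by
    have h1 : Fintype.card F = 5 ^ 1 := by rw [hF]; norm_num
    exact charP_of_card_eq_prime_pow h1
  have h2 : (2 : F) ≠ 0 := by
    intro h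
    have : ((2 : ℕ) : F) = 0 := by exact_mod_cast h
    rw [CharP.cast_eq_zero_iff F 5] at this
    norm_num at this
  obtain ⟨i, hi⟩ : ∃ i : F, i ^ 2 = -1 := by
    have h := (FiniteField.isSquare_neg_one_iff (F := F)).2 (by rw [hF]; norm_num)
    obtain ⟨i, hi⟩ := h
    exact ⟨i, by rw [hi, pow_two]⟩
  refine ⟨symplecticType_cj (Pauli.isSymplecticType h2 hi) P, absIrred_cj (Pauli.absIrred h2) P,
    5, 1, by norm_num, ⟨hp5, hchar, by rw [hF]; norm_num, ?_, fun d h1 h2 => by omega⟩,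
    Or.inr (Or.inl ⟨rfl, rfl, ?_, by simp, 2, ?_⟩)⟩
  · rw [card_center_cj, Pauli.card_center h2 hi]; norm_num
  · rw [card_center_cj, Pauli.card_center h2 hi]
  · rw [card_cj, Pauli.card_RR h2 hi]; norm_num

theorem frame_five [Fintype F] (hF : Fintype.card F = 5) {D : Fin 4 → Submodule F (Fin 4 → F)}
    (hD : IsMDecomposition 1 D) :
    ∃ R : Subgroup (GL (Fin 4) F), IsLinearSymplecticTypeData 2 R ∧
      decompositionStabilizer D ⊓ specialLinear (Fin 4) F ≤ subgroupNormalizer R := by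
  obtain ⟨P, hP⟩ := exists_frame_one hD
  refine ⟨_, typeData_five hF P, ?_⟩
  rintro g ⟨hg, hgs⟩
  apply normalizer_cj
  have hmono : ∀ g : GL (Fin 4) F, g ∈ decompositionStabilizer D → g ∈ specialLinear (Fin 4) F →
      ∀ x ∈ Pauli.RR F, (P⁻¹ * g * P) * x * (P⁻¹ * g * P)⁻¹ ∈ Pauli.RR F := by
    intro g hg hgs x hx
    obtain ⟨σ, c, hc⟩ := hP g hg
    have hc0 := Pauli.mono_ne_zero hc
    refine Pauli.conj_mem_RR hc (fun j => ?_) ?_ hx
    · have := FiniteField.pow_card_sub_one_eq_one (c j) (hc0 j)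
      rw [hF] at this
      exact this
    · have hdet : ((P⁻¹ * g * P : GL (Fin 4) F) : Matrix (Fin 4) (Fin 4) F).det = 1 := by
        rw [Units.val_mul, Units.val_mul, Matrix.det_mul, Matrix.det_mul, (mem_sl_iff g).1 hgs, mul_one,
          ← Matrix.det_mul, ← Units.val_mul, inv_mul_cancel, Units.val_one, Matrix.det_one]
      rw [hc, Pauli.det_mono] at hdet
      rcases Int.units_eq_one_or (Equiv.Perm.sign σ) with h | h
      · rw [h] at hdet
        have : (∏ j, c j) = 1 := by simpa using hdet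
        rw [this, one_pow]
      · rw [h] at hdet
        have : (∏ j, c j) = -1 := by
          have : -(∏ j, c j) = 1 := by simpa using hdet
          rw [← this, neg_neg]
        rw [this]; ring
  apply Pauli.mem_normalizer_of (hmono g hg hgs)
  intro x hx
  have h1 := hmono g⁻¹ (inv_mem hg) (inv_mem hgs) x hx
  have e : P⁻¹ * g⁻¹ * P * x * (P⁻¹ * g⁻¹ * P)⁻¹ = (P⁻¹ * g * P)⁻¹ * x * (P⁻¹ * g * P) := by
    simp only [_root_.mul_inv_rev, inv_inv, mul_assoc]
  rwa [e] at h1

end Cfsg.Agent.H908
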