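import Cfsg.Agent.LieClassical.KleinPlus

/-!
# The action of `4 × 4` matrices on skew matrices: trace, reflections, transvections
-/

set_option autoImplicit false
set_option linter.unusedSectionVars false

namespace Cfsg.Agent.H908.KL

open Matrix Cfsg.Agent.LieClassical.KleinSix

variable {F : Type*} [Field F]

/-- the polar form of the Pfaffian -/
def bil (u v : Fin 3 ⊕ Fin 3 → F) : F :=
  u (.inl 0) * v (.inr 0) + u (.inr 0) * v (.inl 0) + u (.inl 1) * v (.inr 1)
    + u (.inr 1) * v (.inl 1) + u (.inl 2) * v (.inr 2) + u (.inr 2) * v (.inl 2)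

theorem bil_eq (u v : Fin 3 ⊕ Fin 3 → F) : bil u v = pf (u + v) - pf u - pf v := by
  simp only [bil, pf, Pi.add_apply]; ring

theorem bil_comm (u v : Fin 3 ⊕ Fin 3 → F) : bil u v = bil v u := by
  simp only [bil]; ring

theorem bil_self (u : Fin 3 ⊕ Fin 3 → F) : bil u u = 2 * pf u := by
  simp only [bil, pf]; ring

theorem bil_add_left (u v w : Fin 3 ⊕ Fin 3 → F) : bil (u + v) w = bil u w + bil v w := by
  simp only [bil, Pi.add_apply]; ring

theorem bil_add_right (u v w : Fin 3 ⊕ Fin 3 → F) : bil u (v + w) = bil u v + bil u w := by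
  simp only [bil, Pi.add_apply]; ring

theorem bil_sub_left (u v w : Fin 3 ⊕ Fin 3 → F) : bil (u - v) w = bil u w - bil v w := by
  simp only [bil, Pi.sub_apply]; ring

theorem bil_sub_right (u v w : Fin 3 ⊕ Fin 3 → F) : bil u (v - w) = bil u v - bil u w := by
  simp only [bil, Pi.sub_apply]; ring

theorem bil_smul_left (c : F) (u v : Fin 3 ⊕ Fin 3 → F) : bil (c • u) v = c * bil u v := by
  simp only [bil, Pi.smul_apply, smul_eq_mul]; ring

theorem bil_smul_right (c : F) (u v : Fin 3 ⊕ Fin 3 → F) : bil u (c • v) = c * bil u v := by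
  simp only [bil, Pi.smul_apply, smul_eq_mul]; ring

theorem bil_zero_right (u : Fin 3 ⊕ Fin 3 → F) : bil u 0 = 0 := by
  simp only [bil, Pi.zero_apply]; ring

theorem bil_zero_left (u : Fin 3 ⊕ Fin 3 → F) : bil 0 u = 0 := by
  simp only [bil, Pi.zero_apply]; ring

theorem bil_sum_left {ι : Type*} (s : Finset ι) (f : ι → Fin 3 ⊕ Fin 3 → F) (w : Fin 3 ⊕ Fin 3 → F) :
    bil (∑ i ∈ s, f i) w = ∑ i ∈ s, bil (f i) w := by
  classical
  induction s using Finset.induction_on with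
  | empty => simp [bil_zero_left]
  | insert a s ha ih => rw [Finset.sum_insert ha, Finset.sum_insert ha, bil_add_left, ih]

theorem bil_sum_right {ι : Type*} (s : Finset ι) (f : ι → Fin 3 ⊕ Fin 3 → F) (w : Fin 3 ⊕ Fin 3 → F) :
    bil w (∑ i ∈ s, f i) = ∑ i ∈ s, bil w (f i) := by
  rw [bil_comm, bil_sum_left]
  exact Finset.sum_congr rfl fun i _ => bil_comm _ _

theorem bil_act (g : Matrix (Fin 4) (Fin 4) F) (u v : Fin 3 ⊕ Fin 3 → F) :
    bil (act g u) (act g v) = g.det * bil u v := by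
  rw [bil_eq, ← act_add, pf_act, pf_act, pf_act, bil_eq]; ring

theorem bil_nondeg {u : Fin 3 ⊕ Fin 3 → F} (h : ∀ v, bil v u = 0) : u = 0 := by
  funext i
  have := h (Pi.single i.swap 1)
  rcases i with i | i <;> fin_cases i <;> simpa [bil, Pi.single_apply] using this

theorem act_zero (g : Matrix (Fin 4) (Fin 4) F) : act g (0 : Fin 3 ⊕ Fin 3 → F) = 0 := by
  have := act_smul g (0 : F) (0 : Fin 3 ⊕ Fin 3 → F)
  rwa [zero_smul, zero_smul] at this

theorem act_sub (g : Matrix (Fin 4) (Fin 4) F) (u v : Fin 3 ⊕ Fin 3 → F) :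
    act g (u - v) = act g u - act g v := by
  rw [sub_eq_add_neg, ← neg_one_smul F v, act_add, act_smul, neg_one_smul, ← sub_eq_add_neg]

theorem act_sum {ι : Type*} (g : Matrix (Fin 4) (Fin 4) F) (s : Finset ι) (f : ι → Fin 3 ⊕ Fin 3 → F) :
    act g (∑ i ∈ s, f i) = ∑ i ∈ s, act g (f i) := by
  classical
  induction s using Finset.induction_on with
  | empty => simp [act_zero]
  | insert a s ha ih => rw [Finset.sum_insert ha, Finset.sum_insert ha, act_add, ih]

theorem act_smul_left (c : F) (g : Matrix (Fin 4) (Fin 4) F) (v : Fin 3 ⊕ Fin 3 → F) :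
    act (c • g) v = (c * c) • act g v := by
  apply sk_injective
  rw [sk_act, sk_smul, sk_act, transpose_smul, smul_mul_assoc, smul_mul_smul_comm]

/-- the linear map on skew matrices -/
def actL (g : Matrix (Fin 4) (Fin 4) F) : Module.End F (Fin 3 ⊕ Fin 3 → F) where
  toFun := act g
  map_add' := act_add g
  map_smul' := act_smul g

@[simp] theorem actL_apply (g : Matrix (Fin 4) (Fin 4) F) (v : Fin 3 ⊕ Fin 3 → F) : actL g v = act g v := rfl

theorem actL_mul (g h : Matrix (Fin 4) (Fin 4) F) : actL (g * h) = actL g * actL h :=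
  LinearMap.ext fun v => act_mul g h v

theorem trace_actL (g : Matrix (Fin 4) (Fin 4) F) :
    2 * LinearMap.trace F _ (actL g) = g.trace ^ 2 - (g * g).trace := by
  rw [LinearMap.trace_eq_matrix_trace F (Pi.basisFun F (Fin 3 ⊕ Fin 3)), Matrix.trace]
  simp only [Fintype.sum_sum_type, Fin.sum_univ_three, Matrix.diag_apply, LinearMap.toMatrix_apply,
    Pi.basisFun_apply, Pi.basisFun_repr, actL_apply, act, unsk, Matrix.trace, Fin.sum_univ_four, Matrix.mul_apply,
    sk, Matrix.transpose_apply]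
  simp [Pi.single_apply]
  ring

/-- the scaled reflection -/
def rfl' (w z : Fin 3 ⊕ Fin 3 → F) : Fin 3 ⊕ Fin 3 → F := pf w • z - bil w z • w

theorem hodge_sub (u v : Fin 3 ⊕ Fin 3 → F) : hodge (u - v) = hodge u - hodge v := rfl

theorem sk_sub (u v : Fin 3 ⊕ Fin 3 → F) : sk (u - v) = sk u - sk v := by
  rw [sub_eq_add_neg, ← neg_one_smul F v, sk_add, sk_smul, neg_one_smul, ← sub_eq_add_neg]

theorem bil_hodge (u v : Fin 3 ⊕ Fin 3 → F) : bil (hodge u) (hodge v) = bil u v := by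
  simp only [bil, hodge, Sum.swap_inl, Sum.swap_inr]; ring

theorem polar_one (u v : Fin 3 ⊕ Fin 3 → F) :
    sk u * sk (hodge v) + sk v * sk (hodge u) = (-bil u v) • (1 : Matrix (Fin 4) (Fin 4) F) := by
  have h1 := sk_mul_hodge (u + v)
  rw [hodge_add, sk_add, sk_add, add_mul, mul_add, mul_add, sk_mul_hodge, sk_mul_hodge] at h1
  have h2 : sk u * sk (hodge v) + sk v * sk (hodge u) = (-pf (u + v)) • (1 : Matrix (Fin 4) (Fin 4) F)
      - (-pf u) • (1 : Matrix (Fin 4) (Fin 4) F) - (-pf v) • (1 : Matrix (Fin 4) (Fin 4) F) := by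
    rw [← h1]; abel
  rw [h2, bil_eq]
  module

theorem polar_two (u v : Fin 3 ⊕ Fin 3 → F) :
    sk (hodge u) * sk v + sk (hodge v) * sk u = (-bil u v) • (1 : Matrix (Fin 4) (Fin 4) F) := by
  have := polar_one (hodge u) (hodge v)
  rwa [hodge_hodge, hodge_hodge, bil_hodge] at this

theorem conj_one (u z : Fin 3 ⊕ Fin 3 → F) : sk u * sk (hodge z) * sk u = sk (rfl' u z) := by
  have h1 : sk u * sk (hodge z) = (-bil u z) • (1 : Matrix (Fin 4) (Fin 4) F) - sk z * sk (hodge u) := by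
    rw [← polar_one]; abel
  rw [h1, sub_mul, mul_assoc, hodge_mul_sk, mul_smul_comm, mul_one, smul_mul_assoc, one_mul, rfl', sk_sub, sk_smul,
    sk_smul]
  module

theorem conj_two (w z : Fin 3 ⊕ Fin 3 → F) : sk (hodge w) * sk z * sk (hodge w) = sk (hodge (rfl' w z)) := by
  have h1 : sk (hodge w) * sk z = (-bil w z) • (1 : Matrix (Fin 4) (Fin 4) F) - sk (hodge z) * sk w := by
    rw [← polar_two]; abel
  rw [h1, sub_mul, mul_assoc, sk_mul_hodge, mul_smul_comm, mul_one, smul_mul_assoc, one_mul, rfl', hodge_sub, sk_sub,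
    hodge_smul, hodge_smul, sk_smul, sk_smul]
  module

theorem act_sk_sk (u w z : Fin 3 ⊕ Fin 3 → F) : act (sk u * sk (hodge w)) z = rfl' u (rfl' w z) := by
  apply sk_injective
  rw [sk_act, transpose_mul, transpose_sk, transpose_sk, ← conj_one, ← conj_two]
  noncomm_ring

theorem det_sk_sk (u w : Fin 3 ⊕ Fin 3 → F) : (sk u * sk (hodge w)).det = (pf u * pf w) ^ 2 := by
  rw [det_mul, det_sk, det_sk, pf_hodge]; ring

/-- the product of two reflections -/
noncomputable def rr (N : F) (u w : Fin 3 ⊕ Fin 3 → F) : Matrix (Fin 4) (Fin 4) F := N⁻¹ • (sk u * sk (hodge w))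

theorem det_rr {N : F} (hN : N ≠ 0) {u w : Fin 3 ⊕ Fin 3 → F} (hu : pf u = N) (hw : pf w = N) : (rr N u w).det = 1 := by
  rw [rr, det_smul, det_sk_sk, hu, hw, Fintype.card_fin]
  field_simp

theorem act_rr {N : F} (u w z : Fin 3 ⊕ Fin 3 → F) :
    act (rr N u w) z = (N⁻¹ * N⁻¹) • rfl' u (rfl' w z) := by
  rw [rr, act_smul_left, act_sk_sk]

/-- elements like transvections -/
theorem act_sq {g : Matrix (Fin 4) (Fin 4) F} (hn : (g - 1) * (g - 1) = 0)
    (h1 : ∀ v : Fin 3 ⊕ Fin 3 → F, (g - 1) * sk v * (g - 1)ᵀ = 0) (v : Fin 3 ⊕ Fin 3 → F) :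
    act g (act g v) + v = (2 : F) • act g v := by
  obtain ⟨n, rfl⟩ : ∃ n, g = 1 + n := ⟨g - 1, by abel⟩
  rw [add_sub_cancel_left] at hn h1
  apply sk_injective
  rw [sk_add, sk_smul, sk_act, sk_act]
  have e1 : (1 + n) * sk v * (1 + n)ᵀ = sk v + n * sk v + sk v * nᵀ := by
    rw [transpose_add, transpose_one]
    have : (1 + n) * sk v * (1 + nᵀ) = sk v + n * sk v + sk v * nᵀ + n * sk v * nᵀ := by noncomm_ring
    rw [this, h1 v, add_zero]
  have hnT : nᵀ * nᵀ = 0 := by rw [← transpose_mul, hn, transpose_zero]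
  have e2 : n * (n * sk v) = 0 := by rw [← mul_assoc, hn, zero_mul]
  have e3 : n * (sk v * nᵀ) = 0 := by rw [← mul_assoc, h1]
  have e4 : sk v * nᵀ * nᵀ = 0 := by rw [mul_assoc, hnT, mul_zero]
  have e5 : n * sk v * nᵀ = 0 := h1 v
  rw [e1, transpose_add, transpose_one]
  have : (1 + n) * (sk v + n * sk v + sk v * nᵀ) * (1 + nᵀ) = sk v + n * sk v + n * sk v + sk v * nᵀ + sk v * nᵀ
      + n * (n * sk v) + n * (n * sk v) * nᵀ + n * (sk v * nᵀ) + n * (sk v * nᵀ) * nᵀ + sk v * nᵀ * nᵀ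
      + n * sk v * nᵀ + n * sk v * nᵀ := by noncomm_ring
  rw [this, e2, e3, e4, e5]
  simp only [zero_mul, add_zero]
  module

end Cfsg.Agent.H908.KL
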