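import Cfsg.Agent.H908.L3Two

/-!
# `PSL₃(2)` on the seven points: fixed points
-/

set_option autoImplicit false
set_option linter.unusedSectionVars false

namespace Cfsg.Agent.H908.L3Two

open Matrix

/-- rows -/
abbrev R (A : Type) := A × A × A

section
variable {A : Type} [Add A] [Mul A]

def row (r : R A) (m : R (R A)) : R A :=
  (r.1 * m.1.1 + r.2.1 * m.2.1.1 + r.2.2 * m.2.2.1, r.1 * m.1.2.1 + r.2.1 * m.2.1.2.1 + r.2.2 * m.2.2.2.1,
    r.1 * m.1.2.2 + r.2.1 * m.2.1.2.2 + r.2.2 * m.2.2.2.2)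

def mulR (p q : R (R A)) : R (R A) := (row p.1 q, row p.2.1 q, row p.2.2 q)

def dot (r v : R A) : A := r.1 * v.1 + r.2.1 * v.2.1 + r.2.2 * v.2.2

def app (m : R (R A)) (v : R A) : R A := (dot m.1 v, dot m.2.1 v, dot m.2.2 v)

end

def oneR : R (R (Fin 2)) := ((1, 0, 0), (0, 1, 0), (0, 0, 1))

def cnt (m : R (R (Fin 2))) : ℕ := ((Finset.univ : Finset (R (Fin 2))).filter fun v => v ≠ (0, 0, 0) ∧ app m v = v).card

theorem c2' : ∀ a b c : Fin 2 × Fin 2 × Fin 2, mulR (a, b, c) (a, b, c) = oneR → (a, b, c) ≠ oneR →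
    cnt (a, b, c) = 3 := by decide +kernel

theorem c3' : ∀ a b c : Fin 2 × Fin 2 × Fin 2, mulR (mulR (a, b, c) (a, b, c)) (a, b, c) = oneR → (a, b, c) ≠ oneR →
    cnt (a, b, c) = 1 := by decide +kernel

def chk (m n : R (R (Fin 2))) : Bool := if mulR n n = oneR then (if n = oneR then true else decide (cnt m = 1)) else true

theorem c4' : ∀ a b c : Fin 2 × Fin 2 × Fin 2, chk (a, b, c) (mulR (a, b, c) (a, b, c)) = true := by decide +kernel

theorem chk_spec {m n : R (R (Fin 2))} (h : chk m n = true) (h1 : mulR n n = oneR) (h2 : n ≠ oneR) : cnt m = 1 := by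
  unfold chk at h
  rw [if_pos h1, if_neg h2] at h
  exact of_decide_eq_true h

theorem c2 (m : R (R (Fin 2))) : mulR m m = oneR → m ≠ oneR → cnt m = 3 := c2' m.1 m.2.1 m.2.2

theorem c3 (m : R (R (Fin 2))) : mulR (mulR m m) m = oneR → m ≠ oneR → cnt m = 1 := c3' m.1 m.2.1 m.2.2

theorem c4 (m : R (R (Fin 2))) : mulR (mulR m m) (mulR m m) = oneR → mulR m m ≠ oneR → cnt m = 1 :=
  chk_spec (c4' m.1 m.2.1 m.2.2)

/-- the tuple of a matrix -/
def toR (M : Matrix (Fin 3) (Fin 3) (ZMod 2)) : R (R (ZMod 2)) :=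
  ((M 0 0, M 0 1, M 0 2), (M 1 0, M 1 1, M 1 2), (M 2 0, M 2 1, M 2 2))

theorem toR_mul (M N : Matrix (Fin 3) (Fin 3) (ZMod 2)) : toR (M * N) = mulR (toR M) (toR N) := by
  simp only [toR, mulR, row, Matrix.mul_apply, Fin.sum_univ_three]

theorem toR_inj {M N : Matrix (Fin 3) (Fin 3) (ZMod 2)} (h : toR M = toR N) : M = N := by
  simp only [toR, Prod.mk.injEq] at h
  obtain ⟨⟨h1, h2, h3⟩, ⟨h4, h5, h6⟩, h7, h8, h9⟩ := h
  ext i j
  fin_cases i <;> fin_cases j <;> assumption

theorem toR_one : toR (1 : Matrix (Fin 3) (Fin 3) (ZMod 2)) = oneR := rfl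

theorem card_fix (g : S3) : (Finset.univ.filter fun y : Pt => perm g y = y).card =
    cnt (toR (g : Matrix (Fin 3) (Fin 3) (ZMod 2))) := by
  refine Finset.card_bij (fun y _ => ((y.1 0, y.1 1, y.1 2) : R (ZMod 2))) ?_ ?_ ?_
  · intro y hy
    rw [Finset.mem_filter] at hy
    have h1 := congrArg Subtype.val hy.2
    rw [perm_apply] at h1
    apply Finset.mem_filter.2
    refine ⟨Finset.mem_univ _, ?_, ?_⟩
    · intro h2
      apply y.2
      have h3 := congrArg (fun r : R (ZMod 2) => r.1) h2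
      have h4 := congrArg (fun r : R (ZMod 2) => r.2.1) h2
      have h5 := congrArg (fun r : R (ZMod 2) => r.2.2) h2
      funext i
      fin_cases i
      · exact h3
      · exact h4
      · exact h5
    · have h2 := congrFun h1 0
      have h3 := congrFun h1 1
      have h4 := congrFun h1 2
      simp only [mulVec, dotProduct, Fin.sum_univ_three] at h2 h3 h4
      exact Prod.ext h2 (Prod.ext h3 h4)
  · intro a _ b _ hab
    have h3 := congrArg (fun r : R (ZMod 2) => r.1) hab
    have h4 := congrArg (fun r : R (ZMod 2) => r.2.1) hab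
    have h5 := congrArg (fun r : R (ZMod 2) => r.2.2) hab
    apply Subtype.ext
    funext i
    fin_cases i
    · exact h3
    · exact h4
    · exact h5
  · intro r hr
    obtain ⟨-, hr0, hr1⟩ := Finset.mem_filter.1 hr
    let w : Fin 3 → ZMod 2 := ![r.1, r.2.1, r.2.2]
    have hw : w ≠ 0 := by
      intro h
      apply hr0
      have h3 := congrFun h 0
      have h4 := congrFun h 1
      have h5 := congrFun h 2
      exact Prod.ext h3 (Prod.ext h4 h5)
    refine ⟨⟨w, hw⟩, ?_, rfl⟩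
    apply Finset.mem_filter.2
    refine ⟨Finset.mem_univ _, ?_⟩
    apply Subtype.ext
    rw [perm_apply]
    have h2 := congrArg (fun r : R (ZMod 2) => r.1) hr1
    have h3 := congrArg (fun r : R (ZMod 2) => r.2.1) hr1
    have h4 := congrArg (fun r : R (ZMod 2) => r.2.2) hr1
    funext i
    rw [mulVec, dotProduct, Fin.sum_univ_three]
    fin_cases i
    · exact h2
    · exact h3
    · exact h4

theorem mk_eq_one {g : S3} (h : QuotientGroup.mk' (Subgroup.center S3) g = 1) : g = 1 := by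
  have : g ∈ (QuotientGroup.mk' (Subgroup.center S3)).ker := h
  rwa [QuotientGroup.ker_mk', center_eq, Subgroup.mem_bot] at this

theorem c2m {M : Matrix (Fin 3) (Fin 3) (ZMod 2)} (h : M * M = 1) (h1 : M ≠ 1) : cnt (toR M) = 3 :=
  c2 (toR M) ((toR_mul M M).symm.trans (congrArg toR h)) (fun h3 => h1 (toR_inj h3))

theorem c3m {M : Matrix (Fin 3) (Fin 3) (ZMod 2)} (h : M * M * M = 1) (h1 : M ≠ 1) : cnt (toR M) = 1 :=
  c3 (toR M) (((congrArg (fun r => mulR r (toR M)) (toR_mul M M)).symm.trans (toR_mul (M * M) M).symm).trans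
    (congrArg toR h)) (fun h3 => h1 (toR_inj h3))

theorem c4m {M : Matrix (Fin 3) (Fin 3) (ZMod 2)} (h : M * M * (M * M) = 1) (h1 : M * M ≠ 1) : cnt (toR M) = 1 :=
  c4 (toR M) (((congrArg (fun r => mulR r r) (toR_mul M M)).symm.trans (toR_mul (M * M) (M * M)).symm).trans
    (congrArg toR h)) (fun h3 => h1 (toR_inj ((toR_mul M M).trans h3)))

theorem fix_two (t : T3) (h : t * t = 1) (h1 : t ≠ 1) : (Finset.univ.filter fun y : Pt => ψ t y = y).card = 3 := by
  obtain ⟨g, rfl⟩ := mk_surj t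
  rw [← map_mul] at h
  have h2 := mk_eq_one h
  refine (card_fix g).trans (c2m ?_ ?_)
  · rw [← Matrix.SpecialLinearGroup.coe_mul, h2, Matrix.SpecialLinearGroup.coe_one]
  · intro h3
    apply h1
    have : g = 1 := Subtype.ext h3
    rw [this, map_one]

theorem fix_three (t : T3) (h : t * t * t = 1) (h1 : t ≠ 1) : (Finset.univ.filter fun y : Pt => ψ t y = y).card = 1 := by
  obtain ⟨g, rfl⟩ := mk_surj t
  rw [← map_mul, ← map_mul] at h
  have h2 := mk_eq_one h
  refine (card_fix g).trans (c3m ?_ ?_)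
  · rw [← Matrix.SpecialLinearGroup.coe_mul, ← Matrix.SpecialLinearGroup.coe_mul, h2, Matrix.SpecialLinearGroup.coe_one]
  · intro h3
    apply h1
    have : g = 1 := Subtype.ext h3
    rw [this, map_one]

theorem fix_four (t : T3) (h : t * t * (t * t) = 1) (h1 : t * t ≠ 1) :
    (Finset.univ.filter fun y : Pt => ψ t y = y).card = 1 := by
  obtain ⟨g, rfl⟩ := mk_surj t
  rw [← map_mul, ← map_mul] at h
  have h2 := mk_eq_one h
  refine (card_fix g).trans (c4m ?_ ?_)
  · rw [← Matrix.SpecialLinearGroup.coe_mul, ← Matrix.SpecialLinearGroup.coe_mul, h2, Matrix.SpecialLinearGroup.coe_one]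
  · intro h3
    apply h1
    rw [← Matrix.SpecialLinearGroup.coe_mul] at h3
    have : g * g = 1 := Subtype.ext h3
    rw [← map_mul, this, map_one]

theorem fix_one : (Finset.univ.filter fun y : Pt => ψ 1 y = y).card = 7 := by
  rw [map_one]
  simp [card_pt]

theorem ψ_injective : Function.Injective ψ := by
  rw [injective_iff_map_eq_one]
  intro t ht
  obtain ⟨g, rfl⟩ := mk_surj t
  rw [ψ_mk] at ht
  have h1 : ∀ i : Fin 3, (g : Matrix (Fin 3) (Fin 3) (ZMod 2)) *ᵥ Pi.single i 1 = Pi.single i 1 := by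
    intro i
    have h2 : (Pi.single i 1 : Fin 3 → ZMod 2) ≠ 0 := by
      rw [Ne, Pi.single_eq_zero_iff]; decide
    have h3 := congrArg (fun σ : Equiv.Perm Pt => (σ ⟨Pi.single i 1, h2⟩).1) ht
    exact h3
  have h4 : (g : Matrix (Fin 3) (Fin 3) (ZMod 2)) = 1 := by
    ext i j
    have := congrFun (h1 j) i
    rw [mulVec_single_one, col_apply] at this
    rw [this, one_apply, Pi.single_apply]
  have : g = 1 := Subtype.ext h4
  rw [this, map_one]

theorem fix_seven (t : T3) (h : t ^ 7 = 1) (h1 : t ≠ 1) : (Finset.univ.filter fun y : Pt => ψ t y = y).card = 0 := by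
  have hp : Fact (Nat.Prime 7) := ⟨by norm_num⟩
  have ho : orderOf (ψ t) = 7 := orderOf_eq_prime (by rw [← map_pow, h, map_one]) (fun h2 => h1 (ψ_injective (by
    rw [h2, map_one])))
  have h2 : (ψ t).IsCycle := Equiv.Perm.isCycle_of_prime_order' (by rw [ho]; exact hp.out) (by
    rw [card_pt, ho]; norm_num)
  have h3 : (ψ t).support.card = 7 := by rw [← h2.orderOf, ho]
  have h4 : (ψ t).support = Finset.univ := by
    rw [← Finset.card_eq_iff_eq_univ, h3, card_pt]
  rw [Finset.card_eq_zero, Finset.filter_eq_empty_iff]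
  intro y _ hy
  have : y ∈ (ψ t).support := by rw [h4]; exact Finset.mem_univ _
  exact (Equiv.Perm.mem_support.1 this) hy

end Cfsg.Agent.H908.L3Two
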