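import Mathlib

/-!
# `PSL₃(2)` on the seven points
-/

set_option autoImplicit false
set_option linter.unusedSectionVars false

namespace Cfsg.Agent.H908.L3Two

open Matrix

abbrev S3 := Matrix.SpecialLinearGroup (Fin 3) (ZMod 2)
abbrev T3 := ProjectiveSpecialLinearGroup (Fin 3) (ZMod 2)

/-- the points -/
abbrev Pt := {v : Fin 3 → ZMod 2 // v ≠ 0}

theorem inv_mul (g : S3) : ((g⁻¹ : S3) : Matrix (Fin 3) (Fin 3) (ZMod 2)) * (g : Matrix (Fin 3) (Fin 3) (ZMod 2)) = 1 := by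
  rw [← Matrix.SpecialLinearGroup.coe_mul, inv_mul_cancel, Matrix.SpecialLinearGroup.coe_one]

theorem mul_inv (g : S3) : (g : Matrix (Fin 3) (Fin 3) (ZMod 2)) * ((g⁻¹ : S3) : Matrix (Fin 3) (Fin 3) (ZMod 2)) = 1 := by
  rw [← Matrix.SpecialLinearGroup.coe_mul, mul_inv_cancel, Matrix.SpecialLinearGroup.coe_one]

/-- the action on points -/
def perm : S3 →* Equiv.Perm Pt where
  toFun g :=
    { toFun := fun v => ⟨(g : Matrix (Fin 3) (Fin 3) (ZMod 2)) *ᵥ v.1, fun h => v.2 (by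
        have h1 := congrArg (fun w => ((g⁻¹ : S3) : Matrix (Fin 3) (Fin 3) (ZMod 2)) *ᵥ w) h
        simpa only [mulVec_mulVec, mulVec_zero, inv_mul, one_mulVec] using h1)⟩
      invFun := fun v => ⟨((g⁻¹ : S3) : Matrix (Fin 3) (Fin 3) (ZMod 2)) *ᵥ v.1, fun h => v.2 (by
        have h1 := congrArg (fun w => (g : Matrix (Fin 3) (Fin 3) (ZMod 2)) *ᵥ w) h
        simpa only [mulVec_mulVec, mulVec_zero, mul_inv, one_mulVec] using h1)⟩
      left_inv := fun v => Subtype.ext (by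
        simp only [mulVec_mulVec, inv_mul, one_mulVec])
      right_inv := fun v => Subtype.ext (by
        simp only [mulVec_mulVec, mul_inv, one_mulVec]) }
  map_one' := by
    apply Equiv.ext
    intro v
    apply Subtype.ext
    change (1 : Matrix (Fin 3) (Fin 3) (ZMod 2)) *ᵥ v.1 = v.1
    rw [one_mulVec]
  map_mul' g h := by
    apply Equiv.ext
    intro v
    apply Subtype.ext
    change ((g * h : S3) : Matrix (Fin 3) (Fin 3) (ZMod 2)) *ᵥ v.1 = (g : Matrix (Fin 3) (Fin 3) (ZMod 2)) *ᵥ ((h : Matrix (Fin 3) (Fin 3) (ZMod 2)) *ᵥ v.1)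
    rw [mulVec_mulVec, Matrix.SpecialLinearGroup.coe_mul]

theorem perm_apply (g : S3) (v : Pt) : ((perm g v : Pt) : Fin 3 → ZMod 2) = (g : Matrix (Fin 3) (Fin 3) (ZMod 2)) *ᵥ v.1 := rfl

theorem card_pt : Fintype.card Pt = 7 := by decide

/-- the centre is trivial -/
theorem center_eq : Subgroup.center S3 = ⊥ := by
  rw [eq_bot_iff]
  intro g hg
  rw [Matrix.SpecialLinearGroup.mem_center_iff] at hg
  obtain ⟨r, hr, hg⟩ := hg
  have h0 : ∀ r : ZMod 2, r ^ Fintype.card (Fin 3) = 1 → r = 1 := by decide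
  have h1 : r = 1 := h0 r hr
  subst h1
  rw [Subgroup.mem_bot]
  apply Subtype.ext
  rw [← hg]
  simp

/-- the action of `PSL₃(2)` -/
def ψ : T3 →* Equiv.Perm Pt := QuotientGroup.lift _ perm (by
  intro g hg
  rw [center_eq, Subgroup.mem_bot] at hg
  rw [hg]
  exact one_mem _)

theorem ψ_mk (g : S3) : ψ (QuotientGroup.mk' _ g) = perm g := rfl

theorem mk_surj : Function.Surjective (QuotientGroup.mk' (Subgroup.center S3)) := QuotientGroup.mk'_surjective _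

/-! ### double transitivity -/

theorem trans' : ∀ x0 x1 x2 y0 y1 y2 : Fin 2, (x0 ≠ 0 ∨ x1 ≠ 0 ∨ x2 ≠ 0) → (y0 ≠ 0 ∨ y1 ≠ 0 ∨ y2 ≠ 0) →
    (x0 ≠ y0 ∨ x1 ≠ y1 ∨ x2 ≠ y2) → ∃ z0 z1 z2 : Fin 2,
      x0 * (y1 * z2 - y2 * z1) - y0 * (x1 * z2 - x2 * z1) + z0 * (x1 * y2 - x2 * y1) = 1 := by decide +kernel

theorem trans2 : ∀ x0 x1 x2 y0 y1 y2 : ZMod 2, (x0 ≠ 0 ∨ x1 ≠ 0 ∨ x2 ≠ 0) → (y0 ≠ 0 ∨ y1 ≠ 0 ∨ y2 ≠ 0) →
    (x0 ≠ y0 ∨ x1 ≠ y1 ∨ x2 ≠ y2) → ∃ z0 z1 z2 : ZMod 2,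
      x0 * (y1 * z2 - y2 * z1) - y0 * (x1 * z2 - x2 * z1) + z0 * (x1 * y2 - x2 * y1) = 1 := trans'

theorem ne_iff {x y : Fin 3 → ZMod 2} (h : x ≠ y) : x 0 ≠ y 0 ∨ x 1 ≠ y 1 ∨ x 2 ≠ y 2 := by
  by_contra hcon
  push Not at hcon
  apply h
  funext i
  fin_cases i
  · exact hcon.1
  · exact hcon.2.1
  · exact hcon.2.2

def e0 : Pt := ⟨![1, 0, 0], by decide⟩
def e1 : Pt := ⟨![0, 1, 0], by decide⟩

theorem exists_frame {x y : Pt} (hxy : x ≠ y) : ∃ g : S3, perm g e0 = x ∧ perm g e1 = y := by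
  obtain ⟨z0, z1, z2, hz⟩ := trans2 (x.1 0) (x.1 1) (x.1 2) (y.1 0) (y.1 1) (y.1 2) (ne_iff x.2) (ne_iff y.2)
    (ne_iff fun h => hxy (Subtype.ext h))
  refine ⟨⟨!![x.1 0, y.1 0, z0; x.1 1, y.1 1, z1; x.1 2, y.1 2, z2], ?_⟩, ?_, ?_⟩
  · rw [det_fin_three]
    simp only [of_apply, cons_val', cons_val_zero, cons_val_one, cons_val, cons_val_fin_one]
    rw [← hz]
    ring
  · apply Subtype.ext
    change !![x.1 0, y.1 0, z0; x.1 1, y.1 1, z1; x.1 2, y.1 2, z2] *ᵥ ![1, 0, 0] = x.1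
    funext i
    fin_cases i <;> simp [mulVec, dotProduct, Fin.sum_univ_three]
  · apply Subtype.ext
    change !![x.1 0, y.1 0, z0; x.1 1, y.1 1, z1; x.1 2, y.1 2, z2] *ᵥ ![0, 1, 0] = y.1
    funext i
    fin_cases i <;> simp [mulVec, dotProduct, Fin.sum_univ_three]

theorem two (x y z w : Pt) (hxy : x ≠ y) (hzw : z ≠ w) : ∃ t : T3, ψ t x = z ∧ ψ t y = w := by
  obtain ⟨g, hg0, hg1⟩ := exists_frame hxy
  obtain ⟨h, hh0, hh1⟩ := exists_frame hzw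
  refine ⟨QuotientGroup.mk' _ (h * g⁻¹), ?_, ?_⟩
  · rw [ψ_mk, map_mul, Equiv.Perm.mul_apply, map_inv, Equiv.Perm.inv_eq_iff_eq.2 hg0.symm, hh0]
  · rw [ψ_mk, map_mul, Equiv.Perm.mul_apply, map_inv, Equiv.Perm.inv_eq_iff_eq.2 hg1.symm, hh1]

end Cfsg.Agent.H908.L3Two
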