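import Cfsg.Agent.H908.CovFour
import Cfsg.Agent.H908.PslSeven
import Cfsg.Agent.ClassicalGeometry.AutPSL.Main

/-!
# Automorphisms of `PSL₂(7)`; automorphisms induced by the normaliser
-/

set_option autoImplicit false
set_option linter.unusedSectionVars false

namespace Cfsg.Agent.H908

open Cfsg Cfsg.Geo
open scoped MatrixGroups

section Gen
variable {F : Type*} [Field F] {T : Type*} [Group T] {P : Subgroup (GL (Fin 4) F)} {φ : P →* T}

/-- The automorphism of the quotient induced by an element of the normaliser. -/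
theorem exists_aut [Finite T] (hC : Cov P φ) {g : GL (Fin 4) F} (hn : ∀ x ∈ P, g * x * g⁻¹ ∈ P)
    (hn' : ∀ x ∈ P, g⁻¹ * x * g ∈ P) :
    ∃ α : MulAut T, ∀ (x : P), α (φ x) = φ ⟨g * x * g⁻¹, hn x x.2⟩ := by
  let c : P →* P :=
    { toFun := fun x => ⟨g * x * g⁻¹, hn x x.2⟩
      map_one' := Subtype.ext (by simp)
      map_mul' := fun x y => Subtype.ext (by
        change g * (x * y : GL (Fin 4) F) * g⁻¹ = g * x * g⁻¹ * (g * y * g⁻¹)
        group) }
  let f : P →* T := φ.comp c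
  have hker : φ.ker ≤ f.ker := by
    intro x hx
    rw [MonoidHom.mem_ker] at hx ⊢
    obtain ⟨r, hr⟩ := (hC.ker x).1 hx
    have h1 : c x = x := by
      apply Subtype.ext
      change g * (x : GL (Fin 4) F) * g⁻¹ = x
      apply Units.ext
      rw [Matrix.GeneralLinearGroup.coe_mul, Matrix.GeneralLinearGroup.coe_mul]
      have h2 : ((x : GL (Fin 4) F) : Matrix (Fin 4) (Fin 4) F) = r • 1 := hr
      rw [h2, mul_smul_comm, mul_one, smul_mul_assoc, ← Matrix.GeneralLinearGroup.coe_mul, mul_inv_cancel,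
        Matrix.GeneralLinearGroup.coe_one]
    change φ (c x) = 1
    rw [h1, hx]
  let α₀ : T →* T := φ.liftOfSurjective hC.surj ⟨f, hker⟩
  have hα : ∀ x, α₀ (φ x) = f x := fun x => φ.liftOfRightInverse_comp_apply _ _ ⟨f, hker⟩ x
  have hsurj : Function.Surjective α₀ := by
    intro t
    obtain ⟨y, rfl⟩ := hC.surj t
    refine ⟨φ ⟨g⁻¹ * y * g, hn' y y.2⟩, ?_⟩
    rw [hα]
    change φ (c _) = φ y
    congr 1
    apply Subtype.ext
    change g * (g⁻¹ * (y : GL (Fin 4) F) * g) * g⁻¹ = y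
    group
  have hbij : Function.Bijective α₀ := (Finite.injective_iff_surjective.2 hsurj).bijective_of_nat_card_le le_rfl
  exact ⟨MulEquiv.ofBijective α₀ hbij, fun x => hα x⟩

end Gen

namespace Psl7

open Matrix Cfsg.Agent.ClassicalGeometry.AutPSL.Auto Cfsg.Agent.ClassicalGeometry.AutPSL.Main
  Cfsg.Agent.ClassicalGeometry.AutPSL.Root

theorem cj_eq {A : GL (Fin 2) (ZMod 7)} {B : S} {r : ZMod 7}
    (h : (A : Matrix (Fin 2) (Fin 2) (ZMod 7)) = r • (B : Matrix (Fin 2) (Fin 2) (ZMod 7))) (g : S) :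
    cj A g = B * g * B⁻¹ := by
  rw [eq_mul_inv_iff_mul_eq]
  apply Subtype.ext
  change (A : Matrix (Fin 2) (Fin 2) (ZMod 7)) * g.1 * ((A⁻¹ : GL (Fin 2) (ZMod 7)) : Matrix (Fin 2) (Fin 2) (ZMod 7)) *
    B.1 = B.1 * g.1
  have hr : r ≠ 0 := by
    rintro rfl
    have h1 := A.isUnit.ne_zero
    exact h1 (by rw [h, zero_smul])
  have h2 : (B.1 : Matrix (Fin 2) (Fin 2) (ZMod 7)) = r⁻¹ • (A : Matrix (Fin 2) (Fin 2) (ZMod 7)) := by
    rw [h, smul_smul, inv_mul_cancel₀ hr, one_smul]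
  rw [h2, mul_smul_comm, mul_assoc, ← Units.val_mul, inv_mul_cancel, Units.val_one, mul_one, smul_mul_assoc]

theorem squares : ∀ u : ZMod 7, u ≠ 0 → ∃ r : ZMod 7, r ≠ 0 ∧ (u = r * r ∨ u = -(r * r)) := by decide

theorem exists_B {A : GL (Fin 2) (ZMod 7)} {r : ZMod 7} (hr : r ≠ 0)
    (h : (A : Matrix (Fin 2) (Fin 2) (ZMod 7)).det = r * r) :
    ∃ B : S, (A : Matrix (Fin 2) (Fin 2) (ZMod 7)) = r • (B : Matrix (Fin 2) (Fin 2) (ZMod 7)) := by
  refine ⟨⟨r⁻¹ • (A : Matrix (Fin 2) (Fin 2) (ZMod 7)), ?_⟩, ?_⟩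
  · rw [det_smul, h, Fintype.card_fin]
    field_simp
  · change _ = r • (r⁻¹ • (A : Matrix (Fin 2) (Fin 2) (ZMod 7)))
    rw [smul_smul, mul_inv_cancel₀ hr, one_smul]

/-- the outer element -/
def N : GL (Fin 2) (ZMod 7) := ⟨!![-1, 0; 0, 1], !![-1, 0; 0, 1], by
  rw [mul_fin_two]; ext i j; fin_cases i <;> fin_cases j <;> simp, by
  rw [mul_fin_two]; ext i j; fin_cases i <;> fin_cases j <;> simp⟩

theorem cj_N : cj N X = X⁻¹ := by
  rw [X_inv]
  apply Subtype.ext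
  change (!![-1, 0; 0, 1] : Matrix (Fin 2) (Fin 2) (ZMod 7)) * !![1, 1; 0, 1] * !![-1, 0; 0, 1] = !![1, -1; 0, 1]
  rw [mul_fin_two, mul_fin_two]
  ext i j
  fin_cases i <;> fin_cases j <;> simp

/-- Automorphisms of `PSL₂(7)`. -/
theorem aut (α : MulAut T) : (∃ c : T, ∀ t, α t = c * t * c⁻¹) ∨ IsConj (α (π X)) (π X)⁻¹ := by
  have hp : Fact (Nat.Prime 7) := ⟨by norm_num⟩
  obtain ⟨A, σ, rfl⟩ := surj_two 7 α
  have hσ : σ = 1 := by
    ext x
    have : (σ : ZMod 7 →+* ZMod 7) = RingHom.id _ := Subsingleton.elim _ _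
    exact congrArg (fun f : ZMod 7 →+* ZMod 7 => f x) this
  rw [hσ, map_one, mul_one]
  have hpr : ∀ g : S, lift (cj A) (π g) = π (cj A g) := fun g => lift_pr _ _
  have hdet : (A : Matrix (Fin 2) (Fin 2) (ZMod 7)).det ≠ 0 :=
    ((Matrix.isUnit_iff_isUnit_det _).1 A.isUnit).ne_zero
  obtain ⟨r, hr, h | h⟩ := squares _ hdet
  · left
    obtain ⟨B, hB⟩ := exists_B hr h
    refine ⟨π B, fun t => ?_⟩
    obtain ⟨g, rfl⟩ := π_surj t
    rw [hpr, cj_eq hB, map_mul, map_mul, map_inv]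
  · right
    obtain ⟨B, hB⟩ := exists_B (A := A * N⁻¹) hr (by
      rw [Units.val_mul, det_mul, h]
      have : ((N⁻¹ : GL (Fin 2) (ZMod 7)) : Matrix (Fin 2) (Fin 2) (ZMod 7)) = !![-1, 0; 0, 1] := rfl
      rw [this, det_fin_two_of]
      ring)
    rw [hpr]
    have h1 : cj A X = B * X⁻¹ * B⁻¹ := by
      have h2 : A = A * N⁻¹ * N := by group
      rw [← cj_eq hB, ← cj_N]
      conv_lhs => rw [h2, map_mul]
      rfl
    rw [h1, map_mul, map_mul, map_inv, map_inv]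
    exact (isConj_iff.2 ⟨π B, rfl⟩ : IsConj ((π X)⁻¹) _).symm

end Psl7

end Cfsg.Agent.H908
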