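import Cfsg.Agent.H908.EndAlt

/-!
# `PSL₂(7)`: the classes, and the traces of the elements of order three and seven in dimension four
-/

set_option autoImplicit false
set_option linter.unusedSectionVars false

namespace Cfsg.Agent.H908

open Cfsg Cfsg.Geo Module
open scoped MatrixGroups commutatorElement

namespace Psl7

theorem five (t : T) : t = 1 ∨ IsConj fano.i t ∨ IsConj fano.d t ∨ IsConj (fano.s * fano.i) t ∨
    IsConj fano.x t ∨ IsConj fano.x⁻¹ t := by
  have key : ∀ {a b c d : ZMod 7} {h}, (a + d = 0 ∨ a + d = -1 ∨ a + d = 2 ∨ a + d = -3) →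
      π (q a b c d h) = 1 ∨ IsConj fano.i (π (q a b c d h)) ∨ IsConj fano.d (π (q a b c d h)) ∨
        IsConj (fano.s * fano.i) (π (q a b c d h)) ∨ IsConj fano.x (π (q a b c d h)) ∨
        IsConj fano.x⁻¹ (π (q a b c d h)) := by
    intro a b c d h htr
    rcases htr with htr | htr | htr | htr
    · right; left
      change IsConj (π I) _
      unfold I
      apply conj_map
      apply isConj_of_trace
      · decide
      · decide
      · rw [htr]; decide
    · right; right; left
      change IsConj (π D) _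
      unfold D
      apply conj_map
      apply isConj_of_trace
      · decide
      · decide
      · rw [htr]; decide
    · rcases unip_conj (h := h) htr with h1 | h1 | h1
      · left
        rw [h1, map_one]
      · right; right; right; right; left
        exact conj_map h1
      · right; right; right; right; right
        have := conj_map h1
        rw [map_inv] at this
        exact this
    · right; right; right; left
      change IsConj (π W * π I) _
      rw [← map_mul]
      unfold W I
      rw [q_mul]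
      apply conj_map
      apply isConj_of_trace
      · decide
      · decide
      · rw [htr]; decide
  obtain ⟨A, rfl⟩ := π_surj t
  obtain ⟨a, b, c, d, h, rfl⟩ := eq_q A
  have h1 : π (q a b c d h) = π (q (-a) (-b) (-c) (-d) (by linear_combination h)) := by
    rw [← neg_q, π_neg]
  rcases traces (a + d) with h2 | (h2 | h2) | (h2 | h2) | (h2 | h2)
  · exact key (Or.inl h2)
  · rw [h1]; exact key (Or.inr (Or.inl (by linear_combination -h2)))
  · exact key (Or.inr (Or.inl h2))
  · exact key (Or.inr (Or.inr (Or.inl h2)))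
  · rw [h1]; exact key (Or.inr (Or.inr (Or.inl (by linear_combination -h2))))
  · rw [h1]; exact key (Or.inr (Or.inr (Or.inr (by linear_combination -h2))))
  · exact key (Or.inr (Or.inr (Or.inr h2)))

end Psl7

section Op
variable {K : Type*} [Field K] {V : Type*} [AddCommGroup V] [Module K V] [FiniteDimensional K V]

/-- three independent eigenvectors in dimension four -/
theorem trace_of_three (h4 : finrank K V = 4) {Y : End K V} {v₁ v₂ v₃ : V} {a b c : K}
    (hli : LinearIndependent K ![v₁, v₂, v₃]) (h1 : Y v₁ = a • v₁) (h2 : Y v₂ = b • v₂) (h3 : Y v₃ = c • v₃)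
    (habc : a * b * c = 1) (hdet : LinearMap.det Y = 1) : LinearMap.trace K V Y = 1 + a + b + c := by
  obtain ⟨u, hu⟩ : ∃ u : V, LinearIndependent K ![u, v₁, v₂, v₃] := by
    have hlt : Submodule.span K (Set.range ![v₁, v₂, v₃]) ≠ ⊤ := by
      intro htop
      have h5 := finrank_span_eq_card hli
      rw [htop, finrank_top, h4] at h5
      simp at h5
    obtain ⟨u, -, hu⟩ := SetLike.exists_of_lt (lt_top_iff_ne_top.2 hlt)
    refine ⟨u, ?_⟩
    rw [show (![u, v₁, v₂, v₃] : Fin 4 → V) = Fin.cons u ![v₁, v₂, v₃] from rfl,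
      linearIndependent_finCons]
    exact ⟨hli, hu⟩
  let B : Basis (Fin 4) K V := basisOfLinearIndependentOfCardEqFinrank hu (by rw [h4]; simp)
  have hB1 : B 1 = v₁ := by simp [B]
  have hB2 : B 2 = v₂ := by simp [B]
  have hB3 : B 3 = v₃ := by simp [B]
  have hc : ∀ i j, LinearMap.toMatrix B B Y i j = B.repr (Y (B j)) i := fun i j => LinearMap.toMatrix_apply _ _ _ _ _
  have c1 : ∀ i, LinearMap.toMatrix B B Y i 1 = if i = 1 then a else 0 := by
    intro i
    rw [hc, hB1, h1, ← hB1, map_smul, B.repr_self, Finsupp.smul_apply, Finsupp.single_apply]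
    by_cases hi : i = 1
    · subst hi; simp
    · rw [if_neg hi, if_neg (Ne.symm hi)]; simp
  have c2 : ∀ i, LinearMap.toMatrix B B Y i 2 = if i = 2 then b else 0 := by
    intro i
    rw [hc, hB2, h2, ← hB2, map_smul, B.repr_self, Finsupp.smul_apply, Finsupp.single_apply]
    by_cases hi : i = 2
    · subst hi; simp
    · rw [if_neg hi, if_neg (Ne.symm hi)]; simp
  have c3 : ∀ i, LinearMap.toMatrix B B Y i 3 = if i = 3 then c else 0 := by
    intro i
    rw [hc, hB3, h3, ← hB3, map_smul, B.repr_self, Finsupp.smul_apply, Finsupp.single_apply]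
    by_cases hi : i = 3
    · subst hi; simp
    · rw [if_neg hi, if_neg (Ne.symm hi)]; simp
  rw [← LinearMap.det_toMatrix B] at hdet
  rw [LinearMap.trace_eq_matrix_trace K B]
  set M := LinearMap.toMatrix B B Y with hM
  have hdet' : M.det = M 0 0 * (a * b * c) := by
    have hMM : M = !![M 0 0, 0, 0, 0; M 1 0, a, 0, 0; M 2 0, 0, b, 0; M 3 0, 0, 0, c] := by
      ext i j
      fin_cases j
      · fin_cases i <;> rfl
      · have := c1 i
        fin_cases i <;> simpa using this
      · have := c2 i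
        fin_cases i <;> simpa using this
      · have := c3 i
        fin_cases i <;> simpa using this
    rw [hMM, Matrix.det_succ_row_zero, Fin.sum_univ_four]
    simp [Matrix.det_fin_three, Fin.succAbove]
  rw [hdet', habc, mul_one] at hdet
  rw [Matrix.trace, Fin.sum_univ_four]
  simp only [Matrix.diag_apply]
  rw [c1 1, c2 2, c3 3, hdet]
  simp

/-- the traces of `X` and `X⁻¹` -/
theorem seven_op [IsAlgClosed K] (h4 : finrank K V = 4) (h7 : (7 : K) ≠ 0) {X D : End K V} (hX : X ^ 7 = 1)
    (hX1 : X ≠ 1) (hD : D ^ 3 = 1) (hDX : D * X = X ^ 2 * D) (hdet : LinearMap.det X = 1) :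
    LinearMap.trace K V X + LinearMap.trace K V (X ^ 6) = 1 ∧
      LinearMap.trace K V X * LinearMap.trace K V (X ^ 6) = 2 := by
  obtain ⟨ζ, v, hζ, hζ1, hv, h1, h2, h3, hli⟩ := exists_seven h7 hX hX1 hD hDX
  have hs : 1 + ζ + ζ ^ 2 + ζ ^ 3 + ζ ^ 4 + ζ ^ 5 + ζ ^ 6 = 0 := by
    have : (ζ - 1) * (1 + ζ + ζ ^ 2 + ζ ^ 3 + ζ ^ 4 + ζ ^ 5 + ζ ^ 6) = 0 := by
      linear_combination hζ
    exact (mul_eq_zero.1 this).resolve_left (sub_ne_zero.2 hζ1)
  have hpow : ∀ {c : K} {w : V}, X w = c • w → (X ^ 6) w = c ^ 6 • w := by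
    intro c w hw
    have : ∀ n : ℕ, (X ^ n) w = c ^ n • w := by
      intro n
      induction n with
      | zero => simp
      | succ n ih => rw [pow_succ', Module.End.mul_apply, ih, map_smul, hw, smul_smul, ← pow_succ]
    exact this 6
  have e1 := trace_of_three h4 hli h1 h2 h3 (by
    calc ζ * ζ ^ 4 * ζ ^ 2 = ζ ^ 7 := by ring
      _ = 1 := hζ) hdet
  have e2 := trace_of_three h4 hli (hpow h1) (hpow h2) (hpow h3) (by
    calc ζ ^ 6 * (ζ ^ 4) ^ 6 * (ζ ^ 2) ^ 6 = (ζ ^ 7) ^ 6 := by ring
      _ = 1 := by rw [hζ, one_pow]) (by rw [map_pow, hdet, one_pow])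
  have e3 : (ζ ^ 4) ^ 6 = ζ ^ 3 := by
    calc (ζ ^ 4) ^ 6 = (ζ ^ 7) ^ 3 * ζ ^ 3 := by ring
      _ = ζ ^ 3 := by rw [hζ, one_pow, one_mul]
  have e4 : (ζ ^ 2) ^ 6 = ζ ^ 5 := by
    calc (ζ ^ 2) ^ 6 = ζ ^ 7 * ζ ^ 5 := by ring
      _ = ζ ^ 5 := by rw [hζ, one_mul]
  rw [e3, e4] at e2
  rw [e1, e2]
  refine ⟨by linear_combination hs, ?_⟩
  linear_combination (3 + ζ + ζ ^ 2 + ζ ^ 3) * hζ + 2 * hs

end Op

end Cfsg.Agent.H908
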