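import Cfsg.Agent.H908.SevenOver
import Cfsg.Agent.ClassicalGeometry.HermParabolic

/-!
# The three-cycle is unitary
-/

set_option autoImplicit false
set_option linter.unusedSectionVars false

namespace Cfsg.Agent.H908.KL

open Matrix Cfsg Cfsg.Geo Cfsg.Agent.LieClassical.KleinSix Cfsg.Agent.LieClassical.HermBasic
  Cfsg.Agent.ClassicalGeometry.HermParabolic
open scoped MatrixGroups

variable {F : Type*} [Field F]

/-- transvection-like elements -/
theorem act_sq_vec (e f : Fin 4 → F) (hef : f ⬝ᵥ e = 0) (u : Fin 3 ⊕ Fin 3 → F) :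
    act (1 + vecMulVec e f) (act (1 + vecMulVec e f) u) + u = (2 : F) • act (1 + vecMulVec e f) u := by
  apply act_sq
  · rw [add_sub_cancel_left, vecMulVec_mul_vecMulVec, hef]
    simp
  · intro v
    rw [add_sub_cancel_left]
    ext i j
    simp [Matrix.mul_apply, Fin.sum_univ_four, sk, vecMulVec_apply]
    ring

theorem det_vec (e f : Fin 4 → F) (hef : f ⬝ᵥ e = 0) : (1 + vecMulVec e f).det = 1 := by
  rw [vecMulVec_eq Unit, det_one_add_replicateCol_mul_replicateRow, hef, add_zero]

section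
variable [Fintype F] {q : ℕ} (hF : Fintype.card F = q ^ 2)

/-- the Frobenius map on vectors -/
def fr (u : Fin 3 ⊕ Fin 3 → F) : Fin 3 ⊕ Fin 3 → F := fun i => conj hF (u i)

theorem sk_fr (u : Fin 3 ⊕ Fin 3 → F) : sk (fr hF u) = (sk u).map (conj hF) := by
  ext i j
  fin_cases i <;> fin_cases j <;> simp [sk, fr]

theorem pf_fr (u : Fin 3 ⊕ Fin 3 → F) : pf (fr hF u) = conj hF (pf u) := by
  simp [pf, fr]

theorem hodge_fr (u : Fin 3 ⊕ Fin 3 → F) : hodge (fr hF u) = fr hF (hodge u) := rfl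

theorem fr_sub (u v : Fin 3 ⊕ Fin 3 → F) : fr hF (u - v) = fr hF u - fr hF v := by
  funext i
  simp [fr]

/-- the semilinear map commuting with the special unitary group -/
def star' (u : Fin 3 ⊕ Fin 3 → F) : Fin 3 ⊕ Fin 3 → F := hodge (fr hF u)

theorem star_act {g : Matrix (Fin 4) (Fin 4) F} (hg : gᵀ * g.map (conj hF) = 1) (hdet : g.det = 1)
    (u : Fin 3 ⊕ Fin 3 → F) : act g (star' hF u) = star' hF (act g u) := by
  have h1 : gᵀ * sk (hodge (act g (star' hF u))) * g = gᵀ * sk (hodge (star' hF (act g u))) * g := by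
    rw [hodge_act, hdet, one_smul, star', hodge_hodge, star', hodge_hodge, sk_fr, sk_fr, sk_act, Matrix.map_mul,
      Matrix.map_mul, Matrix.transpose_map]
    have e1 : (g.map (conj hF))ᵀ * g = 1 := by
      have := congrArg Matrix.transpose hg
      rwa [transpose_mul, transpose_transpose, transpose_one] at this
    calc (sk u).map (conj hF) = 1 * (sk u).map (conj hF) * 1 := by rw [one_mul, mul_one]
      _ = (gᵀ * g.map (conj hF)) * (sk u).map (conj hF) * ((g.map (conj hF))ᵀ * g) := by rw [hg, e1]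
      _ = _ := by noncomm_ring
  have hu : IsUnit g := (Matrix.isUnit_iff_isUnit_det g).2 (by rw [hdet]; exact isUnit_one)
  have huT : IsUnit gᵀ := (Matrix.isUnit_iff_isUnit_det gᵀ).2 (by rw [det_transpose, hdet]; exact isUnit_one)
  have h2 := hu.mul_right_cancel h1
  have h3 := huT.mul_left_cancel h2
  have h4 := sk_injective h3
  rw [← hodge_hodge (act g (star' hF u)), h4, hodge_hodge]

variable {P : Subgroup (GL (Fin 4) F)} {Ω : Type*} [Fintype Ω] [DecidableEq Ω]
  {ψ : P →* Equiv.Perm Ω} {v : Ω → Fin 3 ⊕ Fin 3 → F} {b : F}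

theorem star_fam (h : Pts ψ) (h7 : (7 : F) ≠ 0) (hv : Fam ψ v b) (hP : P ≤ GU 4 F q) :
    ∃ c : F, ∀ y, star' hF (v y) = c • v y := by
  have hcomm : ∀ (g : P) (u : Fin 3 ⊕ Fin 3 → F), act (mt P g) (star' hF u) = star' hF (act (mt P g) u) :=
    fun g u => star_act hF ((mem_GU_iff_matrix hF (g : GL (Fin 4) F)).1 (hP g.2)) (h.det g) u
  obtain ⟨x⟩ : Nonempty Ω := Fintype.card_pos_iff.1 (by rw [h.card]; norm_num)
  obtain ⟨c, hc⟩ := hv.unique h h7 x (w := star' hF (v x)) (fun s hs => by rw [hcomm, hv.eqv, hs])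
  refine ⟨c, fun y => ?_⟩
  obtain ⟨g, hg⟩ : ∃ g : P, ψ g x = y := by
    by_cases hy : y = x
    · exact ⟨1, by rw [map_one, hy]; rfl⟩
    · obtain ⟨g, hg, -⟩ := h.two x y y x (Ne.symm hy) hy
      exact ⟨g, hg⟩
  rw [← hg, ← hv.eqv, ← hcomm, hc, act_smul]

theorem fr_smul (c : F) (u : Fin 3 ⊕ Fin 3 → F) : fr hF (c • u) = conj hF c • fr hF u := by
  funext i
  simp [fr]

theorem cyc_unitary (h : Pts ψ) (h7 : (7 : F) ≠ 0) (hv : Fam ψ v b) (hP : P ≤ GU 4 F q) {x y z : Ω}
    (hxy : x ≠ y) (hyz : y ≠ z) : (cyc v b x y z)ᵀ * (cyc v b x y z).map (conj hF) = 1 := by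
  obtain ⟨c, hc⟩ := star_fam hF h h7 hv hP
  have hc' : ∀ y, fr hF (v y) = c • hodge (v y) := by
    intro y
    have := congrArg hodge (hc y)
    rwa [star', hodge_hodge, hodge_smul] at this
  set u := v x - v y with hu
  set w := v y - v z with hw
  have eu : fr hF u = c • hodge u := by
    rw [hu, fr_sub, hc', hc', hodge_sub, smul_sub]
  have ew : fr hF w = c • hodge w := by
    rw [hw, fr_sub, hc', hc', hodge_sub, smul_sub]
  have pu : pf u = -7 * b := pf_sub hv hxy
  have pw : pf w = -7 * b := pf_sub hv hyz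
  have hN := N_ne_zero h7 hv
  have hpfc : ∀ (a : F) (t : Fin 3 ⊕ Fin 3 → F), pf (a • t) = a ^ 2 * pf t := by
    intro a t
    simp only [pf, Pi.smul_apply, smul_eq_mul]
    ring
  have hNq : conj hF (-7 * b) = c ^ 2 * (-7 * b) := by
    rw [← pu, ← pf_fr, eu, hpfc, pf_hodge]
  have hc0 : c ≠ 0 := by
    rintro rfl
    rw [zero_pow two_ne_zero, zero_mul] at hNq
    exact hN ((map_eq_zero_iff _ (conj hF).injective).1 hNq)
  have e1 : (cyc v b x y z)ᵀ = (-7 * b)⁻¹ • (sk (hodge w) * sk u) := by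
    rw [cyc, rr, transpose_smul, transpose_mul, transpose_sk, transpose_sk, neg_mul_neg]
  have e2 : (cyc v b x y z).map (conj hF) = (-7 * b)⁻¹ • (sk (hodge u) * sk w) := by
    rw [cyc, rr, Matrix.map_smul' (conj hF) _ _ (fun a b => map_mul (conj hF) a b)]
    rw [Matrix.map_mul, ← sk_fr, ← sk_fr, ← hodge_fr, eu, ew, hodge_smul, hodge_hodge, sk_smul, sk_smul,
      smul_mul_smul_comm, smul_smul, map_inv₀, hNq]
    congr 1
    field_simp
  rw [e1, e2, smul_mul_smul_comm]
  have e3 : sk (hodge w) * sk u * (sk (hodge u) * sk w) = (-7 * b * (-7 * b)) • (1 : Matrix (Fin 4) (Fin 4) F) := by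
    have : sk (hodge w) * sk u * (sk (hodge u) * sk w) = sk (hodge w) * (sk u * sk (hodge u)) * sk w := by
      noncomm_ring
    rw [this, sk_mul_hodge, mul_smul_comm, smul_mul_assoc, mul_one, hodge_mul_sk, smul_smul, pu, pw]
    congr 1
    ring
  rw [e3, smul_smul]
  have : (-7 * b)⁻¹ * (-7 * b)⁻¹ * (-7 * b * (-7 * b)) = 1 := by
    rw [mul_assoc, inv_mul_cancel_left₀ hN, inv_mul_cancel₀ hN]
  rw [this, one_smul]

/-- a unitary transvection -/
theorem exists_unitary_transvection : ∃ (e f : Fin 4 → F), f ⬝ᵥ e = 0 ∧ e ≠ 0 ∧ f ≠ 0 ∧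
    (1 + vecMulVec e f)ᵀ * (1 + vecMulVec e f).map (conj hF) = 1 := by
  obtain ⟨a, ha0, ha⟩ := exists_trace_zero_ne hF
  obtain ⟨ζ, hζ⟩ := exists_norm_eq hF (c := -1) (by
    have := (conj hF).map_neg 1
    rw [map_one] at this
    exact this)
  set e : Fin 4 → F := ![1, ζ, 0, 0] with he
  set e' : Fin 4 → F := ![1, ζ ^ q, 0, 0] with he'
  have hee : e' ⬝ᵥ e = 0 := by
    simp only [he, he', dotProduct, Fin.sum_univ_four, cons_val_zero, cons_val_one, cons_val]
    linear_combination hζ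
  have hee' : e ⬝ᵥ e' = 0 := by rw [dotProduct_comm, hee]
  have hq : q ≠ 0 := by
    rintro rfl
    simp at hF
  have ec : (fun i => conj hF (e i)) = e' := by
    funext i
    fin_cases i <;> simp [he, he', conj_apply, hq]
  have ec' : (fun i => conj hF (e' i)) = e := by
    rw [← ec]
    funext i
    simp only [conj_apply]
    exact pow_q_pow_q hF (e i)
  refine ⟨e, a • e', by rw [smul_dotProduct, hee, smul_zero], ?_, ?_, ?_⟩
  · intro h
    have := congrFun h 0
    simp [he] at this
  · intro h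
    have := congrFun h 0
    simp [he', ha0] at this
  · have e1 : (1 + vecMulVec e (a • e'))ᵀ = 1 + a • vecMulVec e' e := by
      rw [transpose_add, transpose_one, transpose_vecMulVec, smul_vecMulVec]
    have e2 : (1 + vecMulVec e (a • e')).map (conj hF) = 1 + (conj hF a) • vecMulVec e' e := by
      ext i j
      have h1 := congrFun ec i
      have h2 := congrFun ec' j
      change conj hF (e i) = e' i at h1
      change conj hF (e' j) = e j at h2
      rw [Matrix.map_apply, Matrix.add_apply, Matrix.add_apply, vecMulVec_apply, Matrix.smul_apply, vecMulVec_apply,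
        Pi.smul_apply, smul_eq_mul, smul_eq_mul, map_add, map_mul, map_mul, h1, h2]
      by_cases hij : i = j
      · subst hij
        rw [one_apply_eq, map_one]
        ring
      · rw [one_apply_ne hij, map_zero]
        ring
    rw [e1, e2, add_mul, mul_add, mul_add, one_mul, mul_one, one_mul, smul_mul_smul_comm, vecMulVec_mul_vecMulVec, hee']
    have : conj hF a = - a := by
      rw [conj_apply]
      linear_combination ha
    rw [this]
    simp

end

end Cfsg.Agent.H908.KL
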