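import Cfsg.Agent.H908.L7Pts
import Cfsg.Agent.H908.L7Aut
import Cfsg.Agent.H908.SevenUni
import Cfsg.Agent.S0255

/-!
# A core `L₂(7)` in dimension four does not give a maximal subgroup
-/

set_option autoImplicit false
set_option linter.unusedSectionVars false

namespace Cfsg.Agent.H908

open Cfsg Cfsg.Geo Module Cfsg.Agent.LieClassical.KleinSix
open scoped MatrixGroups commutatorElement

variable {F : Type*} [Field F] {P : Subgroup (GL (Fin 4) F)}

/-- an invariant skew matrix gives real traces. -/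
theorem real_of_skew (hP : ActsAbsolutelyIrreducibly (matrixSet P)) {u : Fin 3 ⊕ Fin 3 → F} (hu : u ≠ 0)
    (hfix : ∀ g : P, act (mt P g) u = u) :
    ∀ g ∈ P, ((g⁻¹ : GL (Fin 4) F) : Matrix (Fin 4) (Fin 4) F).trace = (g : Matrix (Fin 4) (Fin 4) F).trace := by
  set A := sk u with hA
  have hA0 : A ≠ 0 := by
    intro h
    apply hu
    apply sk_injective
    rw [← hA, h]
    ext i j
    fin_cases i <;> fin_cases j <;> simp [sk]
  have hgA : ∀ g : P, mt P g * A * (mt P g).transpose = A := by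
    intro g
    rw [hA, ← sk_act, hfix]
  have hinv : ∀ g : P, mt P g * A = A * (mt P g⁻¹).transpose := by
    intro g
    have h1 : (mt P g).transpose * (mt P g⁻¹).transpose = 1 := by
      rw [← Matrix.transpose_mul, ← map_mul, inv_mul_cancel, map_one, Matrix.transpose_one]
    calc mt P g * A = mt P g * A * ((mt P g).transpose * (mt P g⁻¹).transpose) := by rw [h1, mul_one]
      _ = mt P g * A * (mt P g).transpose * (mt P g⁻¹).transpose := by rw [← mul_assoc]
      _ = _ := by rw [hgA]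
  have hW := hP.1 (LinearMap.range (Matrix.toLin' A)) (by
    rintro _ ⟨g, hg, rfl⟩
    rintro _ ⟨w, ⟨z, rfl⟩, rfl⟩
    have h1 := hinv ⟨g, hg⟩
    refine ⟨Matrix.toLin' ((mt P (⟨g, hg⟩ : P)⁻¹).transpose) z, ?_⟩
    rw [← LinearMap.comp_apply, ← Matrix.toLin'_mul, ← LinearMap.comp_apply, ← Matrix.toLin'_mul, ← h1]
    rfl)
  have hunit : IsUnit A := by
    rcases hW with h1 | h1
    · exfalso
      apply hA0
      rw [LinearMap.range_eq_bot] at h1
      exact Matrix.toLin'.injective (by rw [h1, map_zero])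
    · have h3 := LinearMap.range_eq_top.1 h1
      have h4 : IsUnit (Matrix.toLin' A) := (LinearMap.isUnit_iff_range_eq_top _).2 h1
      have h5 := (LinearMap.isUnit_iff_isUnit_det _).1 h4
      rw [LinearMap.det_toLin'] at h5
      exact (Matrix.isUnit_iff_isUnit_det A).2 h5
  intro g hg
  have h1 := hinv ⟨g, hg⟩
  obtain ⟨B, hB⟩ := hunit
  have h2 : (g : Matrix (Fin 4) (Fin 4) F) * A = A * ((g⁻¹ : GL (Fin 4) F) : Matrix (Fin 4) (Fin 4) F).transpose := h1
  rw [← Matrix.trace_transpose ((g⁻¹ : GL (Fin 4) F) : Matrix (Fin 4) (Fin 4) F)]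
  have h3 : ((g⁻¹ : GL (Fin 4) F) : Matrix (Fin 4) (Fin 4) F).transpose =
      (↑B⁻¹ : Matrix (Fin 4) (Fin 4) F) * ((g : Matrix (Fin 4) (Fin 4) F) * A) := by
    rw [h2, ← hB, ← mul_assoc, Units.inv_mul, one_mul]
  rw [h3, ← hB, ← mul_assoc, Matrix.trace_mul_comm, ← mul_assoc, Units.mul_inv, one_mul]

variable [Finite F]

theorem l7_pts {φ : P →* Psl7.T} (h : Cov P φ) (t : Cov.Two φ) (h2 : (2 : F) ≠ 0) (h7 : (7 : F) ≠ 0)
    (θ : Psl7.T ≃* L3Two.T3) (hP : ActsAbsolutelyIrreducibly (matrixSet P))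
    (hq : ¬ ∃ Q : (Fin 4 → F) → F, IsNondegenerateQuadraticForm Q ∧ FixesQuadForm (matrixSet P) Q)
    (hs : ¬ ∃ f : (Fin 4 → F) → (Fin 4 → F) → F, IsSymplecticForm f ∧ FixesForm (matrixSet P) f) :
    KL.Pts (pts φ θ) where
  card := L3Two.card_pt
  det := h.det
  two := by
    intro x y z w hxy hzw
    obtain ⟨s, hs⟩ := L3Two.two x y z w hxy hzw
    obtain ⟨r, rfl⟩ := θ.surjective s
    obtain ⟨g, rfl⟩ := h.surj r
    exact ⟨g, hs⟩
  tr := by
    intro g
    obtain ⟨n, hn, htr, -⟩ := fix_cases h t h2 h7 θ g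
    rw [htr, hn]
  nofix := by
    intro u hu
    by_contra hu0
    rcases quad_or_symp_of_real h2 hP (real_of_skew hP hu0 hu) with h1 | h1
    · exact hq h1
    · exact hs h1
  stab := by
    intro x y hxy
    have : Finite P := Cov.finite_P (P := P)
    let D : Subgroup P :=
      { carrier := {g | pts φ θ g x = x ∧ pts φ θ g y = y}
        mul_mem' := by
          rintro a b ⟨ha1, ha2⟩ ⟨hb1, hb2⟩
          exact ⟨by rw [map_mul, Equiv.Perm.mul_apply, hb1, ha1], by rw [map_mul, Equiv.Perm.mul_apply, hb2, ha2]⟩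
        one_mem' := ⟨by rw [map_one]; rfl, by rw [map_one]; rfl⟩
        inv_mem' := by
          rintro a ⟨ha1, ha2⟩
          exact ⟨by rw [map_inv, Equiv.Perm.inv_eq_iff_eq.2 ha1.symm],
            by rw [map_inv, Equiv.Perm.inv_eq_iff_eq.2 ha2.symm]⟩ }
    have hD : IsPGroup 2 D := by
      rintro ⟨g, hg1, hg2⟩
      refine ⟨2, Subtype.ext ?_⟩
      obtain ⟨n, hn, -, -, h4⟩ := fix_cases h t h2 h7 θ g
      apply h4
      rw [← hn]
      have h5 : ({x, y} : Finset L3Two.Pt) ⊆ Finset.univ.filter fun z => pts φ θ g z = z := by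
        intro z hz
        rw [Finset.mem_insert, Finset.mem_singleton] at hz
        rw [Finset.mem_filter]
        rcases hz with rfl | rfl
        · exact ⟨Finset.mem_univ _, hg1⟩
        · exact ⟨Finset.mem_univ _, hg2⟩
      have h6 := Finset.card_le_card h5
      rwa [Finset.card_pair hxy] at h6
    have hfac : Fact (Nat.Prime 2) := ⟨Nat.prime_two⟩
    obtain ⟨k, hk⟩ := IsPGroup.iff_card.1 hD
    have h5 : Nat.card {g : P // pts φ θ g x = x ∧ pts φ θ g y = y} = 2 ^ k := hk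
    rw [h5]
    push_cast
    exact pow_ne_zero _ h2

/-- the normaliser of `P` -/
theorem l7_normalizer {φ : P →* Psl7.T} (h : Cov P φ) (h7 : (7 : F) ≠ 0) {H : Subgroup (GL (Fin 4) F)}
    (hc : IsResidualCore H P) :
    ∀ g ∈ H, ∃ (y : P) (c : F), (g : Matrix (Fin 4) (Fin 4) F) = c • mt P y := by
  intro g hg
  have hn : ∀ x ∈ P, g * x * g⁻¹ ∈ P := hc.normal g hg
  have hn' : ∀ x ∈ P, g⁻¹ * x * g ∈ P := fun x hx => by
    have := hc.normal g⁻¹ (H.inv_mem hg) x hx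
    rwa [inv_inv] at this
  have hT : Finite Psl7.T := by
    have : Finite P := Cov.finite_P (P := P)
    exact Finite.of_surjective φ h.surj
  obtain ⟨α, hα⟩ := exists_aut h hn hn'
  rcases Psl7.aut α with ⟨c, hcα⟩ | hconj
  · obtain ⟨y, rfl⟩ := h.surj c
    have hmem : (y : GL (Fin 4) F)⁻¹ * g ∈ H := H.mul_mem (H.inv_mem (hc.le y.2)) hg
    have hsc : (y : GL (Fin 4) F)⁻¹ * g ∈ scalars (Fin 4) F := by
      apply hc.centralizer_scalar _ hmem
      intro x hx
      have e1 := hα ⟨x, hx⟩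
      rw [hcα] at e1
      -- the element of `P`
      have hw : (y : GL (Fin 4) F)⁻¹ * g * x * ((y : GL (Fin 4) F)⁻¹ * g)⁻¹ * x⁻¹ ∈ P := by
        have : (y : GL (Fin 4) F)⁻¹ * g * x * ((y : GL (Fin 4) F)⁻¹ * g)⁻¹ * x⁻¹ =
          (y : GL (Fin 4) F)⁻¹ * (g * x * g⁻¹) * y * x⁻¹ := by group
        rw [this]
        exact P.mul_mem (P.mul_mem (P.mul_mem (P.inv_mem y.2) (hn x hx)) y.2) (P.inv_mem hx)
      have e2 : φ ⟨_, hw⟩ = 1 := by
        have : (⟨_, hw⟩ : P) = y⁻¹ * ⟨g * x * g⁻¹, hn x hx⟩ * y * ⟨x, hx⟩⁻¹ := by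
          apply Subtype.ext
          change (y : GL (Fin 4) F)⁻¹ * g * x * ((y : GL (Fin 4) F)⁻¹ * g)⁻¹ * x⁻¹ =
            (y : GL (Fin 4) F)⁻¹ * (g * x * g⁻¹) * y * x⁻¹
          group
        rw [this, map_mul, map_mul, map_mul, map_inv, map_inv, ← e1]
        group
      obtain ⟨c, hc'⟩ := (h.ker _).1 e2
      rw [mem_scalars_iff]
      have hc0 : c ≠ 0 := by
        rintro rfl
        rw [zero_smul] at hc'
        have h3 := h.det ⟨_, hw⟩
        rw [hc', Matrix.det_zero] at h3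
        exact zero_ne_one h3
      exact ⟨Units.mk0 c hc0, hc'⟩
    obtain ⟨c, hcc⟩ := (mem_scalars_iff _).1 hsc
    refine ⟨y, c, ?_⟩
    have e3 : g = y * ((y : GL (Fin 4) F)⁻¹ * g) := by group
    conv_lhs => rw [e3]
    rw [Matrix.GeneralLinearGroup.coe_mul, hcc, mul_smul_comm, mul_one]
    rfl
  · exfalso
    obtain ⟨X, E, hX, hE, hXo, -, -, tXa, tXm, -, -⟩ := h.fano_traces h7 Psl7.fano
    have hX' : φ X = Psl7.π Psl7.X := hX
    rw [← hX', hα X] at hconj
    obtain ⟨c, hc'⟩ := isConj_iff.1 hconj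
    obtain ⟨y, rfl⟩ := h.surj c
    set X' : P := ⟨g * X * g⁻¹, hn X X.2⟩ with hXX
    have ho : orderOf X' = orderOf X := by
      rw [← Subgroup.orderOf_coe, ← Subgroup.orderOf_coe]
      exact MulEquiv.orderOf_eq (MulAut.conj g) (X : GL (Fin 4) F)
    have e1 : y * X' * y⁻¹ = X⁻¹ := by
      apply h.conj_lift _ (by rwa [ho]) (by rwa [orderOf_inv])
      rw [map_mul, map_mul, map_inv, hc', map_inv]
    have e2 : tr X⁻¹ = tr X := by
      rw [← e1, tr_conj]
      change (((g * X * g⁻¹ : GL (Fin 4) F)) : Matrix (Fin 4) (Fin 4) F).trace = ((X : GL (Fin 4) F) : Matrix (Fin 4) (Fin 4) F).trace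
      rw [Matrix.GeneralLinearGroup.coe_mul, Matrix.trace_mul_comm, ← Matrix.GeneralLinearGroup.coe_mul]
      congr 2
      group
    rw [e2] at tXa tXm
    apply h7
    linear_combination (2 * tr X + 1) * tXa - 4 * tXm

/-- **A core with socle `L₂(7)` does not give a maximal subgroup.** -/
theorem l7_not_maximal {φ : P →* Psl7.T} (h : Cov P φ) (h2 : (2 : F) ≠ 0) (h7 : (7 : F) ≠ 0)
    {H S : Subgroup (GL (Fin 4) F)} (hc : IsResidualCore H P)
    (hq : ¬ ∃ Q : (Fin 4 → F) → F, IsNondegenerateQuadraticForm Q ∧ FixesQuadForm (matrixSet P) Q)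
    (hs : ¬ ∃ f : (Fin 4 → F) → (Fin 4 → F) → F, IsSymplecticForm f ∧ FixesForm (matrixSet P) f)
    (hmax : IsMaximalIn S H) (hdet : ∀ g ∈ S, (g : Matrix (Fin 4) (Fin 4) F).det = 1)
    (ht : ∀ (θ : Psl7.T ≃* L3Two.T3) (v : L3Two.Pt → Fin 3 ⊕ Fin 3 → F) (b : F), KL.Pts (pts φ θ) →
      KL.Fam (pts φ θ) v b → ∀ x y z : L3Two.Pt, x ≠ y → y ≠ z → x ≠ z →
        ∃ t ∈ S, (t : Matrix (Fin 4) (Fin 4) F) = KL.cyc v b x y z)
    (hτ : ∃ τ ∈ S, (∀ c : F, (τ : Matrix (Fin 4) (Fin 4) F) ≠ c • 1) ∧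
      ∀ u : Fin 3 ⊕ Fin 3 → F, act (τ : Matrix (Fin 4) (Fin 4) F) (act (τ : Matrix (Fin 4) (Fin 4) F) u) + u =
        (2 : F) • act (τ : Matrix (Fin 4) (Fin 4) F) u) : False := by
  have hfac : Fact (Nat.Prime 7) := ⟨by norm_num⟩
  obtain ⟨θ⟩ := Cfsg.Agent.S0255.result (F := ZMod 7) (K := ZMod 2) (ZMod.card 7) (ZMod.card 2)
  have hfin : Finite P := Cov.finite_P (P := P)
  have t : Cov.Two φ := by
    rcases h.dih_two (Psl7.fano.dih 21 Psl7.card_T (by decide) Psl7.inv_conj) with hi | ⟨t, -⟩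
    · exact absurd hi (fun hinj => no_fano h hinj hc.absIrred h7 Psl7.seven.toFano Psl7.bruhat Psl7.sxs)
    · exact t
  have hpts := l7_pts h t h2 h7 θ hc.absIrred hq hs
  obtain ⟨v, b, hv⟩ := hpts.exists_fam h2
  refine KL.not_maximal hpts h2 h7 hv ?_ hmax hdet (l7_normalizer h h7 hc) (ht θ v b hpts hv) hτ
  intro g hg
  obtain ⟨n, hn, -, hn4, -⟩ := fix_cases h t h2 h7 θ g
  exact hn4 (hn.symm.trans hg)

end Cfsg.Agent.H908
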