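import Cfsg.Agent.H908.SevenOver
import Cfsg.Agent.H908.L7Five
import Cfsg.Agent.H908.L3Fix

/-!
# `L₂(7)` in dimension four, odd characteristic: the seven points
-/

set_option autoImplicit false
set_option linter.unusedSectionVars false

namespace Cfsg.Agent.H908

open Cfsg Cfsg.Geo Module
open scoped MatrixGroups commutatorElement

namespace Cov

variable {F : Type*} [Field F] {T : Type*} [Group T] {P : Subgroup (GL (Fin 4) F)} {φ : P →* T}

/-- conjugate images: equal up to conjugation and sign -/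
theorem shape (h : Cov P φ) (hp : Pm φ) {Y y : P} (hc : IsConj (φ Y) (φ y)) :
    (tr y = tr Y ∨ tr y = - tr Y) ∧ tr y ^ 2 - tr (y * y) = tr Y ^ 2 - tr (Y * Y) := by
  obtain ⟨g, hg⟩ := isConj_iff.1 hc
  obtain ⟨x, rfl⟩ := h.surj g
  set Y' := x * Y * x⁻¹ with hY'
  have e1 : tr Y' = tr Y := tr_conj x Y
  have e2 : tr (Y' * Y') = tr (Y * Y) := by
    rw [← tr_conj x (Y * Y), hY']
    congr 1
    group
  have hk : φ (y * Y'⁻¹) = 1 := by
    rw [map_mul, map_inv, hY', map_mul, map_mul, map_inv, hg, mul_inv_cancel]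
  have hy' : y = (y * Y'⁻¹) * Y' := by group
  rcases hp _ hk with h1 | h1
  · have h2 : mt P y = mt P Y' := by
      conv_lhs => rw [hy', map_mul, h1, one_mul]
    have h3 : y = Y' := mt_injective h2
    rw [← e1, ← e2, h3]
    exact ⟨Or.inl rfl, rfl⟩
  · have h2 : mt P y = - mt P Y' := by
      conv_lhs => rw [hy', map_mul, h1, neg_one_mul]
    have h3 : tr y = - tr Y' := by
      unfold tr
      rw [h2, Matrix.trace_neg]
    have h4 : tr (y * y) = tr (Y' * Y') := by
      unfold tr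
      rw [map_mul, map_mul, h2, neg_mul_neg]
    rw [← e1, ← e2, h4, h3]
    exact ⟨Or.inr rfl, by ring⟩

variable [Finite F]

/-- lifts of the elements of orders three and seven -/
theorem fano_lift (h : Cov P φ) (D : Fano T) : ∃ X E : P, φ X = D.x ∧ φ E = D.d ∧ X ^ 7 = 1 ∧ E ^ 3 = 1 ∧ X ≠ 1 ∧
    E * X * E⁻¹ = X ^ 2 ∧ (∀ S : P, φ S = D.s → S * E * S⁻¹ = E⁻¹) := by
  have hxodd : Odd (orderOf D.x) := by
    rw [D.orderOf_x]; decide
  have hdodd : Odd (orderOf D.d) := by
    have : orderOf D.d ∣ 3 := orderOf_dvd_of_pow_eq_one D.hd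
    exact Odd.of_dvd_nat (by decide) this
  obtain ⟨X, hX, hXo⟩ := h.exists_lift D.x hxodd
  obtain ⟨E, hE, hEo⟩ := h.exists_lift D.d hdodd
  have hXodd : Odd (orderOf X) := by rwa [hXo]
  have hEodd : Odd (orderOf E) := by rwa [hEo]
  have hX7 : X ^ 7 = 1 := by
    apply orderOf_dvd_iff_pow_eq_one.1
    rw [hXo]
    exact orderOf_dvd_of_pow_eq_one D.hx
  have hE3 : E ^ 3 = 1 := by
    apply orderOf_dvd_iff_pow_eq_one.1
    rw [hEo]
    exact orderOf_dvd_of_pow_eq_one D.hd
  refine ⟨X, E, hX, hE, hX7, hE3, ?_, ?_, ?_⟩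
  · rintro rfl
    apply D.hx1
    rw [← hX, map_one]
  · apply h.conj_lift _ hXodd (odd_orderOf_pow hXodd 2)
    rw [map_mul, map_mul, map_inv, map_pow, hE, hX, D.hdx]
  · intro S hS
    apply h.conj_lift _ hEodd (by rwa [orderOf_inv])
    rw [map_mul, map_mul, map_inv, map_inv, hS, hE, D.hsd]

/-- the traces of the lifts of the elements of orders three and seven -/
theorem fano_traces (h : Cov P φ) (h7 : (7 : F) ≠ 0) (D : Fano T) : ∃ X E : P, φ X = D.x ∧ φ E = D.d ∧
    Odd (orderOf X) ∧ tr E = 1 ∧ tr (E * E) = 1 ∧ tr X + tr X⁻¹ = 1 ∧ tr X * tr X⁻¹ = 2 ∧ tr (X * X) = tr X ∧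
    tr (X⁻¹ * X⁻¹) = tr X⁻¹ := by
  obtain ⟨X, E, hX, hE, hX7, hE3, hX1, hEX, hSE⟩ := h.fano_lift D
  obtain ⟨S, hS⟩ := h.surj D.s
  have hSE := hSE S hS
  have hEE : E * E = E⁻¹ := by rw [eq_inv_iff_mul_eq_one, ← pow_two, ← pow_succ, hE3]
  have hXinv : X⁻¹ = X ^ 6 := by rw [inv_eq_iff_mul_eq_one, ← pow_succ', hX7]
  set K := AlgebraicClosure F
  set e := ext (F := F) K with he
  have h7' : (7 : K) ≠ 0 := by
    have := (map_ne_zero (algebraMap F K)).2 h7
    rwa [map_ofNat] at this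
  have h4 : finrank K (Fin 4 → K) = 4 := by simp
  have eX : e (mt P X) ^ 7 = 1 := by rw [← map_pow, ← map_pow, hX7, map_one, map_one]
  have eX1 : e (mt P X) ≠ 1 := by
    intro h'
    apply hX1
    apply mt_injective
    apply ext_injective K
    rw [map_one, map_one]
    exact h'
  have eE : e (mt P E) ^ 3 = 1 := by rw [← map_pow, ← map_pow, hE3, map_one, map_one]
  have eEX : e (mt P E) * e (mt P X) = e (mt P X) ^ 2 * e (mt P E) := by
    rw [← map_mul, ← map_pow, ← map_mul, ← map_mul, ← map_pow, ← map_mul]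
    congr 2
    rw [← hEX]
    group
  have hdet : ∀ g : P, LinearMap.det (e (mt P g)) = 1 := fun g => by
    rw [he, det_ext, h.det, map_one]
  have htr : ∀ g : P, LinearMap.trace K _ (e (mt P g)) = algebraMap F K (tr g) := fun g => by
    rw [he, trace_ext]; rfl
  obtain ⟨ζ, v, -, -, -, -, -, -, hli⟩ := exists_seven h7' eX eX1 eE eEX
  have t1 := trace_eq_one h4 eE (hdet E) hli
  rw [htr] at t1
  have t2 : tr E = 1 := by
    apply (algebraMap F K).injective
    rw [t1, map_one]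
  obtain ⟨s1, s2⟩ := seven_op h4 h7' eX eX1 eE eEX (hdet X)
  rw [← map_pow, ← map_pow, ← hXinv, htr, htr] at s1 s2
  refine ⟨X, E, hX, hE, ?_, t2, ?_, ?_, ?_, ?_, ?_⟩
  · have : orderOf X ∣ 7 := orderOf_dvd_of_pow_eq_one hX7
    exact Odd.of_dvd_nat (by decide) this
  · rw [hEE, ← hSE, tr_conj, t2]
  · apply (algebraMap F K).injective
    rw [map_add, map_one]
    exact s1
  · apply (algebraMap F K).injective
    rw [map_mul, map_ofNat]
    exact s2
  · rw [← pow_two, ← hEX, tr_conj]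
  · have : X⁻¹ * X⁻¹ = E * X⁻¹ * E⁻¹ := by
      have h1 : (X ^ 2)⁻¹ = X⁻¹ * X⁻¹ := by group
      rw [← h1, ← hEX]
      group
    rw [this, tr_conj]

end Cov

section L7
variable {F : Type*} [Field F] [Finite F] {P : Subgroup (GL (Fin 4) F)} {φ : P →* Psl7.T}

/-- the action on seven points -/
def pts (φ : P →* Psl7.T) (θ : Psl7.T ≃* L3Two.T3) : P →* Equiv.Perm L3Two.Pt :=
  L3Two.ψ.comp (θ.toMonoidHom.comp φ)

theorem pts_apply (θ : Psl7.T ≃* L3Two.T3) (g : P) : pts φ θ g = L3Two.ψ (θ (φ g)) := rfl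

/-- the number of fixed points and the trace on skew matrices -/
theorem fix_cases (h : Cov P φ) (t : Cov.Two φ) (h2 : (2 : F) ≠ 0) (h7 : (7 : F) ≠ 0) (θ : Psl7.T ≃* L3Two.T3) (y : P) :
    ∃ n : ℕ, (Finset.univ.filter fun z => pts φ θ y z = z).card = n ∧ tr y ^ 2 - tr (y * y) = 2 * ((n : F) - 1) ∧
      n ≠ 4 ∧ (2 ≤ n → y ^ 4 = 1) := by
  obtain ⟨X, E, hX, hE, hXo, tE, tEE, tXa, tXm, tXX, tXX'⟩ := h.fano_traces h7 Psl7.fano
  have hs4 : ∀ z : P, φ z * φ z = 1 → z ^ 4 = 1 := by
    intro z hz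
    have h1 : φ (z * z) = 1 := by rw [map_mul, hz]
    have h3 := t.pm.sq h1
    calc z ^ 4 = z * z * (z * z) := by rw [← pow_two (z * z), ← pow_two z, ← pow_mul]
      _ = 1 := h3
  have hinv : ∀ {z : P}, φ z * φ z = 1 → φ z ≠ 1 → tr z = 0 := by
    intro z hz hz1
    exact t.tr_mixed h h2 ((Psl7.fano.dih 21 Psl7.card_T (by decide) Psl7.inv_conj).mixed_of_sq
      (by rw [pow_two, hz]) hz1)
  have hexp : ∀ z : P, pts φ θ z = L3Two.ψ (θ (φ z)) := fun z => rfl
  rcases Psl7.five (φ y) with h1 | h1 | h1 | h1 | h1 | h1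
  · refine ⟨7, ?_, ?_, by norm_num, fun _ => hs4 y (by rw [h1, one_mul])⟩
    · rw [hexp, h1, map_one]
      exact L3Two.fix_one
    · have h3 := h.shape t.pm (Y := 1) (y := y) (by rw [h1, map_one])
      rw [h3.2]
      have : tr (1 : P) = 4 := by
        unfold tr
        rw [map_one, Matrix.trace_one, Fintype.card_fin]
        norm_num
      rw [one_mul, this]
      norm_num
  · have hyy : φ y * φ y = 1 := by
      obtain ⟨c, hc⟩ := isConj_iff.1 h1
      rw [← hc]
      calc c * Psl7.fano.i * c⁻¹ * (c * Psl7.fano.i * c⁻¹) = c * (Psl7.fano.i * Psl7.fano.i) * c⁻¹ := by group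
        _ = 1 := by rw [Psl7.fano.hi]; group
    have hy1 : φ y ≠ 1 := by
      intro h'
      rw [h', isConj_one_left] at h1
      exact Psl7.fano.hi1 h1
    refine ⟨3, ?_, ?_, by norm_num, fun _ => hs4 y hyy⟩
    · rw [hexp]
      exact L3Two.fix_two _ (by rw [← map_mul, hyy, map_one]) (by
        intro h'
        exact hy1 (by rw [← map_one θ] at h'; exact θ.injective h'))
    · have h3 : tr (y * y) = -4 := by
        unfold tr
        rw [t.sq y hy1 (by rw [pow_two, hyy]), Matrix.trace_neg, Matrix.trace_one, Fintype.card_fin]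
        norm_num
      rw [hinv hyy hy1, h3]
      norm_num
  · refine ⟨1, ?_, ?_, by norm_num, by norm_num⟩
    · rw [hexp]
      obtain ⟨c, hc⟩ := isConj_iff.1 h1
      have hd3 : Psl7.fano.d * Psl7.fano.d * Psl7.fano.d = 1 := by
        rw [← Psl7.fano.hd, pow_succ, pow_two]
      refine L3Two.fix_three _ ?_ ?_
      · rw [← map_mul, ← map_mul, ← hc]
        have : c * Psl7.fano.d * c⁻¹ * (c * Psl7.fano.d * c⁻¹) * (c * Psl7.fano.d * c⁻¹) =
          c * (Psl7.fano.d * Psl7.fano.d * Psl7.fano.d) * c⁻¹ := by group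
        rw [this, hd3, mul_one, mul_inv_cancel, map_one]
      · intro h'
        have h3 : φ y = 1 := by rw [← map_one θ] at h'; exact θ.injective h'
        rw [h3, isConj_one_left] at h1
        have h4 := Psl7.fano.hdi
        rw [h1] at h4
        exact Psl7.fano.hne (by simpa using h4)
    · have h3 := (h.shape t.pm (Y := E) (y := y) (by rw [hE]; exact h1)).2
      rw [h3, tE, tEE]
      norm_num
  · obtain ⟨c, hc⟩ := isConj_iff.1 h1
    have hsq := Psl7.fano.sq_a
    have hji : (Psl7.fano.j * Psl7.fano.i) * (Psl7.fano.j * Psl7.fano.i) = 1 := by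
      calc Psl7.fano.j * Psl7.fano.i * (Psl7.fano.j * Psl7.fano.i) =
            Psl7.fano.j * (Psl7.fano.i * Psl7.fano.j) * Psl7.fano.i := by group
        _ = Psl7.fano.j * (Psl7.fano.j * Psl7.fano.i) * Psl7.fano.i := by rw [Psl7.fano.hij]
        _ = (Psl7.fano.j * Psl7.fano.j) * (Psl7.fano.i * Psl7.fano.i) := by group
        _ = 1 := by rw [Psl7.fano.hj, Psl7.fano.hi, one_mul]
    have hji1 : Psl7.fano.j * Psl7.fano.i ≠ 1 := by
      intro h'
      apply Psl7.fano.hne
      calc Psl7.fano.i = Psl7.fano.j * Psl7.fano.j * Psl7.fano.i := by rw [Psl7.fano.hj, one_mul]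
        _ = Psl7.fano.j * (Psl7.fano.j * Psl7.fano.i) := by group
        _ = Psl7.fano.j := by rw [h', mul_one]
    have e1 : φ y * φ y = c * (Psl7.fano.j * Psl7.fano.i) * c⁻¹ := by
      rw [← hc, ← hsq, pow_two]
      group
    have e2 : φ y * φ y ≠ 1 := by
      rw [e1]
      intro h'
      apply hji1
      rw [mul_inv_eq_one] at h'
      exact mul_left_cancel (h'.trans (mul_one c).symm)
    have e3 : φ y * φ y * (φ y * φ y) = 1 := by
      rw [e1]
      calc c * (Psl7.fano.j * Psl7.fano.i) * c⁻¹ * (c * (Psl7.fano.j * Psl7.fano.i) * c⁻¹) =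
            c * ((Psl7.fano.j * Psl7.fano.i) * (Psl7.fano.j * Psl7.fano.i)) * c⁻¹ := by group
        _ = 1 := by rw [hji]; group
    refine ⟨1, ?_, ?_, by norm_num, by norm_num⟩
    · rw [hexp]
      refine L3Two.fix_four _ ?_ ?_
      · rw [← map_mul, ← map_mul, e3, map_one]
      · rw [← map_mul]
        intro h'
        exact e2 (by rw [← map_one θ] at h'; exact θ.injective h')
    · have e4 : tr y = 0 := t.tr_si h h2 h7 Psl7.fano h1
      have e5 : tr (y * y) = 0 := hinv (by rw [map_mul]; exact e3) (by rw [map_mul]; exact e2)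
      rw [e4, e5]
      norm_num
  · refine ⟨0, ?_, ?_, by norm_num, by norm_num⟩
    · rw [hexp]
      obtain ⟨c, hc⟩ := isConj_iff.1 h1
      refine L3Two.fix_seven _ ?_ ?_
      · rw [← map_pow, ← hc, conj_pow, Psl7.fano.hx, mul_one, mul_inv_cancel, map_one]
      · intro h'
        have h3 : φ y = 1 := by rw [← map_one θ] at h'; exact θ.injective h'
        rw [h3, isConj_one_left] at h1
        exact Psl7.fano.hx1 h1
    · have h3 := (h.shape t.pm (Y := X) (y := y) (by rw [hX]; exact h1)).2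
      rw [h3, tXX]
      push_cast
      linear_combination (tr X) * tXa - tXm
  · refine ⟨0, ?_, ?_, by norm_num, by norm_num⟩
    · rw [hexp]
      obtain ⟨c, hc⟩ := isConj_iff.1 h1
      refine L3Two.fix_seven _ ?_ ?_
      · rw [← map_pow, ← hc, conj_pow, inv_pow, Psl7.fano.hx, inv_one, mul_one, mul_inv_cancel, map_one]
      · intro h'
        have h3 : φ y = 1 := by rw [← map_one θ] at h'; exact θ.injective h'
        rw [h3, isConj_one_left, inv_eq_one] at h1
        exact Psl7.fano.hx1 h1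
    · have h3 := (h.shape t.pm (Y := X⁻¹) (y := y) (by rw [map_inv, hX]; exact h1)).2
      rw [h3, tXX']
      push_cast
      linear_combination (tr X⁻¹) * tXa - tXm

end L7

end Cfsg.Agent.H908
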