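import Mathlib

/-!
# The second compound matrix

`wd g` is the matrix of the exterior square of `g`, on the index type `Pr ι` of pairs `i < j`.
-/

set_option autoImplicit false
set_option linter.unusedSectionVars false

namespace Cfsg.Agent.H908.Wd

open Matrix Finset

variable {ι : Type*} [Fintype ι] [LinearOrder ι] {F : Type*} [CommRing F]

/-- pairs `i < j` -/
abbrev Pr (ι : Type*) [LinearOrder ι] := {p : ι × ι // p.1 < p.2}

/-- the second compound of a matrix -/
def wd (g : Matrix ι ι F) : Matrix (Pr ι) (Pr ι) F :=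
  Matrix.of fun p r => g p.1.1 r.1.1 * g p.1.2 r.1.2 - g p.1.1 r.1.2 * g p.1.2 r.1.1

theorem wd_apply (g : Matrix ι ι F) (p r : Pr ι) :
    wd g p r = g p.1.1 r.1.1 * g p.1.2 r.1.2 - g p.1.1 r.1.2 * g p.1.2 r.1.1 := rfl

/-- a sum over all pairs, split into `i < j`, `i > j` and the diagonal -/
theorem sum_pairs {M : Type*} [AddCommMonoid M] (f : ι → ι → M) :
    ∑ i, ∑ j, f i j = (∑ p : Pr ι, (f p.1.1 p.1.2 + f p.1.2 p.1.1)) + ∑ i, f i i := by
  classical
  have h1 : ∑ p : Pr ι, f p.1.1 p.1.2 = ∑ x ∈ (univ : Finset (ι × ι)).filter (fun x => x.1 < x.2), f x.1 x.2 := by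
    rw [Finset.sum_subtype (s := (univ : Finset (ι × ι)).filter (fun x => x.1 < x.2)) (p := fun x => x.1 < x.2)
      (by intro x; simp) (fun x => f x.1 x.2)]
  have h2 : ∑ p : Pr ι, f p.1.2 p.1.1 = ∑ x ∈ (univ : Finset (ι × ι)).filter (fun x => x.2 < x.1), f x.1 x.2 := by
    rw [← Finset.sum_subtype (s := (univ : Finset (ι × ι)).filter (fun x => x.1 < x.2)) (p := fun x => x.1 < x.2)
      (by intro x; simp) (fun x => f x.2 x.1)]
    refine Finset.sum_nbij' (fun x => (x.2, x.1)) (fun x => (x.2, x.1)) ?_ ?_ ?_ ?_ ?_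
    · intro x hx; simpa using hx
    · intro x hx; simpa using hx
    · intro x _; rfl
    · intro x _; rfl
    · intro x _; rfl
  have h3 : ∑ i, f i i = ∑ x ∈ (univ : Finset (ι × ι)).filter (fun x => x.1 = x.2), f x.1 x.2 := by
    refine Finset.sum_nbij' (fun i => (i, i)) (fun x => x.1) ?_ ?_ ?_ ?_ ?_
    · intro i _; simp
    · intro x _; simp
    · intro i _; rfl
    · intro x hx
      have : x.1 = x.2 := by simpa using hx
      exact Prod.ext rfl this
    · intro i _; rfl
  have h4 : ∑ i, ∑ j, f i j = ∑ x : ι × ι, f x.1 x.2 := (Fintype.sum_prod_type' f).symm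
  rw [Finset.sum_add_distrib, h1, h2, h3, h4]
  rw [← Finset.sum_filter_add_sum_filter_not univ (fun x : ι × ι => x.1 < x.2) (fun x => f x.1 x.2), add_assoc]
  congr 1
  rw [← Finset.sum_filter_add_sum_filter_not (univ.filter fun x : ι × ι => ¬ x.1 < x.2) (fun x : ι × ι => x.2 < x.1)
    (fun x => f x.1 x.2)]
  congr 1
  · apply Finset.sum_congr _ (fun _ _ => rfl)
    ext x
    simp only [mem_filter, mem_univ, true_and, not_lt]
    constructor
    · rintro ⟨_, h⟩; exact h
    · intro h; exact ⟨h.le, h⟩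
  · apply Finset.sum_congr _ (fun _ _ => rfl)
    ext x
    simp only [mem_filter, mem_univ, true_and, not_lt]
    constructor
    · rintro ⟨h, h'⟩; exact le_antisymm h' h
    · intro h; exact ⟨h.ge, h.le⟩

theorem wd_mul (a b : Matrix ι ι F) : wd (a * b) = wd a * wd b := by
  ext p r
  rw [wd_apply, Matrix.mul_apply (M := wd a), Matrix.mul_apply, Matrix.mul_apply, Matrix.mul_apply, Matrix.mul_apply]
  have h1 : (∑ j, a p.1.1 j * b j r.1.1) * (∑ j, a p.1.2 j * b j r.1.2) -
      (∑ j, a p.1.1 j * b j r.1.2) * (∑ j, a p.1.2 j * b j r.1.1) =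
      ∑ k, ∑ l, a p.1.1 k * a p.1.2 l * (b k r.1.1 * b l r.1.2 - b k r.1.2 * b l r.1.1) := by
    rw [Finset.sum_mul_sum, Finset.sum_mul_sum, ← Finset.sum_sub_distrib]
    refine Finset.sum_congr rfl fun k _ => ?_
    rw [← Finset.sum_sub_distrib]
    refine Finset.sum_congr rfl fun l _ => ?_
    ring
  rw [h1, sum_pairs]
  have h2 : ∑ i, a p.1.1 i * a p.1.2 i * (b i r.1.1 * b i r.1.2 - b i r.1.2 * b i r.1.1) = 0 :=
    Finset.sum_eq_zero fun i _ => by ring
  rw [h2, add_zero]
  refine Finset.sum_congr rfl fun x _ => ?_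
  rw [wd_apply, wd_apply]
  ring

theorem wd_one : wd (1 : Matrix ι ι F) = 1 := by
  ext p r
  rw [wd_apply]
  obtain ⟨⟨i, j⟩, hij⟩ := p
  obtain ⟨⟨k, l⟩, hkl⟩ := r
  simp only [Matrix.one_apply] at hij hkl ⊢
  by_cases h : i = k ∧ j = l
  · obtain ⟨rfl, rfl⟩ := h
    simp [hij.ne, hij.ne']
  · rw [if_neg (c := (⟨(i, j), hij⟩ : Pr ι) = ⟨(k, l), hkl⟩)]
    · by_cases h1 : i = k
      · subst h1
        have h2 : j ≠ l := fun h3 => h ⟨rfl, h3⟩
        by_cases h4 : i = l
        · subst h4; exact absurd hkl (lt_irrefl _)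
        · simp [h2, h4]
      · by_cases h4 : i = l
        · subst h4
          have h5 : j ≠ k := by
            rintro rfl
            exact absurd hkl (not_lt.2 hij.le)
          simp [h1, h5]
        · simp [h1, h4]
    · intro h1
      apply h
      have h2 := congrArg Subtype.val h1
      exact ⟨congrArg Prod.fst h2, congrArg Prod.snd h2⟩

theorem wd_transpose (g : Matrix ι ι F) : wd gᵀ = (wd g)ᵀ := by
  ext p r
  change g r.1.1 p.1.1 * g r.1.2 p.1.2 - g r.1.2 p.1.1 * g r.1.1 p.1.2 =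
    g r.1.1 p.1.1 * g r.1.2 p.1.2 - g r.1.1 p.1.2 * g r.1.2 p.1.1
  ring

theorem wd_smul (c : F) (g : Matrix ι ι F) : wd (c • g) = c ^ 2 • wd g := by
  ext p r
  change c * g p.1.1 r.1.1 * (c * g p.1.2 r.1.2) - c * g p.1.1 r.1.2 * (c * g p.1.2 r.1.1) =
    c ^ 2 * (g p.1.1 r.1.1 * g p.1.2 r.1.2 - g p.1.1 r.1.2 * g p.1.2 r.1.1)
  ring

theorem trace_wd (g : Matrix ι ι F) : 2 * (wd g).trace = g.trace ^ 2 - (g * g).trace := by
  have h1 : g.trace ^ 2 - (g * g).trace = ∑ i, ∑ j, (g i i * g j j - g i j * g j i) := by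
    rw [Matrix.trace, Matrix.trace, pow_two, Finset.sum_mul_sum, ← Finset.sum_sub_distrib]
    refine Finset.sum_congr rfl fun i _ => ?_
    rw [Matrix.diag_apply, Matrix.diag_apply, Matrix.mul_apply, ← Finset.sum_sub_distrib]
    refine Finset.sum_congr rfl fun j _ => ?_
    simp only [Matrix.diag_apply]
  rw [h1, sum_pairs, Matrix.trace, Finset.mul_sum]
  have h2 : ∑ i, (g i i * g i i - g i i * g i i) = 0 := Finset.sum_eq_zero fun i _ => by ring
  rw [h2, add_zero]
  refine Finset.sum_congr rfl fun p _ => ?_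
  rw [Matrix.diag_apply, wd_apply]
  ring

/-- the second compound as a homomorphism of monoids -/
def wdHom : Matrix ι ι F →* Matrix (Pr ι) (Pr ι) F where
  toFun := wd
  map_one' := wd_one
  map_mul' := wd_mul

/-! ### skew matrices -/

/-- the skew matrix of a vector -/
def sk (v : Pr ι → F) : Matrix ι ι F :=
  Matrix.of fun i j => if h : i < j then v ⟨(i, j), h⟩ else if h : j < i then - v ⟨(j, i), h⟩ else 0

theorem sk_lt (v : Pr ι → F) {i j : ι} (h : i < j) : sk v i j = v ⟨(i, j), h⟩ := by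
  simp [sk, h]

theorem sk_gt (v : Pr ι → F) {i j : ι} (h : j < i) : sk v i j = - v ⟨(j, i), h⟩ := by
  simp [sk, h, h.not_gt]

theorem sk_self (v : Pr ι → F) (i : ι) : sk v i i = 0 := by
  simp [sk]

theorem sk_skew (v : Pr ι → F) (i j : ι) : sk v j i = - sk v i j := by
  rcases lt_trichotomy i j with h | rfl | h
  · rw [sk_lt v h, sk_gt v h]
  · rw [sk_self, neg_zero]
  · rw [sk_gt v h, sk_lt v h, neg_neg]

theorem sk_mulVec (g : Matrix ι ι F) (v : Pr ι → F) : sk (wd g *ᵥ v) = g * sk v * gᵀ := by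
  have key : ∀ i j, (g * sk v * gᵀ) i j =
      ∑ p : Pr ι, (g i p.1.1 * g j p.1.2 - g i p.1.2 * g j p.1.1) * v p := by
    intro i j
    rw [Matrix.mul_apply]
    have h1 : ∑ l, (g * sk v) i l * gᵀ l j = ∑ k, ∑ l, g i k * sk v k l * g j l := by
      rw [Finset.sum_comm]
      refine Finset.sum_congr rfl fun l _ => ?_
      rw [Matrix.mul_apply, Finset.sum_mul]
      refine Finset.sum_congr rfl fun k _ => ?_
      rw [Matrix.transpose_apply]
    rw [h1, sum_pairs]
    have h2 : ∑ k, g i k * sk v k k * g j k = 0 := Finset.sum_eq_zero fun k _ => by rw [sk_self]; ring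
    rw [h2, add_zero]
    refine Finset.sum_congr rfl fun p _ => ?_
    rw [sk_lt v p.2, sk_gt v p.2]
    ring
  ext i j
  rw [key]
  rcases lt_trichotomy i j with h | rfl | h
  · rw [sk_lt _ h]
    rfl
  · rw [sk_self]
    exact (Finset.sum_eq_zero fun p _ => by ring).symm
  · rw [sk_gt _ h, Matrix.mulVec, dotProduct, ← Finset.sum_neg_distrib]
    refine Finset.sum_congr rfl fun p _ => ?_
    rw [wd_apply]
    ring

theorem sk_smul (c : F) (v : Pr ι → F) : sk (c • v) = c • sk v := by
  ext i j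
  rw [Matrix.smul_apply]
  rcases lt_trichotomy i j with h | rfl | h
  · rw [sk_lt _ h, sk_lt _ h]; rfl
  · rw [sk_self, sk_self, smul_zero]
  · rw [sk_gt _ h, sk_gt _ h, smul_neg]; rfl

/-- decomposable vectors -/
def Dec (v : Pr ι → F) : Prop := ∃ a b : ι → F, ∀ i j, sk v i j = a i * b j - b i * a j

theorem Dec.wd {v : Pr ι → F} (h : Dec v) (g : Matrix ι ι F) : Dec (wd g *ᵥ v) := by
  obtain ⟨a, b, h⟩ := h
  refine ⟨g *ᵥ a, g *ᵥ b, fun i j => ?_⟩
  rw [sk_mulVec]
  have h1 : sk v = Matrix.of fun i j => a i * b j - b i * a j := by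
    ext i j; rw [h]; rfl
  rw [h1, Matrix.mul_apply]
  simp only [Matrix.mulVec, dotProduct, Matrix.transpose_apply, Matrix.mul_apply, Matrix.of_apply]
  rw [Finset.sum_mul_sum, Finset.sum_mul_sum, Finset.sum_comm, Finset.sum_comm (γ := ι) (f := fun k l => g i k * b k * (g j l * a l)),
    ← Finset.sum_sub_distrib]
  refine Finset.sum_congr rfl fun l _ => ?_
  rw [← Finset.sum_sub_distrib, Finset.sum_mul]
  refine Finset.sum_congr rfl fun k _ => ?_
  ring

theorem Dec.smul {v : Pr ι → F} (h : Dec v) (c : F) : Dec (c • v) := by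
  obtain ⟨a, b, h⟩ := h
  refine ⟨c • a, b, fun i j => ?_⟩
  rw [sk_smul, Matrix.smul_apply, h]
  simp only [Pi.smul_apply, smul_eq_mul]
  ring

/-- the Plücker relation -/
theorem Dec.pluecker {v : Pr ι → F} (h : Dec v) (i j k l : ι) :
    sk v i j * sk v k l - sk v i k * sk v j l + sk v i l * sk v j k = 0 := by
  obtain ⟨a, b, h⟩ := h
  rw [h, h, h, h, h, h]
  ring

/-- the exterior product of two vectors -/
def wv (a b : ι → F) : Pr ι → F := fun p => a p.1.1 * b p.1.2 - b p.1.1 * a p.1.2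

theorem sk_wv (a b : ι → F) (i j : ι) : sk (wv a b) i j = a i * b j - b i * a j := by
  rcases lt_trichotomy i j with h | rfl | h
  · rw [sk_lt _ h]; rfl
  · rw [sk_self]; ring
  · rw [sk_gt _ h, wv]; ring

theorem sk_add (u v : Pr ι → F) (i j : ι) : sk (u + v) i j = sk u i j + sk v i j := by
  rcases lt_trichotomy i j with h | rfl | h
  · rw [sk_lt _ h, sk_lt _ h, sk_lt _ h]; rfl
  · rw [sk_self, sk_self, sk_self, add_zero]
  · rw [sk_gt _ h, sk_gt _ h, sk_gt _ h, Pi.add_apply, neg_add]

theorem dec_wv (a b : ι → F) : Dec (wv a b) := ⟨a, b, sk_wv a b⟩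

theorem wv_dot (a b c d : ι → F) : wv a b ⬝ᵥ wv c d = (a ⬝ᵥ c) * (b ⬝ᵥ d) - (a ⬝ᵥ d) * (b ⬝ᵥ c) := by
  have h1 : (a ⬝ᵥ c) * (b ⬝ᵥ d) - (a ⬝ᵥ d) * (b ⬝ᵥ c) = ∑ k, ∑ l, a k * b l * (c k * d l - d k * c l) := by
    simp only [dotProduct]
    rw [Finset.sum_mul_sum, Finset.sum_mul_sum, ← Finset.sum_sub_distrib]
    refine Finset.sum_congr rfl fun k _ => ?_
    rw [← Finset.sum_sub_distrib]
    refine Finset.sum_congr rfl fun l _ => ?_
    ring
  rw [h1, sum_pairs]
  have h2 : ∑ i, a i * b i * (c i * d i - d i * c i) = 0 := Finset.sum_eq_zero fun i _ => by ring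
  rw [h2, add_zero, dotProduct]
  refine Finset.sum_congr rfl fun x _ => ?_
  rw [wv, wv]
  ring

theorem wd_wv (g : Matrix ι ι F) (c d : ι → F) : wd g *ᵥ wv c d = wv (g *ᵥ c) (g *ᵥ d) := by
  funext p
  have h := wv_dot (fun j => g p.1.1 j) (fun j => g p.1.2 j) c d
  have h1 : (wd g *ᵥ wv c d) p = wv (fun j => g p.1.1 j) (fun j => g p.1.2 j) ⬝ᵥ wv c d := by
    rw [Matrix.mulVec, dotProduct, dotProduct]
    refine Finset.sum_congr rfl fun q _ => ?_
    rw [wd_apply, wv, wv]
    ring
  rw [h1, h, wv]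
  simp only [Matrix.mulVec]

/-- a matrix whose compound is scalar is scalar -/
theorem scalar_of_wd {F : Type*} [Field F] {g : Matrix ι ι F} {c : F} (hc : c ≠ 0) (h : wd g = c • 1)
    (h3 : 3 ≤ Fintype.card ι) : ∃ d : F, g = d • 1 := by
  classical
  -- two-dimensional coordinate planes are mapped to themselves
  have key : ∀ i j k, i ≠ j → k ≠ i → k ≠ j → g k i = 0 := by
    intro i j k hij hki hkj
    -- rows `k`, `m` and columns `i`, `j`
    have hm : ∀ m, g k i * g m j - g k j * g m i = 0 := by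
      intro m
      rcases lt_trichotomy k m with hkm | rfl | hkm
      · rcases lt_or_gt_of_ne hij with hlt | hlt
        · have h1 := congrFun (congrFun h ⟨(k, m), hkm⟩) ⟨(i, j), hlt⟩
          rw [wd_apply, Matrix.smul_apply, Matrix.one_apply_ne, smul_zero] at h1
          · exact h1
          · intro h2
            exact hki (congrArg (fun x : Pr ι => x.1.1) h2)
        · have h1 := congrFun (congrFun h ⟨(k, m), hkm⟩) ⟨(j, i), hlt⟩
          rw [wd_apply, Matrix.smul_apply, Matrix.one_apply_ne, smul_zero] at h1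
          · linear_combination -h1
          · intro h2
            exact hkj (congrArg (fun x : Pr ι => x.1.1) h2)
      · ring
      · rcases lt_or_gt_of_ne hij with hlt | hlt
        · have h1 := congrFun (congrFun h ⟨(m, k), hkm⟩) ⟨(i, j), hlt⟩
          rw [wd_apply, Matrix.smul_apply, Matrix.one_apply_ne, smul_zero] at h1
          · linear_combination -h1
          · intro h2
            exact hkj (congrArg (fun x : Pr ι => x.1.2) h2)
        · have h1 := congrFun (congrFun h ⟨(m, k), hkm⟩) ⟨(j, i), hlt⟩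
          rw [wd_apply, Matrix.smul_apply, Matrix.one_apply_ne, smul_zero] at h1
          · linear_combination h1
          · intro h2
            exact hki (congrArg (fun x : Pr ι => x.1.2) h2)
    -- the columns `i`, `j` are independent
    have h2 : g i i * g j j - g i j * g j i ≠ 0 := by
      rcases lt_or_gt_of_ne hij with hlt | hlt
      · have h1 := congrFun (congrFun h ⟨(i, j), hlt⟩) ⟨(i, j), hlt⟩
        rw [wd_apply, Matrix.smul_apply, Matrix.one_apply_eq, smul_eq_mul, mul_one] at h1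
        simp only at h1
        rw [h1]; exact hc
      · have h1 := congrFun (congrFun h ⟨(j, i), hlt⟩) ⟨(j, i), hlt⟩
        rw [wd_apply, Matrix.smul_apply, Matrix.one_apply_eq, smul_eq_mul, mul_one] at h1
        simp only at h1
        intro h0
        apply hc
        rw [← h1]
        linear_combination h0
    have h5 := hm i
    have h6 := hm j
    by_contra h0
    apply h2
    have h7 : g k i * (g i i * g j j - g i j * g j i) = 0 := by
      linear_combination g i i * h6 - g j i * h5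
    exact (mul_eq_zero.1 h7).resolve_left h0
  have hoff : ∀ k i, k ≠ i → g k i = 0 := by
    intro k i hki
    obtain ⟨j, hj⟩ : ∃ j, j ∉ ({k, i} : Finset ι) := by
      by_contra hcon
      push Not at hcon
      have h1 := Finset.card_le_card (fun x _ => hcon x : (Finset.univ : Finset ι) ⊆ {k, i})
      rw [Finset.card_univ] at h1
      have h2 : ({k, i} : Finset ι).card ≤ 2 := Finset.card_le_two
      omega
    rw [Finset.mem_insert, Finset.mem_singleton, not_or] at hj
    exact key i j k (Ne.symm hj.2) hki (Ne.symm hj.1)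
  have hdiag : ∀ i j, i ≠ j → g i i * g j j = c := by
    intro i j hij
    rcases lt_or_gt_of_ne hij with hlt | hlt
    · have h1 := congrFun (congrFun h ⟨(i, j), hlt⟩) ⟨(i, j), hlt⟩
      rw [wd_apply, Matrix.smul_apply, Matrix.one_apply_eq, smul_eq_mul, mul_one] at h1
      simp only at h1
      rw [hoff i j hij, zero_mul, sub_zero] at h1
      exact h1
    · have h1 := congrFun (congrFun h ⟨(j, i), hlt⟩) ⟨(j, i), hlt⟩
      rw [wd_apply, Matrix.smul_apply, Matrix.one_apply_eq, smul_eq_mul, mul_one] at h1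
      simp only at h1
      rw [hoff i j hij, mul_zero, sub_zero] at h1
      rw [mul_comm]; exact h1
  have heq : ∀ i j, g i i = g j j := by
    intro i j
    by_cases hij : i = j
    · rw [hij]
    · obtain ⟨k, hk⟩ : ∃ k, k ∉ ({i, j} : Finset ι) := by
        by_contra hcon
        push Not at hcon
        have h1 := Finset.card_le_card (fun x _ => hcon x : (Finset.univ : Finset ι) ⊆ {i, j})
        rw [Finset.card_univ] at h1
        have h2 : ({i, j} : Finset ι).card ≤ 2 := Finset.card_le_two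
        omega
      rw [Finset.mem_insert, Finset.mem_singleton, not_or] at hk
      have h1 := hdiag i k (Ne.symm hk.1)
      have h2 := hdiag j k (Ne.symm hk.2)
      have h3 : g k k ≠ 0 := by
        intro h0
        rw [h0, mul_zero] at h1
        exact hc h1.symm
      exact mul_right_cancel₀ h3 (h1.trans h2.symm)
  have hne : Nonempty ι := Fintype.card_pos_iff.1 (by omega)
  obtain ⟨i₀⟩ := hne
  refine ⟨g i₀ i₀, ?_⟩
  ext i j
  rw [Matrix.smul_apply, Matrix.one_apply]
  split_ifs with hij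
  · subst hij
    rw [smul_eq_mul, mul_one]; exact heq i i₀
  · rw [smul_zero]; exact hoff i j hij

end Cfsg.Agent.H908.Wd
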