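import Cfsg.Agent.H882.Del.Max
import Cfsg.Agent.H883.Bridge
import Cfsg.Agent.H906.Trace
import Cfsg.Agent.H915.LD
import Cfsg.Agent.H908.Wedge

/-!
# The overgroup `Λ²(O₅(q))` in dimension ten

`lam_false`: `H` maximal in `Ω₁₀(Q)` with core `P`, `P` acting as `Λ²` of a representation `ψ` of dimension five whose
image preserves the form `6·1 - J` and permutes the 42 vectors `± v i`, `v i - v j`, and `H` inducing on `P` only
automorphisms induced by such elements: contradiction.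
-/

set_option autoImplicit false
set_option linter.unusedSectionVars false

namespace Cfsg.Agent.H908.Lam

open Cfsg Cfsg.Geo Matrix Cfsg.Agent.H908.Wd Cfsg.Agent.H915.LD Cfsg.Agent.H883.Bridge
open Cfsg.Agent.LieClassical.OrthCore Cfsg.Agent.LieClassical.OrthTrans Cfsg.Agent.LieClassical.OrthFinite
open Cfsg.Agent.H882.Del

universe u

/-! ### traces determine the span -/

theorem span_of_trace {ι : Type} [Fintype ι] [DecidableEq ι] {F : Type*} [Field F] {G : Type*} [Group G] [Finite G]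
    (ρ₁ ρ₂ : G →* Matrix ι ι F) (h₁ : Submodule.span F (Set.range ρ₁) = ⊤) (htr : ∀ g, (ρ₁ g).trace = (ρ₂ g).trace) :
    Submodule.span F (Set.range ρ₂) = ⊤ := by
  classical
  have := Fintype.ofFinite G
  let a₁ : (G → F) →ₗ[F] Matrix ι ι F := Fintype.linearCombination F ρ₁
  let a₂ : (G → F) →ₗ[F] Matrix ι ι F := Fintype.linearCombination F ρ₂
  have hr₁ : LinearMap.range a₁ = ⊤ := by rw [← h₁]; exact Fintype.range_linearCombination F ρ₁
  have hr₂ : LinearMap.range a₂ = Submodule.span F (Set.range ρ₂) := Fintype.range_linearCombination F ρ₂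
  have hk : LinearMap.ker a₂ ≤ LinearMap.ker a₁ := by
    intro x hx
    rw [LinearMap.mem_ker] at hx ⊢
    apply Cfsg.Agent.H906.eq_zero_of_trace_mul h₁
    rintro _ ⟨h, rfl⟩
    have e₁ : a₁ x * ρ₁ h = ∑ g, x g • ρ₁ (g * h) := by
      change (∑ g, x g • ρ₁ g) * ρ₁ h = _
      rw [Finset.sum_mul]
      exact Finset.sum_congr rfl fun g _ => by rw [smul_mul_assoc, map_mul]
    have e₂ : a₂ x * ρ₂ h = ∑ g, x g • ρ₂ (g * h) := by
      change (∑ g, x g • ρ₂ g) * ρ₂ h = _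
      rw [Finset.sum_mul]
      exact Finset.sum_congr rfl fun g _ => by rw [smul_mul_assoc, map_mul]
    have e₃ : (a₁ x * ρ₁ h).trace = (a₂ x * ρ₂ h).trace := by
      rw [e₁, e₂, Matrix.trace_sum, Matrix.trace_sum]
      exact Finset.sum_congr rfl fun g _ => by rw [Matrix.trace_smul, Matrix.trace_smul, htr]
    rw [e₃, hx, zero_mul, Matrix.trace_zero]
  have h1 := LinearMap.finrank_range_add_finrank_ker a₁
  have h2 := LinearMap.finrank_range_add_finrank_ker a₂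
  have h3 := Submodule.finrank_mono hk
  rw [← hr₂]
  apply Submodule.eq_top_of_finrank_eq
  apply le_antisymm (Submodule.finrank_le _)
  have h4 : Module.finrank F (LinearMap.range a₁) = Module.finrank F (Matrix ι ι F) := by rw [hr₁]; exact finrank_top F _
  omega

theorem omegaGL_eq {ι : Type} [Fintype ι] [DecidableEq ι] {F : Type*} [Field F] (Q : (ι → F) → F) :
    omegaGL Q = ⁅isometryGroup F Q, isometryGroup F Q⁆ := by
  rw [omegaGL]
  exact Subgroup.map_subtype_commutator _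

theorem comm_le {G : Type*} [Group G] (K : Subgroup G) : ⁅K, K⁆ ≤ K := by
  rw [Subgroup.commutator_le]
  intro a ha b hb
  exact K.mul_mem (K.mul_mem (K.mul_mem ha hb) (K.inv_mem ha)) (K.inv_mem hb)

theorem mem_isometry {ι : Type} [Fintype ι] [DecidableEq ι] {F : Type*} [Field F] {Q : (ι → F) → F} {g : GL ι F} :
    g ∈ isometryGroup F Q ↔ ∀ v, Q ((g : Matrix ι ι F) *ᵥ v) = Q v :=
  ⟨fun h v => h v v, fun h v _ => h v⟩

/-! ### the form of dimension five -/

section five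

variable {F : Type*} [Field F]

/-- the Gram matrix `6·1 - J` -/
def Sm : Matrix (Fin 5) (Fin 5) F := Matrix.of fun i j => if i = j then 5 else -1

/-- the quadratic form `x ↦ x ⬝ S x` -/
noncomputable def q5 (F : Type*) [Field F] : QuadraticForm F (Fin 5 → F) :=
  (Matrix.toBilin' (Sm : Matrix (Fin 5) (Fin 5) F)).toQuadraticMap

theorem q5_apply (x : Fin 5 → F) : q5 F x = x ⬝ᵥ (Sm *ᵥ x) := by
  rw [q5, LinearMap.BilinMap.toQuadraticMap_apply, Matrix.toBilin'_apply']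

theorem Sm_transpose : (Sm : Matrix (Fin 5) (Fin 5) F)ᵀ = Sm := by
  ext i j
  rw [Matrix.transpose_apply]
  simp only [Sm, Matrix.of_apply, eq_comm]

theorem Sm_dot (x y : Fin 5 → F) : x ⬝ᵥ (Sm *ᵥ y) = 6 * (x ⬝ᵥ y) - (∑ i, x i) * ∑ i, y i := by
  have h : (Sm : Matrix (Fin 5) (Fin 5) F) *ᵥ y = fun i => 6 * y i - ∑ j, y j := by
    funext i
    fin_cases i <;> simp [Sm, Matrix.mulVec, dotProduct, Fin.sum_univ_five] <;> ring
  rw [h]
  generalize ∑ j, y j = c
  rw [dotProduct, dotProduct, Finset.mul_sum, Finset.sum_mul, ← Finset.sum_sub_distrib]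
  exact Finset.sum_congr rfl fun i _ => by ring

theorem polar_q5 (x y : Fin 5 → F) : QuadraticMap.polar (q5 F) x y = 2 * (x ⬝ᵥ (Sm *ᵥ y)) := by
  rw [q5, LinearMap.BilinMap.polar_toQuadraticMap, Matrix.toBilin'_apply', Matrix.toBilin'_apply', Sm_dot, Sm_dot,
    dotProduct_comm y x]
  ring

theorem nondeg_q5 (h2 : (2 : F) ≠ 0) (h3 : (3 : F) ≠ 0) : Nondeg (q5 F) := by
  intro x hx
  have h : ∀ k, 6 * x k - ∑ i, x i = 0 := by
    intro k
    have h1 := hx (Pi.single k 1)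
    rw [polar_q5, Sm_dot] at h1
    have h4 : ∑ i, (Pi.single k 1 : Fin 5 → F) i = 1 := by
      rw [Finset.sum_pi_single']
      simp
    rw [h4, dotProduct_single, mul_one, mul_one] at h1
    exact (mul_eq_zero.1 h1).resolve_left h2
  have hs : ∑ i, x i = 0 := by
    have h1 : ∑ k : Fin 5, (6 * x k - ∑ i, x i) = 0 := Finset.sum_eq_zero fun k _ => h k
    rw [Finset.sum_sub_distrib, ← Finset.mul_sum, Finset.sum_const, Finset.card_univ, Fintype.card_fin, nsmul_eq_mul] at h1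
    push_cast at h1
    linear_combination h1
  funext k
  have h1 := h k
  rw [hs, sub_zero] at h1
  have h6 : (6 : F) ≠ 0 := by
    intro h0
    have : (2 : F) * 3 = 0 := by rw [← h0]; norm_num
    rcases mul_eq_zero.1 this with h | h
    · exact h2 h
    · exact h3 h
  exact (mul_eq_zero.1 h1).resolve_left h6

/-- the six vectors with sum zero -/
def v6 (F : Type*) [Field F] (i : Fin 6) : Fin 5 → F := fun j => if (i : ℕ) = 5 then -1 else if (i : ℕ) = j then 1 else 0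

theorem v6_castSucc (i : Fin 5) : v6 F i.castSucc = Pi.single i 1 := by
  funext j
  have h1 : ((i.castSucc : Fin 6) : ℕ) ≠ 5 := by simp; omega
  rw [v6, if_neg h1, Pi.single_apply]
  simp only [Fin.val_castSucc, Fin.ext_iff, eq_comm]

theorem v6_last : v6 F (Fin.last 5) = fun _ => -1 := by
  funext j
  simp [v6]

theorem sys6 : Sys F (v6 F) where
  span := by
    rw [eq_top_iff, ← (Pi.basisFun F (Fin 5)).span_eq, Submodule.span_le]
    rintro _ ⟨i, rfl⟩
    apply Submodule.subset_span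
    refine ⟨i.castSucc, ?_⟩
    rw [v6_castSucc, Pi.basisFun_apply]
  card := by simp
  pos := by simp
  sum := by
    rw [Fin.sum_univ_castSucc]
    simp only [v6_castSucc, v6_last]
    funext j
    rw [Pi.add_apply, Finset.sum_apply, Pi.zero_apply]
    simp [Pi.single_apply]

theorem gr6 : Gr (q5 F) (v6 F) (-2) := by
  intro i j hij
  rw [polar_q5, Sm_dot]
  have hsum : ∀ i : Fin 5, ∑ k, (Pi.single i 1 : Fin 5 → F) k = 1 := by
    intro i
    rw [Finset.sum_pi_single']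
    simp
  have hcon : ∑ _k : Fin 5, (-1 : F) = -5 := by
    rw [Finset.sum_const, Finset.card_univ, Fintype.card_fin, nsmul_eq_mul]; push_cast; ring
  induction i using Fin.lastCases with
  | last =>
    induction j using Fin.lastCases with
    | last => exact absurd rfl hij
    | cast j =>
      rw [v6_castSucc, v6_last, hsum, dotProduct_single, mul_one, hcon]
      ring
  | cast i =>
    induction j using Fin.lastCases with
    | last =>
      rw [v6_castSucc, v6_last, hsum, single_dotProduct, one_mul, hcon]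
      ring
    | cast j =>
      have h1 : i ≠ j := fun h => hij (by rw [h])
      rw [v6_castSucc, v6_castSucc, hsum, hsum, dotProduct_single, mul_one, Pi.single_eq_of_ne (Ne.symm h1)]
      ring

/-- the stabiliser of the 42 vectors in the isometry group, as matrices -/
noncomputable def R6 (F : Type*) [Field F] : Subgroup (GL (Fin 5) F) :=
  (stabR (q5 F) (v6 F)).comap (Cfsg.Agent.LieClassical.OrthFinite.glEquiv (Fin 5) F).toMonoidHom

end five

/-! ### the exterior square of dimension ten -/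

section ten

variable {F : Type u} [Field F]

/-- ten pairs -/
noncomputable def e10 : Pr (Fin 5) ≃ Fin 10 := Fintype.equivFinOfCardEq (by decide)

/-- the exterior square, as matrices of size ten -/
noncomputable def WM : Matrix (Fin 5) (Fin 5) F →* Matrix (Fin 10) (Fin 10) F :=
  ((Matrix.reindexAlgEquiv F F e10 : Matrix (Pr (Fin 5)) (Pr (Fin 5)) F →* Matrix (Fin 10) (Fin 10) F)).comp wdHom

theorem WM_apply (g : Matrix (Fin 5) (Fin 5) F) : WM g = Matrix.reindex e10 e10 (wd g) := rfl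

theorem WM_trace (g : Matrix (Fin 5) (Fin 5) F) : (WM g).trace = (wd g).trace := by
  rw [WM_apply, Matrix.trace, Matrix.trace, ← Equiv.sum_comp e10]
  refine Finset.sum_congr rfl fun p _ => ?_
  simp [Matrix.diag_apply, Matrix.reindex_apply, Matrix.submatrix_apply]

theorem WM_transpose (g : Matrix (Fin 5) (Fin 5) F) : (WM g)ᵀ = WM gᵀ := by
  rw [WM_apply, WM_apply, wd_transpose, Matrix.transpose_reindex]

theorem WM_mulVec (g : Matrix (Fin 5) (Fin 5) F) (v : Fin 10 → F) : (WM g *ᵥ v) ∘ e10 = wd g *ᵥ (v ∘ e10) := by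
  funext p
  rw [WM_apply, Function.comp_apply, Matrix.mulVec, Matrix.mulVec, dotProduct, dotProduct, ← Equiv.sum_comp e10]
  refine Finset.sum_congr rfl fun q _ => ?_
  simp [Matrix.reindex_apply, Matrix.submatrix_apply]

theorem WM_smul (c : F) (g : Matrix (Fin 5) (Fin 5) F) : WM (c • g) = c ^ 2 • WM g := by
  rw [WM_apply, WM_apply, wd_smul]
  rfl

theorem scalar_of_WM {g : Matrix (Fin 5) (Fin 5) F} {c : F} (hc : c ≠ 0) (h : WM g = c • 1) : ∃ d : F, g = d • 1 := by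
  apply scalar_of_wd hc _ (by simp)
  ext p q
  have h1 := congrFun (congrFun h (e10 p)) (e10 q)
  rw [WM_apply, Matrix.reindex_apply, Matrix.submatrix_apply, Equiv.symm_apply_apply, Equiv.symm_apply_apply,
    Matrix.smul_apply, Matrix.one_apply] at h1
  rw [h1, Matrix.smul_apply, Matrix.one_apply]
  simp only [EmbeddingLike.apply_eq_iff_eq]

/-- the exterior square on `GL₅` -/
noncomputable def WG (B : GL (Fin 10) F) : GL (Fin 5) F →* GL (Fin 10) F :=
  (MulAut.conj B).toMonoidHom.comp (Units.map WM)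

theorem WG_coe (B : GL (Fin 10) F) (g : GL (Fin 5) F) : ((WG B g : GL (Fin 10) F) : Matrix (Fin 10) (Fin 10) F) =
    (B : Matrix (Fin 10) (Fin 10) F) * WM (g : Matrix (Fin 5) (Fin 5) F) * ((B⁻¹ : GL (Fin 10) F) : Matrix (Fin 10) (Fin 10) F) :=
  rfl

/-- the invariant form -/
noncomputable def T10 (B : GL (Fin 10) F) : Matrix (Fin 10) (Fin 10) F :=
  ((B⁻¹ : GL (Fin 10) F) : Matrix (Fin 10) (Fin 10) F)ᵀ * WM Sm * ((B⁻¹ : GL (Fin 10) F) : Matrix (Fin 10) (Fin 10) F)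

theorem T10_inv (B : GL (Fin 10) F) {g : GL (Fin 5) F} (hg : (g : Matrix (Fin 5) (Fin 5) F)ᵀ * Sm * (g : Matrix (Fin 5) (Fin 5) F) = Sm) :
    ((WG B g : GL (Fin 10) F) : Matrix (Fin 10) (Fin 10) F)ᵀ * T10 B * ((WG B g : GL (Fin 10) F) : Matrix (Fin 10) (Fin 10) F) = T10 B := by
  have h1 : (WM (g : Matrix (Fin 5) (Fin 5) F))ᵀ * WM Sm * WM (g : Matrix (Fin 5) (Fin 5) F) = WM Sm := by
    rw [WM_transpose, ← map_mul, ← map_mul, hg]
  have h2 : ((B⁻¹ : GL (Fin 10) F) : Matrix (Fin 10) (Fin 10) F) * (B : Matrix (Fin 10) (Fin 10) F) = 1 := by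
    rw [← Units.val_mul, inv_mul_cancel, Units.val_one]
  have h3 : (B : Matrix (Fin 10) (Fin 10) F)ᵀ * ((B⁻¹ : GL (Fin 10) F) : Matrix (Fin 10) (Fin 10) F)ᵀ = 1 := by
    rw [← Matrix.transpose_mul, h2, Matrix.transpose_one]
  rw [WG_coe, T10, Matrix.transpose_mul, Matrix.transpose_mul]
  generalize (B : Matrix (Fin 10) (Fin 10) F) = b at *
  generalize ((B⁻¹ : GL (Fin 10) F) : Matrix (Fin 10) (Fin 10) F) = c at *
  generalize WM (g : Matrix (Fin 5) (Fin 5) F) = w at *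
  calc cᵀ * (wᵀ * bᵀ) * (cᵀ * WM Sm * c) * (b * w * c)
      = cᵀ * (wᵀ * ((bᵀ * cᵀ) * (WM Sm * ((c * b) * (w * c))))) := by simp only [Matrix.mul_assoc]
    _ = cᵀ * (wᵀ * WM Sm * w) * c := by rw [h3, h2, Matrix.one_mul, Matrix.one_mul]; simp only [Matrix.mul_assoc]
    _ = cᵀ * WM Sm * c := by rw [h1]

/-- isometries of `q5` in terms of the Gram matrix -/
theorem mem_iso5 (h2 : (2 : F) ≠ 0) {g : GL (Fin 5) F} (h : g ∈ isometryGroup F (q5 F)) :
    (g : Matrix (Fin 5) (Fin 5) F)ᵀ * Sm * (g : Matrix (Fin 5) (Fin 5) F) = Sm := by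
  have h1 : ∀ x y : Fin 5 → F, ((g : Matrix (Fin 5) (Fin 5) F) *ᵥ x) ⬝ᵥ (Sm *ᵥ ((g : Matrix (Fin 5) (Fin 5) F) *ᵥ y)) =
      x ⬝ᵥ (Sm *ᵥ y) := by
    intro x y
    have h3 : QuadraticMap.polar (q5 F) ((g : Matrix (Fin 5) (Fin 5) F) *ᵥ x) ((g : Matrix (Fin 5) (Fin 5) F) *ᵥ y) =
        QuadraticMap.polar (q5 F) x y := by
      unfold QuadraticMap.polar
      rw [← Matrix.mulVec_add, mem_isometry.1 h, mem_isometry.1 h, mem_isometry.1 h]
    rw [polar_q5, polar_q5] at h3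
    exact mul_left_cancel₀ h2 h3
  ext i j
  have h3 := h1 (Pi.single i 1) (Pi.single j 1)
  rw [Matrix.mulVec_mulVec, Matrix.dotProduct_mulVec, Matrix.vecMul_mulVec] at h3
  simpa [Matrix.mulVec_single_one, Matrix.mul_assoc] using h3

/-- decomposable vectors -/
def D10 (B : GL (Fin 10) F) (v : Fin 10 → F) : Prop :=
  Dec ((((B⁻¹ : GL (Fin 10) F) : Matrix (Fin 10) (Fin 10) F) *ᵥ v) ∘ e10)

theorem D10_WG (B : GL (Fin 10) F) (g : GL (Fin 5) F) {v : Fin 10 → F} (h : D10 B v) :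
    D10 B ((WG B g : Matrix (Fin 10) (Fin 10) F) *ᵥ v) := by
  have h2 : ((B⁻¹ : GL (Fin 10) F) : Matrix (Fin 10) (Fin 10) F) * (B : Matrix (Fin 10) (Fin 10) F) = 1 := by
    rw [← Units.val_mul, inv_mul_cancel, Units.val_one]
  unfold D10
  rw [WG_coe, Matrix.mulVec_mulVec, ← Matrix.mul_assoc, ← Matrix.mul_assoc, h2, Matrix.one_mul, ← Matrix.mulVec_mulVec,
    WM_mulVec]
  exact h.wd _

theorem D10_smul (B : GL (Fin 10) F) (c : F) {v : Fin 10 → F} (h : D10 B v) : D10 B (c • v) := by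
  unfold D10
  rw [Matrix.mulVec_smul]
  exact Dec.smul h c

/-- the stabiliser of the set of decomposable vectors -/
def stD (B : GL (Fin 10) F) : Subgroup (GL (Fin 10) F) where
  carrier := {h | ∀ v, D10 B v ↔ D10 B ((h : Matrix (Fin 10) (Fin 10) F) *ᵥ v)}
  one_mem' := fun v => by rw [Units.val_one, Matrix.one_mulVec]
  mul_mem' {a b} ha hb := fun v => by
    rw [Units.val_mul, ← Matrix.mulVec_mulVec]
    exact (hb v).trans (ha _)
  inv_mem' {a} ha := fun v => by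
    have h := ha ((a⁻¹ : GL (Fin 10) F) *ᵥ v : Fin 10 → F)
    rw [Matrix.mulVec_mulVec, ← Units.val_mul, mul_inv_cancel, Units.val_one, Matrix.one_mulVec] at h
    exact h.symm

theorem mem_stD (B : GL (Fin 10) F) {h : GL (Fin 10) F} {g : GL (Fin 5) F} {c : F} (hc : c ≠ 0)
    (hh : (h : Matrix (Fin 10) (Fin 10) F) = c • (WG B g : Matrix (Fin 10) (Fin 10) F)) : h ∈ stD B := by
  intro v
  constructor
  · intro hv
    rw [hh, Matrix.smul_mulVec]
    exact D10_smul B c (D10_WG B g hv)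
  · intro hv
    have h1 : v = c⁻¹ • ((WG B g⁻¹ : Matrix (Fin 10) (Fin 10) F) *ᵥ ((h : Matrix (Fin 10) (Fin 10) F) *ᵥ v)) := by
      rw [hh, Matrix.smul_mulVec, Matrix.mulVec_smul, smul_smul, inv_mul_cancel₀ hc, one_smul, Matrix.mulVec_mulVec,
        ← Units.val_mul, ← map_mul, inv_mul_cancel, map_one, Units.val_one, Matrix.one_mulVec]
    rw [h1]
    exact D10_smul B _ (D10_WG B _ hv)

/-! ### vectors -/

theorem wd_norm (a b c d : Fin 5 → F) : wv a b ⬝ᵥ (wd Sm *ᵥ wv c d) =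
    (a ⬝ᵥ (Sm *ᵥ c)) * (b ⬝ᵥ (Sm *ᵥ d)) - (a ⬝ᵥ (Sm *ᵥ d)) * (b ⬝ᵥ (Sm *ᵥ c)) := by
  rw [wd_wv, wv_dot]

theorem Sm_single (i j : Fin 5) (x y : F) : (Pi.single i x : Fin 5 → F) ⬝ᵥ (Sm *ᵥ Pi.single j y) =
    if i = j then 5 * x * y else -(x * y) := by
  rw [single_dotProduct, Matrix.mulVec_single]
  by_cases h : i = j
  · simp [Sm, h]; ring
  · simp [Sm, h]

/-- a decomposable and an indecomposable vector of the same norm -/
theorem exists_vectors (h2 : (2 : F) ≠ 0) (h3 : (3 : F) ≠ 0) : ∃ d n : Pr (Fin 5) → F, d ≠ 0 ∧ n ≠ 0 ∧ Dec d ∧ ¬ Dec n ∧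
    d ⬝ᵥ (wd Sm *ᵥ d) = n ⬝ᵥ (wd Sm *ᵥ n) := by
  -- the indecomposable vectors
  have key : ∀ x y : F, x * y ≠ 0 → ¬ Dec (wv (Pi.single 0 1) (Pi.single 1 x) + wv (Pi.single 2 1) (Pi.single 3 y) :
      Pr (Fin 5) → F) := by
    intro x y hxy hd
    have h := hd.pluecker 0 1 2 3
    simp only [sk_add, sk_wv] at h
    apply hxy
    simpa [Pi.single_apply] using h
  have nrm : ∀ x y : F, (wv (Pi.single 0 1) (Pi.single 1 x) + wv (Pi.single 2 1) (Pi.single 3 y) : Pr (Fin 5) → F) ⬝ᵥ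
      (wd Sm *ᵥ (wv (Pi.single 0 1) (Pi.single 1 x) + wv (Pi.single 2 1) (Pi.single 3 y))) = 24 * (x ^ 2 + y ^ 2) := by
    intro x y
    rw [Matrix.mulVec_add, add_dotProduct, dotProduct_add, dotProduct_add, wd_norm, wd_norm, wd_norm, wd_norm]
    simp only [Sm_single]
    simp
    ring
  have nz : ∀ v : Pr (Fin 5) → F, ∀ i j : Fin 5, sk v i j ≠ 0 → v ≠ 0 := by
    intro v i j h h0
    apply h
    rw [h0]
    rcases lt_trichotomy i j with h | rfl | h
    · rw [sk_lt _ h]; rfl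
    · rw [sk_self]
    · rw [sk_gt _ h]; exact neg_zero
  by_cases h5 : (5 : F) = 0
  · refine ⟨wv (Pi.single 0 1) (Pi.single 1 1 + Pi.single 2 (-1)), _, ?_, ?_, dec_wv _ _, key 1 2 (by rwa [one_mul]), ?_⟩
    · apply nz _ 0 1
      rw [sk_wv]
      simp
    · apply nz _ 0 1
      rw [sk_add, sk_wv, sk_wv]
      simp
    · rw [nrm, wd_norm]
      simp only [Matrix.mulVec_add, dotProduct_add, add_dotProduct, Sm_single]
      simp
      linear_combination (-12 : F) * h5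
  · have h34 : (3 : F) * 4 ≠ 0 := by
      intro h
      have h' : (3 : F) * (2 * 2) = 0 := by rw [← h]; norm_num
      rcases mul_eq_zero.1 h' with h | h
      · exact h3 h
      · exact h2 (mul_self_eq_zero.1 h)
    refine ⟨wv (Pi.single 0 1) (Pi.single 1 5), _, ?_, ?_, dec_wv _ _, key 3 4 h34, ?_⟩
    · apply nz _ 0 1
      rw [sk_wv]
      simpa [Pi.single_apply] using h5
    · apply nz _ 0 1
      rw [sk_add, sk_wv, sk_wv]
      simpa [Pi.single_apply] using h3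
    · rw [nrm, wd_norm]
      simp only [Sm_single]
      simp
      norm_num

/-! ### the main theorem -/

/-- the Gram matrix of a quadratic form -/
noncomputable def gram {n : ℕ} (Q : QuadraticForm F (Fin n → F)) : Matrix (Fin n) (Fin n) F :=
  LinearMap.BilinForm.toMatrix' (QuadraticMap.polarBilin Q)

theorem gram_dot {n : ℕ} (Q : QuadraticForm F (Fin n → F)) (u v : Fin n → F) :
    u ⬝ᵥ (gram Q *ᵥ v) = QuadraticMap.polar Q u v := by
  rw [← Matrix.toBilin'_apply', gram, Matrix.toBilin'_toMatrix']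
  rfl

theorem matrix_ext {n : ℕ} {A B : Matrix (Fin n) (Fin n) F} (h : ∀ u v : Fin n → F, u ⬝ᵥ (A *ᵥ v) = u ⬝ᵥ (B *ᵥ v)) :
    A = B := by
  ext i j
  have h1 := h (Pi.single i 1) (Pi.single j 1)
  simpa [Matrix.mulVec_single_one] using h1

theorem gram_inv {n : ℕ} {Q : QuadraticForm F (Fin n → F)} {g : GL (Fin n) F} (h : g ∈ isometryGroup F (Q : (Fin n → F) → F)) :
    (g : Matrix (Fin n) (Fin n) F)ᵀ * gram Q * (g : Matrix (Fin n) (Fin n) F) = gram Q := by
  apply matrix_ext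
  intro u v
  have h1 : u ⬝ᵥ (((g : Matrix (Fin n) (Fin n) F)ᵀ * gram Q * (g : Matrix (Fin n) (Fin n) F)) *ᵥ v) =
      ((g : Matrix (Fin n) (Fin n) F) *ᵥ u) ⬝ᵥ (gram Q *ᵥ ((g : Matrix (Fin n) (Fin n) F) *ᵥ v)) := by
    rw [← Matrix.mulVec_mulVec, ← Matrix.mulVec_mulVec, Matrix.dotProduct_mulVec, Matrix.vecMul_transpose]
  rw [h1, gram_dot, gram_dot]
  unfold QuadraticMap.polar
  rw [← Matrix.mulVec_add, mem_isometry.1 h, mem_isometry.1 h, mem_isometry.1 h]

theorem iso_of_gram {n : ℕ} (h2 : (2 : F) ≠ 0) {Q : QuadraticForm F (Fin n → F)} {g : GL (Fin n) F}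
    (h : (g : Matrix (Fin n) (Fin n) F)ᵀ * gram Q * (g : Matrix (Fin n) (Fin n) F) = gram Q) :
    g ∈ isometryGroup F (Q : (Fin n → F) → F) := by
  rw [mem_isometry]
  intro v
  have h1 : ((g : Matrix (Fin n) (Fin n) F) *ᵥ v) ⬝ᵥ (gram Q *ᵥ ((g : Matrix (Fin n) (Fin n) F) *ᵥ v)) = v ⬝ᵥ (gram Q *ᵥ v) := by
    conv_rhs => rw [← h]
    rw [← Matrix.mulVec_mulVec, ← Matrix.mulVec_mulVec, Matrix.dotProduct_mulVec v, Matrix.vecMul_transpose]
  rw [gram_dot, gram_dot, QuadraticMap.polar_self, QuadraticMap.polar_self, nsmul_eq_mul, nsmul_eq_mul,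
    Nat.cast_ofNat] at h1
  exact mul_left_cancel₀ h2 h1

theorem WM_Sm_ne (h2 : (2 : F) ≠ 0) (h3 : (3 : F) ≠ 0) : (WM Sm : Matrix (Fin 10) (Fin 10) F) ≠ 0 := by
  intro h
  have h1 : (Sm : Matrix (Fin 5) (Fin 5) F) * (1 + Matrix.of fun _ _ => 1) = (6 : F) • 1 := by
    ext i j
    rw [Matrix.mul_apply]
    fin_cases i <;> fin_cases j <;> simp [Sm, Fin.sum_univ_five, Matrix.one_apply] <;> norm_num
  have h4 : WM ((6 : F) • (1 : Matrix (Fin 5) (Fin 5) F)) = 0 := by rw [← h1, map_mul, h, zero_mul]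
  rw [WM_smul, map_one] at h4
  have h5 := congrFun (congrFun h4 0) 0
  rw [Matrix.smul_apply, Matrix.one_apply_eq, Matrix.zero_apply, smul_eq_mul, mul_one] at h5
  have h6 : (2 : F) * 3 = 0 := by
    have := (sq_eq_zero_iff (a := (6 : F))).1 h5
    rw [← this]; norm_num
  rcases mul_eq_zero.1 h6 with h | h
  · exact h2 h
  · exact h3 h

theorem mem_R6 {g : GL (Fin 5) F} : g ∈ R6 F ↔
    Cfsg.Agent.LieClassical.OrthFinite.glEquiv (Fin 5) F g ∈ stabR (q5 F) (v6 F) := Iff.rfl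

theorem R6_iso {g : GL (Fin 5) F} (h : g ∈ R6 F) : g ∈ isometryGroup F (q5 F : (Fin 5 → F) → F) :=
  mem_isometry.2 fun v => (mem_R6.1 h).1 v

/-- an element of the isometry group that is a multiple of an element of `R6` lies in `R6` -/
theorem R6_of_smul {g r : GL (Fin 5) F} (h2 : (2 : F) ≠ 0)
    (hg : g ∈ isometryGroup F (q5 F : (Fin 5 → F) → F)) (hr : r ∈ R6 F) {d : F}
    (h : (g : Matrix (Fin 5) (Fin 5) F) = d • (r : Matrix (Fin 5) (Fin 5) F)) : g ∈ R6 F := by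
  have hd : d = 1 ∨ d = -1 := by
    -- compare the values of the form
    obtain ⟨x, hx⟩ : ∃ x : Fin 5 → F, q5 F x ≠ 0 := by
      by_contra hcon
      push Not at hcon
      have h4 : QuadraticMap.polar (q5 F) (Pi.single 0 1) (Pi.single 1 1) = -2 := by
        rw [polar_q5, Sm_single, if_neg (by decide)]; ring
      unfold QuadraticMap.polar at h4
      rw [hcon, hcon, hcon] at h4
      apply h2
      linear_combination h4
    have h5 := mem_isometry.1 hg x
    rw [h, Matrix.smul_mulVec, QuadraticMap.map_smul, mem_isometry.1 (R6_iso hr), smul_eq_mul] at h5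
    have h6 : (d * d - 1) * q5 F x = 0 := by linear_combination h5
    have h7 := (mul_eq_zero.1 h6).resolve_right hx
    exact mul_self_eq_one_iff.1 (by linear_combination h7)
  rw [mem_R6]
  have hgv : ∀ v, Cfsg.Agent.LieClassical.OrthFinite.glEquiv (Fin 5) F g v =
      d • Cfsg.Agent.LieClassical.OrthFinite.glEquiv (Fin 5) F r v := by
    intro v
    rw [Cfsg.Agent.LieClassical.OrthFinite.glEquiv_apply, Cfsg.Agent.LieClassical.OrthFinite.glEquiv_apply, h,
      Matrix.smul_mulVec]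
  refine ⟨fun v => mem_isometry.1 hg v, fun x => ?_⟩
  rw [hgv, (mem_R6.1 hr).2 x]
  constructor
  · intro hx
    exact rts_smul hx hd
  · intro hx
    have h5 := rts_smul hx hd
    rw [smul_smul] at h5
    have h6 : d * d = 1 := by rcases hd with rfl | rfl <;> norm_num
    rwa [h6, one_smul] at h5

/-- **The overgroup `Λ²(O₅)`.** -/
theorem lam_false [Finite F] (h2 : (2 : F) ≠ 0) (h3 : (3 : F) ≠ 0) {Q : (Fin 10 → F) → F}
    (hQ : IsNondegenerateQuadraticForm Q) {H P : Subgroup (GL (Fin 10) F)} (hH : IsMaximalIn (omegaGL Q) H)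
    (hc : IsResidualCore H P) (ψ : P →* GL (Fin 5) F)
    (htr : ∀ x : P, 2 * tr (x : GL (Fin 10) F) = tr (ψ x) ^ 2 - tr (ψ x * ψ x)) (hψ : ∀ x, ψ x ∈ R6 F)
    (hH6 : ∀ h ∈ H, ∃ r ∈ R6 F, ∀ x y : P, (y : GL (Fin 10) F) = h * x * h⁻¹ → ψ y = r * ψ x * r⁻¹) : False := by
  classical
  have hC := core_of_residual hc
  have hfinG : Finite (GL (Fin 10) F) := inferInstance
  -- `P` is conjugate to the exterior square of `ψ`
  obtain ⟨B, hB⟩ : ∃ B : GL (Fin 10) F, ∀ x : P, (x : GL (Fin 10) F) = WG B (ψ x) := by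
    let ρ₁ : P →* Matrix (Fin 10) (Fin 10) F := (Units.coeHom _).comp P.subtype
    let ρ₂ : P →* Matrix (Fin 10) (Fin 10) F := (WM (F := F)).comp ((Units.coeHom _).comp ψ)
    have htr' : ∀ x, (ρ₁ x).trace = (ρ₂ x).trace := by
      intro x
      have h4 : (ρ₂ x).trace = (wd ((ψ x : GL (Fin 5) F) : Matrix (Fin 5) (Fin 5) F)).trace := WM_trace _
      rw [h4]
      apply mul_left_cancel₀ h2
      rw [trace_wd]
      exact htr x
    have h₁ : Submodule.span F (Set.range ρ₁) = ⊤ := Cfsg.Agent.H906.span_subtype hC.absIrred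
    obtain ⟨B, hB⟩ := Cfsg.Agent.H906.exists_conj_of_trace ρ₂ ρ₁ (span_of_trace ρ₁ ρ₂ h₁ htr') h₁ (fun x => (htr' x).symm)
    exact ⟨B, fun x => Units.ext (hB x)⟩
  obtain ⟨Q', rfl, hnd⟩ := exists_quadraticForm hQ
  have hG : Good Q' := good_of_card hnd (by simp)
  have hHle : H ≤ omegaGL (Q' : (Fin 10 → F) → F) := hH.1.le
  have hOI : omegaGL (Q' : (Fin 10 → F) → F) ≤ isometryGroup F (Q' : (Fin 10 → F) → F) := by
    rw [omegaGL_eq]
    exact comm_le _
  have hPI : ∀ x ∈ P, x ∈ isometryGroup F (Q' : (Fin 10 → F) → F) := fun x hx => hOI (hHle (hc.le hx))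
  -- the forms
  have hmap : ∀ g : GL (Fin 10) F, (g : Matrix (Fin 10) (Fin 10) F).map (RingEquiv.refl F) = (g : Matrix (Fin 10) (Fin 10) F) := by
    intro g; ext i j; rfl
  have hNinv : ∀ g ∈ P, ((g : Matrix (Fin 10) (Fin 10) F))ᵀ * gram Q' * (g : Matrix (Fin 10) (Fin 10) F).map (RingEquiv.refl F) =
      gram Q' := fun g hg => by rw [hmap]; exact gram_inv (hPI g hg)
  have hTinv : ∀ g ∈ P, ((g : Matrix (Fin 10) (Fin 10) F))ᵀ * T10 B * (g : Matrix (Fin 10) (Fin 10) F).map (RingEquiv.refl F) =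
      T10 B := by
    intro g hg
    rw [hmap]
    have h4 := hB ⟨g, hg⟩
    rw [show g = WG B (ψ ⟨g, hg⟩) from h4]
    exact T10_inv B (mem_iso5 h2 (R6_iso (hψ _)))
  have hN0 : gram Q' ≠ 0 := by
    intro h0
    obtain ⟨x, hx⟩ : ∃ x : Fin 10 → F, x ≠ 0 := ⟨Pi.single 0 1, by simp⟩
    apply hx
    apply hnd
    intro y
    rw [← gram_dot, h0, Matrix.zero_mulVec, dotProduct_zero]
  have hNu := Cfsg.Agent.H906.isUnit_of_invariant hC.absIrred.1 (RingEquiv.refl F) hN0 hNinv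
  obtain ⟨c, hcT⟩ := Cfsg.Agent.H906.exists_smul_of_invariant hC.absIrred (RingEquiv.refl F) hNu hNinv hTinv
  have hBi : (B : Matrix (Fin 10) (Fin 10) F) * ((B⁻¹ : GL (Fin 10) F) : Matrix (Fin 10) (Fin 10) F) = 1 := by
    rw [← Units.val_mul, mul_inv_cancel, Units.val_one]
  have hBi' : ((B⁻¹ : GL (Fin 10) F) : Matrix (Fin 10) (Fin 10) F) * (B : Matrix (Fin 10) (Fin 10) F) = 1 := by
    rw [← Units.val_mul, inv_mul_cancel, Units.val_one]
  have hBit : (B : Matrix (Fin 10) (Fin 10) F)ᵀ * ((B⁻¹ : GL (Fin 10) F) : Matrix (Fin 10) (Fin 10) F)ᵀ = 1 := by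
    rw [← Matrix.transpose_mul, hBi', Matrix.transpose_one]
  have hTB : (B : Matrix (Fin 10) (Fin 10) F)ᵀ * T10 B * (B : Matrix (Fin 10) (Fin 10) F) = WM Sm := by
    rw [T10]
    calc (B : Matrix (Fin 10) (Fin 10) F)ᵀ * (((B⁻¹ : GL (Fin 10) F) : Matrix (Fin 10) (Fin 10) F)ᵀ * WM Sm *
          ((B⁻¹ : GL (Fin 10) F) : Matrix (Fin 10) (Fin 10) F)) * (B : Matrix (Fin 10) (Fin 10) F)
        = ((B : Matrix (Fin 10) (Fin 10) F)ᵀ * ((B⁻¹ : GL (Fin 10) F) : Matrix (Fin 10) (Fin 10) F)ᵀ) * WM Sm *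
          (((B⁻¹ : GL (Fin 10) F) : Matrix (Fin 10) (Fin 10) F) * (B : Matrix (Fin 10) (Fin 10) F)) := by
          simp only [Matrix.mul_assoc]
      _ = WM Sm := by rw [hBit, hBi', Matrix.one_mul, Matrix.mul_one]
  have hc0 : c ≠ 0 := by
    rintro rfl
    rw [zero_smul] at hcT
    rw [hcT, Matrix.mul_zero, Matrix.zero_mul] at hTB
    exact WM_Sm_ne h2 h3 hTB.symm
  -- isometries of dimension five give isometries of dimension ten
  have hiso : ∀ g ∈ isometryGroup F (q5 F : (Fin 5 → F) → F), WG B g ∈ isometryGroup F (Q' : (Fin 10 → F) → F) := by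
    intro g hg
    apply iso_of_gram h2
    have h4 := T10_inv B (mem_iso5 h2 hg)
    rw [hcT, Matrix.mul_smul, Matrix.smul_mul] at h4
    exact smul_right_injective _ hc0 h4
  have homega : ∀ g ∈ omegaGL (q5 F : (Fin 5 → F) → F), WG B g ∈ omegaGL (Q' : (Fin 10 → F) → F) := by
    have h4 : (omegaGL (q5 F : (Fin 5 → F) → F)).map (WG B) ≤ omegaGL (Q' : (Fin 10 → F) → F) := by
      rw [omegaGL_eq, omegaGL_eq, Subgroup.map_commutator]
      have h5 : (isometryGroup F (q5 F : (Fin 5 → F) → F)).map (WG B) ≤ isometryGroup F (Q' : (Fin 10 → F) → F) := by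
        rintro _ ⟨g, hg, rfl⟩
        exact hiso g hg
      exact Subgroup.commutator_mono h5 h5
    exact fun g hg => h4 ⟨g, hg, rfl⟩
  -- elements of `H`, and more generally elements acting on `P` as elements of `R6`
  have hact : ∀ h : GL (Fin 10) F, (∃ r ∈ R6 F, ∀ x y : P, (y : GL (Fin 10) F) = h * x * h⁻¹ → ψ y = r * ψ x * r⁻¹) →
      (∀ x ∈ P, h * x * h⁻¹ ∈ P) → ∃ r ∈ R6 F, ∃ c : F, c ≠ 0 ∧
        (h : Matrix (Fin 10) (Fin 10) F) = c • (WG B r : Matrix (Fin 10) (Fin 10) F) := by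
    rintro h ⟨r, hr, hxy⟩ hn
    refine ⟨r, hr, ?_⟩
    have hcomm : ∀ x ∈ P, ((WG B r)⁻¹ * h) * x = x * ((WG B r)⁻¹ * h) := by
      intro x hx
      have h4 := hxy ⟨x, hx⟩ ⟨h * x * h⁻¹, hn x hx⟩ rfl
      have h5 := hB ⟨h * x * h⁻¹, hn x hx⟩
      rw [h4, map_mul, map_mul, map_inv, ← hB ⟨x, hx⟩] at h5
      change h * x * h⁻¹ = WG B r * x * (WG B r)⁻¹ at h5
      calc ((WG B r)⁻¹ * h) * x = (WG B r)⁻¹ * (h * x * h⁻¹) * h := by group
        _ = x * ((WG B r)⁻¹ * h) := by rw [h5]; group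
    obtain ⟨c', hc'⟩ := hC.absIrred.2 (((WG B r)⁻¹ * h : GL (Fin 10) F) : Matrix (Fin 10) (Fin 10) F) (by
      rintro _ ⟨x, hx, rfl⟩
      rw [← Units.val_mul, ← Units.val_mul, hcomm x hx])
    have h6 : (h : Matrix (Fin 10) (Fin 10) F) = c' • (WG B r : Matrix (Fin 10) (Fin 10) F) := by
      have h7 : (h : Matrix (Fin 10) (Fin 10) F) = (WG B r : Matrix (Fin 10) (Fin 10) F) *
          (((WG B r)⁻¹ * h : GL (Fin 10) F) : Matrix (Fin 10) (Fin 10) F) := by
        rw [← Units.val_mul, mul_inv_cancel_left]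
      rw [h7, hc', Matrix.mul_smul, Matrix.mul_one]
    refine ⟨c', ?_, h6⟩
    rintro rfl
    rw [zero_smul] at h6
    exact h.ne_zero h6
  have hHL : H ≤ stD B ⊓ omegaGL (Q' : (Fin 10 → F) → F) := by
    intro h hh
    refine ⟨?_, hHle hh⟩
    obtain ⟨r, _, c', hc', h4⟩ := hact h (hH6 h hh) (hc.normal h hh)
    exact mem_stD B hc' h4
  rcases hH.2 _ hHL inf_le_right with hM | hM
  · -- `M = H`
    have hle : E (q5 F) ≤ stabR (q5 F) (v6 F) := by
      have hG5 : Good (q5 F) := good_of_card (nondeg_q5 h2 h3) (by simp)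
      rw [← map_omegaGL_eq_E hG5]
      rintro _ ⟨g, hg, rfl⟩
      change g ∈ R6 F
      have hgI : g ∈ isometryGroup F (q5 F : (Fin 5 → F) → F) := by
        rw [omegaGL_eq] at hg
        exact comm_le _ hg
      have hgH : WG B g ∈ H := by
        rw [← hM]
        exact ⟨mem_stD B one_ne_zero (one_smul _ _).symm, homega g hg⟩
      obtain ⟨r, hr, c', hc', h4⟩ := hact _ (hH6 _ hgH) (hc.normal _ hgH)
      have h5 : ((WG B (r⁻¹ * g) : GL (Fin 10) F) : Matrix (Fin 10) (Fin 10) F) = c' • 1 := by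
        rw [map_mul, map_inv, Units.val_mul, h4, Matrix.mul_smul, ← Units.val_mul, inv_mul_cancel, Units.val_one]
      rw [WG_coe] at h5
      have h6 : WM ((r⁻¹ * g : GL (Fin 5) F) : Matrix (Fin 5) (Fin 5) F) = c' • 1 := by
        calc WM ((r⁻¹ * g : GL (Fin 5) F) : Matrix (Fin 5) (Fin 5) F) =
            ((B⁻¹ : GL (Fin 10) F) : Matrix (Fin 10) (Fin 10) F) * ((B : Matrix (Fin 10) (Fin 10) F) *
              WM ((r⁻¹ * g : GL (Fin 5) F) : Matrix (Fin 5) (Fin 5) F) *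
              ((B⁻¹ : GL (Fin 10) F) : Matrix (Fin 10) (Fin 10) F)) * (B : Matrix (Fin 10) (Fin 10) F) := by
              rw [← Matrix.mul_assoc, ← Matrix.mul_assoc, hBi', Matrix.one_mul, Matrix.mul_assoc, hBi', Matrix.mul_one]
          _ = c' • 1 := by rw [h5, Matrix.mul_smul, Matrix.mul_one, Matrix.smul_mul, hBi']
      obtain ⟨d, hd⟩ := scalar_of_WM hc' h6
      refine R6_of_smul h2 hgI hr (d := d) ?_
      have h7 : (g : Matrix (Fin 5) (Fin 5) F) = (r : Matrix (Fin 5) (Fin 5) F) *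
          ((r⁻¹ * g : GL (Fin 5) F) : Matrix (Fin 5) (Fin 5) F) := by
        rw [← Units.val_mul, mul_inv_cancel_left]
      rw [h7, hd, Matrix.mul_smul, Matrix.mul_one]
    exact not_E_le_stabR sys6 h2 (good_of_card (nondeg_q5 h2 h3) (by simp)) h3 (by simp) hle
  · -- `M = Ω`
    obtain ⟨d, n, hd0, hn0, hd, hn, hdn⟩ := exists_vectors (F := F) h2 h3
    -- transfer to dimension ten
    have hval : ∀ v : Pr (Fin 5) → F, 2 * c * Q' ((B : Matrix (Fin 10) (Fin 10) F) *ᵥ (v ∘ e10.symm)) =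
        v ⬝ᵥ (wd Sm *ᵥ v) := by
      intro v
      have h4 : (v ∘ e10.symm) ⬝ᵥ ((WM Sm : Matrix (Fin 10) (Fin 10) F) *ᵥ (v ∘ e10.symm)) = v ⬝ᵥ (wd Sm *ᵥ v) := by
        have h5 : (WM Sm : Matrix (Fin 10) (Fin 10) F) *ᵥ (v ∘ e10.symm) = (wd Sm *ᵥ v) ∘ e10.symm := by
          have h6 := WM_mulVec (Sm : Matrix (Fin 5) (Fin 5) F) (v ∘ e10.symm)
          have h7 : (v ∘ e10.symm) ∘ e10 = v := by funext p; simp
          rw [h7] at h6
          rw [← h6]
          funext i; simp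
        rw [h5, dotProduct, dotProduct, ← Equiv.sum_comp e10]
        simp
      rw [← h4, ← hTB, hcT]
      have h8 : (v ∘ e10.symm) ⬝ᵥ (((B : Matrix (Fin 10) (Fin 10) F)ᵀ * (c • gram Q') * (B : Matrix (Fin 10) (Fin 10) F)) *ᵥ
          (v ∘ e10.symm)) = c * (((B : Matrix (Fin 10) (Fin 10) F) *ᵥ (v ∘ e10.symm)) ⬝ᵥ
            (gram Q' *ᵥ ((B : Matrix (Fin 10) (Fin 10) F) *ᵥ (v ∘ e10.symm)))) := by
        rw [Matrix.mul_smul, Matrix.smul_mul, Matrix.smul_mulVec, dotProduct_smul, smul_eq_mul, ← Matrix.mulVec_mulVec,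
          ← Matrix.mulVec_mulVec, Matrix.dotProduct_mulVec (v ∘ e10.symm), Matrix.vecMul_transpose]
      rw [h8, gram_dot, QuadraticMap.polar_self, nsmul_eq_mul, Nat.cast_ofNat]
      ring
    have hne : ∀ v : Pr (Fin 5) → F, v ≠ 0 → (B : Matrix (Fin 10) (Fin 10) F) *ᵥ (v ∘ e10.symm) ≠ 0 := by
      intro v hv h0
      apply hv
      have h4 : v ∘ e10.symm = 0 := by
        have h5 : ((B⁻¹ : GL (Fin 10) F) : Matrix (Fin 10) (Fin 10) F) *ᵥ ((B : Matrix (Fin 10) (Fin 10) F) *ᵥ (v ∘ e10.symm)) = 0 := by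
          rw [h0, Matrix.mulVec_zero]
        rwa [Matrix.mulVec_mulVec, hBi', Matrix.one_mulVec] at h5
      funext p
      have h6 := congrFun h4 (e10 p)
      simpa using h6
    have hDv : ∀ v : Pr (Fin 5) → F, D10 B ((B : Matrix (Fin 10) (Fin 10) F) *ᵥ (v ∘ e10.symm)) ↔ Dec v := by
      intro v
      unfold D10
      rw [Matrix.mulVec_mulVec, hBi', Matrix.one_mulVec]
      have h7 : (v ∘ e10.symm) ∘ e10 = v := by funext p; simp
      rw [h7]
    have hval2 : Q' ((B : Matrix (Fin 10) (Fin 10) F) *ᵥ (d ∘ e10.symm)) = Q' ((B : Matrix (Fin 10) (Fin 10) F) *ᵥ (n ∘ e10.symm)) := by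
      apply mul_left_cancel₀ (mul_ne_zero h2 hc0)
      rw [hval, hval, hdn]
    obtain ⟨g, hg, hgv⟩ := hG.trans_norm (hne d hd0) (hne n hn0) hval2
    rw [← map_omegaGL_eq_E hG] at hg
    obtain ⟨g, hg, rfl⟩ := hg
    have hgL : g ∈ stD B := (hM.ge.trans inf_le_left : omegaGL (Q' : (Fin 10 → F) → F) ≤ stD B) hg
    apply hn
    rw [← hDv, ← hgv]
    exact (hgL _).1 ((hDv d).2 hd)

end ten

end Cfsg.Agent.H908.Lam
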