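import Cfsg.Agent.H908.LamOver

/-!
# The symmetric groups of degree six and seven in `R6`

* `ψ6 F : Perm (Fin 6) →* GL (Fin 5) F` : the action on the six vectors with sum zero;
* `ψ7 h7 : Perm (Fin 7) →* GL (Fin 5) F` : in characteristic seven, the heart of the permutation module.
-/

set_option autoImplicit false
set_option linter.unusedSectionVars false

namespace Cfsg.Agent.H908.Lam

open Cfsg Cfsg.Geo Matrix
open Cfsg.Agent.LieClassical.OrthCore Cfsg.Agent.LieClassical.OrthTrans Cfsg.Agent.LieClassical.OrthFinite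
open Cfsg.Agent.H882.Del

variable {F : Type*} [Field F]

/-- the number of fixed points, in `F` -/
def fx (F : Type*) [Field F] {n : ℕ} (σ : Equiv.Perm (Fin n)) : F := ∑ a, if σ a = a then 1 else 0

theorem fx_conj {n : ℕ} (τ σ : Equiv.Perm (Fin n)) : fx F (τ * σ * τ⁻¹) = fx F σ := by
  unfold fx
  rw [← Equiv.sum_comp τ]
  refine Finset.sum_congr rfl fun a _ => ?_
  have h1 : (τ * σ * τ⁻¹) (τ a) = τ (σ a) := by
    change τ (σ (τ.symm (τ a))) = _
    rw [Equiv.symm_apply_apply]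
  simp only [h1, EmbeddingLike.apply_eq_iff_eq]

theorem fx_succ {n : ℕ} (σ : Equiv.Perm (Fin (n + 1))) : fx F σ =
    (∑ i : Fin n, if σ i.castSucc = i.castSucc then (1 : F) else 0) +
      if σ (Fin.last n) = Fin.last n then (1 : F) else 0 := Fin.sum_univ_castSucc _

theorem sum_eq {n : ℕ} (σ : Equiv.Perm (Fin n)) (b : Fin n) : ∑ a, (if σ a = b then (1 : F) else 0) = 1 := by
  rw [Equiv.sum_comp σ (fun a => if a = b then (1 : F) else 0)]
  simp

theorem v6_apply (a : Fin 6) (j : Fin 5) :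
    v6 F a j = (if a = j.castSucc then 1 else 0) - (if a = Fin.last 5 then 1 else 0) := by
  induction a using Fin.lastCases with
  | last =>
    rw [v6_last, if_pos rfl, if_neg (fun h => (Fin.castSucc_lt_last j).ne h.symm)]
    ring
  | cast i =>
    rw [v6_castSucc, if_neg (Fin.castSucc_lt_last i).ne, sub_zero, Pi.single_apply]
    simp only [Fin.castSucc_inj, eq_comm]

theorem trace_eq_sum (M : Matrix (Fin 5) (Fin 5) F) :
    M.trace = ∑ j : Fin 5, (M *ᵥ v6 F j.castSucc) j := by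
  unfold Matrix.trace
  refine Finset.sum_congr rfl fun j _ => ?_
  rw [v6_castSucc, mulVec_single_one]
  rfl

/-! ### six points -/

/-- The symmetric group of degree six, acting on the six vectors. -/
noncomputable def ψ6 (F : Type*) [Field F] : Equiv.Perm (Fin 6) →* GL (Fin 5) F :=
  (Cfsg.Agent.LieClassical.OrthFinite.glEquiv (Fin 5) F).symm.toMonoidHom.comp (sys6 (F := F)).perm

theorem glEquiv_ψ6 (σ : Equiv.Perm (Fin 6)) :
    Cfsg.Agent.LieClassical.OrthFinite.glEquiv (Fin 5) F (ψ6 F σ) = (sys6 (F := F)).perm σ :=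
  MulEquiv.apply_symm_apply _ _

theorem ψ6_v6 (σ : Equiv.Perm (Fin 6)) (i : Fin 6) :
    (ψ6 F σ : Matrix (Fin 5) (Fin 5) F) *ᵥ v6 F i = v6 F (σ i) := by
  rw [← Cfsg.Agent.LieClassical.OrthFinite.glEquiv_apply, glEquiv_ψ6, Sys.perm_apply]

theorem ψ6_mem (h2 : (2 : F) ≠ 0) (σ : Equiv.Perm (Fin 6)) : ψ6 F σ ∈ R6 F := by
  rw [mem_R6, glEquiv_ψ6]
  refine mem_stabR_of (perm_mem_O sys6 gr6 h2 σ) (fun x hx => SG_map_rts (perm_mem_SG sys6 σ) hx)
    (fun x hx => ?_)
  rw [← map_inv]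
  exact SG_map_rts (perm_mem_SG sys6 σ⁻¹) hx

theorem ψ6_trace (σ : Equiv.Perm (Fin 6)) : (ψ6 F σ : Matrix (Fin 5) (Fin 5) F).trace = fx F σ - 1 := by
  rw [trace_eq_sum]
  simp only [ψ6_v6, v6_apply]
  rw [Finset.sum_sub_distrib]
  have h1 := sum_eq (F := F) σ (Fin.last 5)
  rw [Fin.sum_univ_castSucc] at h1
  rw [fx_succ]
  linear_combination (-1 : F) * h1

/-! ### seven points, characteristic seven -/

/-- seven vectors, the last one zero -/
def w7 (F : Type*) [Field F] (a : Fin 7) : Fin 5 → F := fun j =>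
  (if a = j.castSucc.castSucc then 1 else 0) - (if a = (Fin.last 5).castSucc then 1 else 0)

theorem w7_castSucc (i : Fin 6) : w7 F i.castSucc = v6 F i := by
  funext j
  rw [v6_apply, w7]
  simp only [Fin.castSucc_inj]

theorem w7_last : w7 F (Fin.last 6) = 0 := by
  funext j
  rw [w7, if_neg (Fin.castSucc_lt_last _).ne', if_neg (Fin.castSucc_lt_last _).ne', sub_zero]
  rfl

theorem sum_w7 : ∑ a, w7 F a = 0 := by
  rw [Fin.sum_univ_castSucc, w7_last, add_zero]
  simp only [w7_castSucc]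
  exact sys6.sum

variable (h7 : (7 : F) = 0)

include h7

theorem exists_lin7 (σ : Equiv.Perm (Fin 7)) : ∃ f : (Fin 5 → F) →ₗ[F] (Fin 5 → F),
    ∀ a : Fin 6, f (v6 F a) = w7 F (σ a.castSucc) - w7 F (σ (Fin.last 6)) := by
  refine (sys6 (F := F)).exists_map _ ?_
  have h1 : ∑ a, w7 F (σ a) = 0 := by rw [Equiv.sum_comp σ (w7 F), sum_w7]
  rw [Fin.sum_univ_castSucc] at h1
  rw [Finset.sum_sub_distrib, Finset.sum_const, Finset.card_univ, Fintype.card_fin, ← Nat.cast_smul_eq_nsmul F]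
  have h2 : ∑ i : Fin 6, w7 F (σ i.castSucc) = -w7 F (σ (Fin.last 6)) := eq_neg_of_add_eq_zero_left h1
  have h3 : (7 : F) • w7 F (σ (Fin.last 6)) = 0 := by rw [h7, zero_smul]
  rw [h2, ← neg_one_smul F (w7 F (σ (Fin.last 6))), ← sub_smul]
  have h4 : ((-1 : F) - ((6 : ℕ) : F)) = -7 := by push_cast; ring
  rw [h4, neg_smul, h3, neg_zero]

/-- the linear map attached to a permutation -/
noncomputable def lin7 (σ : Equiv.Perm (Fin 7)) : (Fin 5 → F) →ₗ[F] (Fin 5 → F) := Classical.choose (exists_lin7 h7 σ)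

theorem lin7_v6 (σ : Equiv.Perm (Fin 7)) (a : Fin 6) :
    lin7 h7 σ (v6 F a) = w7 F (σ a.castSucc) - w7 F (σ (Fin.last 6)) := Classical.choose_spec (exists_lin7 h7 σ) a

theorem lin7_w7 (σ : Equiv.Perm (Fin 7)) (a : Fin 7) : lin7 h7 σ (w7 F a) = w7 F (σ a) - w7 F (σ (Fin.last 6)) := by
  induction a using Fin.lastCases with
  | last => rw [w7_last, map_zero, sub_self]
  | cast i => rw [w7_castSucc, lin7_v6]

theorem lin7_sub (σ : Equiv.Perm (Fin 7)) (a b : Fin 7) :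
    lin7 h7 σ (w7 F a - w7 F b) = w7 F (σ a) - w7 F (σ b) := by
  rw [map_sub, lin7_w7, lin7_w7]
  abel

theorem lin7_mul (σ τ : Equiv.Perm (Fin 7)) : lin7 h7 (σ * τ) = lin7 h7 σ * lin7 h7 τ := by
  refine (sys6 (F := F)).ext fun i => ?_
  rw [Module.End.mul_apply, lin7_v6, lin7_v6, lin7_sub]
  rfl

theorem lin7_one : lin7 h7 1 = 1 := by
  refine (sys6 (F := F)).ext fun i => ?_
  rw [lin7_v6, Equiv.Perm.one_apply, Equiv.Perm.one_apply, w7_last, sub_zero, w7_castSucc]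
  rfl

/-- The symmetric group of degree seven, in characteristic seven. -/
noncomputable def ψ7 : Equiv.Perm (Fin 7) →* GL (Fin 5) F :=
  MonoidHom.toHomUnits
    { toFun := fun σ => LinearMap.toMatrix' (lin7 h7 σ)
      map_one' := by rw [lin7_one]; exact LinearMap.toMatrix'_one
      map_mul' := fun σ τ => by rw [lin7_mul]; exact LinearMap.toMatrix'_mul _ _ }

theorem ψ7_mulVec (σ : Equiv.Perm (Fin 7)) (v : Fin 5 → F) :
    (ψ7 h7 σ : Matrix (Fin 5) (Fin 5) F) *ᵥ v = lin7 h7 σ v := by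
  change LinearMap.toMatrix' (lin7 h7 σ) *ᵥ v = _
  rw [LinearMap.toMatrix'_mulVec]

theorem ψ7_trace (σ : Equiv.Perm (Fin 7)) : (ψ7 h7 σ : Matrix (Fin 5) (Fin 5) F).trace = fx F σ - 2 := by
  rw [trace_eq_sum]
  simp only [ψ7_mulVec, lin7_v6, Pi.sub_apply, w7]
  have h1 := sum_eq (F := F) σ (Fin.last 5).castSucc
  have h2 : ∑ a : Fin 7, (if σ (Fin.last 6) = a then (1 : F) else 0) = 1 := by simp
  rw [Fin.sum_univ_castSucc, Fin.sum_univ_castSucc] at h1 h2
  rw [fx_succ, Fin.sum_univ_castSucc (n := 5) (f := fun i : Fin 6 => if σ i.castSucc = i.castSucc then (1 : F) else 0)]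
  simp only [Finset.sum_sub_distrib, Finset.sum_const, Finset.card_univ, Fintype.card_fin, nsmul_eq_mul, Nat.cast_ofNat]
  linear_combination (-1 : F) * h1 - h2 + (if σ (Fin.last 6) = (Fin.last 5).castSucc then (1 : F) else 0) * h7

/-- `q5` on combinations with sum zero -/
theorem q5_comb (c : Fin 7 → F) (hc : ∑ a, c a = 0) : q5 F (∑ a, c a • w7 F a) = -∑ a, c a * c a := by
  have h1 : ∀ j : Fin 5, (∑ a, c a • w7 F a) j = c j.castSucc.castSucc - c (Fin.last 5).castSucc := by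
    intro j
    rw [Finset.sum_apply]
    simp only [Pi.smul_apply, smul_eq_mul, w7, mul_sub, mul_ite, mul_one, mul_zero, Finset.sum_sub_distrib]
    simp
  rw [q5_apply, Sm_dot]
  simp only [dotProduct, h1]
  rw [Fin.sum_univ_castSucc, Fin.sum_univ_castSucc] at hc
  rw [Fin.sum_univ_castSucc (f := fun a => c a * c a),
    Fin.sum_univ_castSucc (f := fun a : Fin 6 => c a.castSucc * c a.castSucc)]
  simp only [Fin.sum_univ_five] at hc ⊢
  generalize c (Fin.castSucc (Fin.castSucc 0)) = c0 at *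
  generalize c (Fin.castSucc (Fin.castSucc 1)) = c1 at *
  generalize c (Fin.castSucc (Fin.castSucc 2)) = c2 at *
  generalize c (Fin.castSucc (Fin.castSucc 3)) = c3 at *
  generalize c (Fin.castSucc (Fin.castSucc 4)) = c4 at *
  generalize c (Fin.castSucc (Fin.last 5)) = c5 at *
  generalize c (Fin.last 6) = c6 at *
  obtain rfl : c6 = -(c0 + c1 + c2 + c3 + c4 + c5) := by linear_combination hc
  linear_combination ((c0 - c5) * (c0 - c5) + (c1 - c5) * (c1 - c5) + (c2 - c5) * (c2 - c5) + (c3 - c5) * (c3 - c5) +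
    (c4 - c5) * (c4 - c5)) * h7 + (2 * c5 * (c0 + c1 + c2 + c3 + c4) - 4 * c5 * c5) * h7

theorem q5_lin7 (σ : Equiv.Perm (Fin 7)) (x : Fin 5 → F) : q5 F (lin7 h7 σ x) = q5 F x := by
  -- coefficients
  obtain ⟨c, hc, rfl⟩ : ∃ c : Fin 7 → F, ∑ a, c a = 0 ∧ x = ∑ a, c a • w7 F a := by
    have hx : x ∈ Submodule.span F (Set.range (v6 F)) := by rw [(sys6 (F := F)).span]; trivial
    rw [Submodule.mem_span_range_iff_exists_fun] at hx
    obtain ⟨b, rfl⟩ := hx
    have hs1 : ∀ i : Fin 6, (Fin.snoc b (-∑ i, b i) : Fin 7 → F) i.castSucc = b i := fun i => by simp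
    have hs2 : (Fin.snoc b (-∑ i, b i) : Fin 7 → F) (Fin.last 6) = -∑ i, b i := Fin.snoc_last _ _
    refine ⟨Fin.snoc b (-∑ i, b i), ?_, ?_⟩
    · rw [Fin.sum_univ_castSucc, hs2]
      simp only [hs1]
      rw [add_neg_cancel]
    · rw [Fin.sum_univ_castSucc (n := 6) (f := fun a => (Fin.snoc b (-∑ i, b i) : Fin 7 → F) a • w7 F a), w7_last, smul_zero, add_zero]
      simp only [hs1, w7_castSucc]
  have h1 : lin7 h7 σ (∑ a, c a • w7 F a) = ∑ a, c (σ⁻¹ a) • w7 F a := by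
    rw [map_sum]
    simp only [map_smul, lin7_w7, smul_sub, Finset.sum_sub_distrib]
    rw [← Finset.sum_smul, hc, zero_smul, sub_zero, ← Equiv.sum_comp σ (fun a => c (σ⁻¹ a) • w7 F a)]
    simp
  rw [h1, q5_comb h7 _ (by rw [Equiv.sum_comp σ⁻¹ c, hc]), q5_comb h7 _ hc,
    Equiv.sum_comp σ⁻¹ (fun a => c a * c a)]

omit h7 in
theorem mem_rts {x : Fin 5 → F} : x ∈ rts F (v6 F) ↔ ∃ a b : Fin 7, a ≠ b ∧ x = w7 F a - w7 F b := by
  constructor
  · rintro (⟨i, ε, rfl | rfl, rfl⟩ | ⟨i, j, hij, rfl⟩)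
    · exact ⟨i.castSucc, Fin.last 6, (Fin.castSucc_lt_last i).ne, by rw [w7_last, w7_castSucc, sub_zero, one_smul]⟩
    · exact ⟨Fin.last 6, i.castSucc, (Fin.castSucc_lt_last i).ne', by
        rw [w7_last, w7_castSucc, zero_sub, neg_one_smul]⟩
    · exact ⟨i.castSucc, j.castSucc, fun h => hij (Fin.castSucc_injective _ h), by rw [w7_castSucc, w7_castSucc]⟩
  · rintro ⟨a, b, hab, rfl⟩
    induction a using Fin.lastCases with
    | last =>
      induction b using Fin.lastCases with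
      | last => exact absurd rfl hab
      | cast j =>
        rw [w7_last, w7_castSucc, zero_sub]
        exact Or.inl ⟨j, -1, Or.inr rfl, by rw [neg_one_smul]⟩
    | cast i =>
      induction b using Fin.lastCases with
      | last =>
        rw [w7_last, w7_castSucc, sub_zero]
        exact Or.inl ⟨i, 1, Or.inl rfl, by rw [one_smul]⟩
      | cast j =>
        rw [w7_castSucc, w7_castSucc]
        exact Or.inr ⟨i, j, fun h => hab (by rw [h]), rfl⟩

theorem ψ7_mem (σ : Equiv.Perm (Fin 7)) : ψ7 h7 σ ∈ R6 F := by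
  rw [mem_R6]
  have h1 : ∀ (τ : Equiv.Perm (Fin 7)) (x : Fin 5 → F),
      Cfsg.Agent.LieClassical.OrthFinite.glEquiv (Fin 5) F (ψ7 h7 τ) x = lin7 h7 τ x := by
    intro τ x
    rw [Cfsg.Agent.LieClassical.OrthFinite.glEquiv_apply, ψ7_mulVec]
  have h2 : ∀ (τ : Equiv.Perm (Fin 7)) (x : Fin 5 → F), x ∈ rts F (v6 F) →
      Cfsg.Agent.LieClassical.OrthFinite.glEquiv (Fin 5) F (ψ7 h7 τ) x ∈ rts F (v6 F) := by
    intro τ x hx
    obtain ⟨a, b, hab, rfl⟩ := mem_rts.1 hx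
    rw [h1, lin7_sub]
    exact mem_rts.2 ⟨τ a, τ b, fun h => hab (τ.injective h), rfl⟩
  refine mem_stabR_of (fun x => ?_) (h2 σ) (fun x hx => ?_)
  · rw [h1]
    exact q5_lin7 h7 σ x
  · rw [← map_inv, ← map_inv]
    exact h2 σ⁻¹ x hx

end Cfsg.Agent.H908.Lam
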