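import Cfsg.Agent.H908.DihTr
import Cfsg.Agent.H908.FourSeven

/-!
# Traces for `A₇` and `L₂(7)` in dimension four, non-trivial centre
-/

set_option autoImplicit false
set_option linter.unusedSectionVars false

namespace Cfsg.Agent.H908

open Cfsg Cfsg.Geo
open scoped MatrixGroups commutatorElement

/-- A Frobenius group `7:3` and a symmetric group of degree four in the group of the Fano plane. -/
structure Fano (T : Type*) [Group T] where
  x : T
  d : T
  i : T
  j : T
  s : T
  hx : x ^ 7 = 1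
  hx1 : x ≠ 1
  hd : d ^ 3 = 1
  hdx : d * x * d⁻¹ = x ^ 2
  hi : i * i = 1
  hi1 : i ≠ 1
  hij : i * j = j * i
  hne : i ≠ j
  hdi : d * i * d⁻¹ = j
  hdj : d * j * d⁻¹ = i * j
  hs : s * s = 1
  hsi : s * i * s⁻¹ = j
  hsd : s * d * s⁻¹ = d⁻¹

namespace Fano

variable {T : Type*} [Group T] (D : Fano T)

theorem hj : D.j * D.j = 1 := by
  rw [← D.hdi]
  calc D.d * D.i * D.d⁻¹ * (D.d * D.i * D.d⁻¹) = D.d * (D.i * D.i) * D.d⁻¹ := by group
    _ = 1 := by rw [D.hi]; group

theorem hj1 : D.j ≠ 1 := by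
  intro h
  apply D.hi1
  have := D.hdi
  rw [h] at this
  calc D.i = D.d⁻¹ * (D.d * D.i * D.d⁻¹) * D.d := by group
    _ = 1 := by rw [this]; group

theorem hs1 : D.s ≠ 1 := by
  intro h
  apply D.hne
  have := D.hsi
  rw [h] at this
  simpa using this

theorem hsj : D.s * D.j * D.s⁻¹ = D.i := by
  have h1 : D.s⁻¹ = D.s := inv_eq_of_mul_eq_one_left D.hs
  calc D.s * D.j * D.s⁻¹ = D.s * (D.s * D.i * D.s⁻¹) * D.s⁻¹ := by rw [D.hsi]
    _ = (D.s * D.s) * D.i * (D.s⁻¹ * D.s⁻¹) := by group
    _ = D.i := by rw [h1, D.hs]; group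

theorem sq_a : (D.s * D.i) ^ 2 = D.j * D.i := by
  have h1 : D.s⁻¹ = D.s := inv_eq_of_mul_eq_one_left D.hs
  calc (D.s * D.i) ^ 2 = (D.s * D.i * D.s) * D.i := by rw [pow_two]; group
    _ = _ := by nth_rewrite 2 [← h1]; rw [D.hsi]

/-- the dihedral data -/
def dih (m : ℕ) (hT : Nat.card T = 8 * m) (hm : Odd m) (hinv : ∀ t : T, t ^ 2 = 1 → t ≠ 1 → IsConj D.i t) : DihType T where
  a := D.s * D.i
  b := D.i
  m := m
  card := hT
  odd := hm
  ha2 := by
    rw [D.sq_a]
    intro h
    apply D.hne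
    have : D.j⁻¹ = D.j := inv_eq_of_mul_eq_one_left D.hj
    rw [← this]
    exact eq_inv_of_mul_eq_one_right h
  ha4 := by
    rw [show (D.s * D.i) ^ 4 = ((D.s * D.i) ^ 2) ^ 2 from by rw [← pow_mul], D.sq_a, pow_two]
    calc D.j * D.i * (D.j * D.i) = D.j * (D.i * D.j) * D.i := by group
      _ = D.j * (D.j * D.i) * D.i := by rw [D.hij]
      _ = (D.j * D.j) * (D.i * D.i) := by group
      _ = 1 := by rw [D.hi, D.hj, one_mul]
  hb := by rw [pow_two, D.hi]
  hb1 := D.hi1
  hab := by
    have h1 : D.s⁻¹ = D.s := inv_eq_of_mul_eq_one_left D.hs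
    have h2 : D.i⁻¹ = D.i := inv_eq_of_mul_eq_one_left D.hi
    rw [mul_inv_rev, h1, h2]
    calc D.i * (D.s * D.i) * D.i = D.i * D.s * (D.i * D.i) := by group
      _ = D.i * D.s := by rw [D.hi, mul_one]
  inv := by
    intro t ht ht1
    have h1 : (D.j * D.i) ^ 2 = 1 := by
      rw [pow_two]
      calc D.j * D.i * (D.j * D.i) = D.j * (D.i * D.j) * D.i := by group
        _ = D.j * (D.j * D.i) * D.i := by rw [D.hij]
        _ = (D.j * D.j) * (D.i * D.i) := by group
        _ = 1 := by rw [D.hi, D.hj, one_mul]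
    have h2 : D.j * D.i ≠ 1 := by
      intro h
      apply D.hne
      have : D.j⁻¹ = D.j := inv_eq_of_mul_eq_one_left D.hj
      rw [← this]
      exact eq_inv_of_mul_eq_one_right h
    rw [D.sq_a]
    exact (hinv _ h1 h2).symm.trans (hinv t ht ht1)

end Fano

section Ext

variable {F : Type*} [Field F] (K : Type*) [Field K] [Algebra F K]

/-- matrices over `F` as endomorphisms over `K` -/
noncomputable def ext : Matrix (Fin 4) (Fin 4) F →+* Module.End K (Fin 4 → K) :=
  ((Matrix.toLinAlgEquiv' (R := K) (n := Fin 4)).toRingEquiv.toRingHom).comp (algebraMap F K).mapMatrix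

theorem ext_apply (M : Matrix (Fin 4) (Fin 4) F) : ext K M = Matrix.toLin' (M.map (algebraMap F K)) := rfl

theorem trace_ext (M : Matrix (Fin 4) (Fin 4) F) : LinearMap.trace K _ (ext K M) = algebraMap F K M.trace := by
  rw [ext_apply, Matrix.trace_toLin'_eq]
  simp [Matrix.trace]

theorem det_ext (M : Matrix (Fin 4) (Fin 4) F) : LinearMap.det (ext K M) = algebraMap F K M.det := by
  rw [ext_apply, LinearMap.det_toLin']
  exact ((algebraMap F K).map_det M).symm

theorem ext_injective : Function.Injective (ext (F := F) K) := by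
  intro M N h
  have h1 : M.map (algebraMap F K) = N.map (algebraMap F K) := Matrix.toLin'.injective h
  ext i j
  exact (algebraMap F K).injective (congrFun (congrFun h1 i) j)

theorem ext_smul (c : F) (M : Matrix (Fin 4) (Fin 4) F) : ext K (c • M) = algebraMap F K c • ext K M := by
  have h1 : (c • M).map (algebraMap F K) = algebraMap F K c • M.map (algebraMap F K) := by
    ext i j; simp
  rw [ext_apply, h1, map_smul, ext_apply]

end Ext

/-- The sign in `S I = ε J S` is forced. -/
theorem sign_forced {K A : Type*} [Field K] [Ring A] [Nontrivial A] [Algebra K A] {D I J S : A} {ε c : K}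
    (hI : IsUnit I) (hJ : IsUnit J) (hS : IsUnit S) (hD : D ^ 3 = 1) (hc : c ≠ 0) (hε : ε ≠ 0)
    (hIJ : I * J = -(J * I)) (hDI : D * I = J * D) (hDJ : D * J = c • (I * J) * D) (hSD : S * D = D ^ 2 * S)
    (hSI : S * I = ε • (J * S)) : ε = -1 ∧ S * J = ε • (I * S) := by
  have hD3 : D * D * D = 1 := by rw [← hD]; noncomm_ring
  have hD2 : D ^ 2 = D * D := pow_two D
  rw [hD2] at hSD
  have hDr : ∀ {a b : A}, a * D = b * D → a = b := by
    intro a b h
    calc a = a * (D * D * D) := by rw [hD3, mul_one]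
      _ = (a * D) * (D * D) := by noncomm_ring
      _ = (b * D) * (D * D) := by rw [h]
      _ = b * (D * D * D) := by noncomm_ring
      _ = b := by rw [hD3, mul_one]
  have e1 : D * D * J = I * (D * D) := by
    have : J = D * I * (D * D) := by
      rw [hDI]
      calc J = J * (D * D * D) := by rw [hD3, mul_one]
        _ = _ := by noncomm_ring
    calc D * D * J = D * D * (D * I * (D * D)) := by rw [← this]
      _ = (D * D * D) * I * (D * D) := by noncomm_ring
      _ = I * (D * D) := by rw [hD3, one_mul]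
  have e2 : S * J = ε • (I * S) := by
    apply hDr
    calc S * J * D = S * (D * I) := by rw [hDI, mul_assoc]
      _ = (S * D) * I := by rw [mul_assoc]
      _ = D * D * (S * I) := by rw [hSD, mul_assoc]
      _ = ε • ((D * D * J) * S) := by rw [hSI, mul_smul_comm, mul_assoc (D * D) J S]
      _ = ε • (I * (D * D * S)) := by rw [e1, mul_assoc]
      _ = ε • (I * (S * D)) := by rw [hSD]
      _ = ε • (I * S) * D := by rw [smul_mul_assoc, mul_assoc]
  refine ⟨?_, e2⟩
  have e3 : ε • (D * D * I) * S = (c * ε * ε) • (J * I * (D * D)) * S := by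
    calc ε • (D * D * I) * S = D * D * (ε • (I * S)) := by
          rw [smul_mul_assoc, mul_smul_comm, mul_assoc (D * D) I S]
      _ = D * D * S * J := by rw [← e2, mul_assoc (D * D) S J]
      _ = S * (D * J) := by rw [← hSD, mul_assoc]
      _ = c • ((S * I) * (J * D)) := by
          rw [hDJ, smul_mul_assoc, mul_smul_comm]
          congr 1
          noncomm_ring
      _ = (c * ε) • (J * (S * J) * D) := by
          rw [hSI, smul_mul_assoc, smul_smul]
          congr 1
          noncomm_ring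
      _ = (c * ε * ε) • (J * I * (S * D)) := by
          rw [e2, mul_smul_comm, smul_mul_assoc, smul_smul]
          congr 1
          noncomm_ring
      _ = (c * ε * ε) • (J * I * (D * D)) * S := by
          rw [hSD, smul_mul_assoc]
          congr 1
          noncomm_ring
  have e4 : ε • (D * D * I) = (c * ε * ε) • (J * I * (D * D)) := hS.mul_right_cancel e3
  have e5 : D * D * I = c • (I * J) * (D * D) := by
    calc D * D * I = D * (D * I) := by rw [mul_assoc]
      _ = (D * J) * D := by rw [hDI, mul_assoc]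
      _ = _ := by rw [hDJ, mul_assoc]
  rw [e5, smul_mul_assoc, smul_smul] at e4
  have e6 : (ε * c) • (I * J) = (c * ε * ε) • (J * I) := by
    apply hDr
    apply hDr
    rw [smul_mul_assoc, smul_mul_assoc, mul_assoc (I * J) D D, smul_mul_assoc, smul_mul_assoc, mul_assoc (J * I) D D]
    exact e4
  have e7 : (c * ε * (ε + 1)) • (J * I) = 0 := by
    have : (c * ε * ε) • (J * I) = -((ε * c) • (J * I)) := by rw [← e6, hIJ, smul_neg]
    calc (c * ε * (ε + 1)) • (J * I) = (c * ε * ε) • (J * I) + (ε * c) • (J * I) := by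
          rw [← add_smul]; congr 1; ring
      _ = 0 := by rw [this]; simp
  rcases smul_eq_zero.1 e7 with h1 | h1
  · have h2 : ε + 1 = 0 := by
      rcases mul_eq_zero.1 h1 with h3 | h3
      · exact absurd h3 (mul_ne_zero hc hε)
      · exact h3
    linear_combination h2
  · exact absurd h1 (hJ.mul hI).ne_zero

namespace Cov

variable {F : Type*} [Field F] {T : Type*} [Group T] {P : Subgroup (GL (Fin 4) F)} {φ : P →* T}

/-- **Elements of order four have trace zero** (non-trivial centre, characteristic not 2, 7). -/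
theorem Two.tr_si [Finite F] (h : Cov P φ) (h2 : (2 : F) ≠ 0) (h7 : (7 : F) ≠ 0) (t : Two φ) (D : Fano T) {y : P}
    (hy : IsConj (D.s * D.i) (φ y)) : tr y = 0 := by
  classical
  -- lifts
  obtain ⟨X, hX, hXo⟩ := h.exists_lift D.x (by
    have : orderOf D.x ∣ 7 := orderOf_dvd_of_pow_eq_one D.hx
    exact Odd.of_dvd_nat (by decide) this)
  obtain ⟨E, hE, hEo⟩ := h.exists_lift D.d (by
    have : orderOf D.d ∣ 3 := orderOf_dvd_of_pow_eq_one D.hd
    exact Odd.of_dvd_nat (by decide) this)
  have hXodd : Odd (orderOf X) := by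
    rw [hXo]
    have : orderOf D.x ∣ 7 := orderOf_dvd_of_pow_eq_one D.hx
    exact Odd.of_dvd_nat (by decide) this
  have hEodd : Odd (orderOf E) := by
    rw [hEo]
    have : orderOf D.d ∣ 3 := orderOf_dvd_of_pow_eq_one D.hd
    exact Odd.of_dvd_nat (by decide) this
  have hX7 : X ^ 7 = 1 := by
    apply orderOf_dvd_iff_pow_eq_one.1
    rw [hXo]
    exact orderOf_dvd_of_pow_eq_one D.hx
  have hE3 : E ^ 3 = 1 := by
    apply orderOf_dvd_iff_pow_eq_one.1
    rw [hEo]
    exact orderOf_dvd_of_pow_eq_one D.hd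
  have hX1 : X ≠ 1 := by
    intro h'
    apply D.hx1
    rw [← hX, h', map_one]
  have hEX : E * X * E⁻¹ = X ^ 2 := by
    apply h.conj_lift _ hXodd (odd_orderOf_pow hXodd 2)
    rw [map_mul, map_mul, map_inv, map_pow, hE, hX, D.hdx]
  obtain ⟨I, hI⟩ := h.surj D.i
  obtain ⟨S, hS⟩ := h.surj D.s
  obtain ⟨J, hJ⟩ : ∃ J, J = E * I * E⁻¹ := ⟨_, rfl⟩
  have hφJ : φ J = D.j := by rw [hJ, map_mul, map_mul, map_inv, hE, hI, D.hdi]
  have hSE : S * E * S⁻¹ = E⁻¹ := by
    apply h.conj_lift _ hEodd (by rwa [orderOf_inv])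
    rw [map_mul, map_mul, map_inv, map_inv, hS, hE, D.hsd]
  -- squares
  have sI : mt P (I * I) = -1 := t.sq I (by rw [hI]; exact D.hi1) (by rw [hI, pow_two, D.hi])
  have sJ : mt P (J * J) = -1 := t.sq J (by rw [hφJ]; exact D.hj1) (by rw [hφJ, pow_two, D.hj])
  have sS : mt P (S * S) = -1 := t.sq S (by rw [hS]; exact D.hs1) (by rw [hS, pow_two, D.hs])
  have aIJ : mt P I * mt P J = -(mt P J * mt P I) :=
    t.anti h h2 (by rw [hI, pow_two, D.hi]) (by rw [hI]; exact D.hi1) (by rw [hφJ, pow_two, D.hj])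
      (by rw [hφJ]; exact D.hj1) (by rw [hI, hφJ, D.hij]) (by rw [hI, hφJ]; exact D.hne)
  -- the two signs
  obtain ⟨ε, hε, hSI⟩ : ∃ ε : F, (ε = 1 ∨ ε = -1) ∧ mt P S * mt P I = ε • (mt P J * mt P S) := by
    have hk : φ (S * I * S⁻¹ * J⁻¹) = 1 := by
      rw [map_mul, map_mul, map_mul, map_inv, map_inv, hS, hI, hφJ, D.hsi, mul_inv_cancel]
    have e : S * I = (S * I * S⁻¹ * J⁻¹) * (J * S) := by group
    rcases t.pm _ hk with h1 | h1
    · exact ⟨1, Or.inl rfl, by rw [← map_mul, e, map_mul, h1, one_mul, one_smul, map_mul]⟩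
    · exact ⟨-1, Or.inr rfl, by rw [← map_mul, e, map_mul, h1, neg_one_mul, neg_one_smul, map_mul]⟩
  obtain ⟨c, hc, hEJ⟩ : ∃ c : F, (c = 1 ∨ c = -1) ∧ mt P E * mt P J = c • (mt P I * mt P J) * mt P E := by
    have hk : φ (E * J * E⁻¹ * (I * J)⁻¹) = 1 := by
      rw [map_mul, map_mul, map_mul, map_inv, map_inv, map_mul, hE, hI, hφJ, D.hdj, mul_inv_cancel]
    have e : E * J = (E * J * E⁻¹ * (I * J)⁻¹) * (I * J * E) := by group
    rcases t.pm _ hk with h1 | h1
    · exact ⟨1, Or.inl rfl, by rw [← map_mul, e, map_mul, h1, one_mul, one_smul, map_mul, map_mul]⟩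
    · exact ⟨-1, Or.inr rfl, by rw [← map_mul, e, map_mul, h1, neg_one_mul, neg_one_smul, map_mul, map_mul, neg_mul]⟩
  have unit : ∀ g : P, IsUnit (mt P g) := fun g => (Group.isUnit g).map (mt P)
  have hEI : mt P E * mt P I = mt P J * mt P E := by
    rw [← map_mul, ← map_mul, hJ]
    congr 1
    group
  have hSE' : mt P S * mt P E = mt P E ^ 2 * mt P S := by
    rw [← map_mul, ← map_pow, ← map_mul]
    congr 1
    have h1 : E⁻¹ = E ^ 2 := by rw [inv_eq_iff_mul_eq_one, ← pow_succ', hE3]
    rw [← h1, ← hSE]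
    group
  have hE3' : mt P E ^ 3 = 1 := by rw [← map_pow, hE3, map_one]
  have hc0 : c ≠ 0 := by rcases hc with rfl | rfl <;> simp
  have hε0 : ε ≠ 0 := by rcases hε with rfl | rfl <;> simp
  obtain ⟨hε1, hSJ⟩ := sign_forced (K := F) (unit I) (unit J) (unit S) hE3' hc0 hε0 aIJ hEI hEJ hSE' hSI
  subst hε1
  -- pass to the algebraic closure
  set K := AlgebraicClosure F
  set e := ext (F := F) K with he
  have main := seven_main (K := K) (V := Fin 4 → K) (X := e (mt P X)) (D := e (mt P E)) (I := e (mt P I))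
    (J := e (mt P J)) (S := e (mt P S)) (α := -1) (σ := -1) (c := algebraMap F K c)
    (by
      have := (map_ne_zero (algebraMap F K)).2 h2
      rwa [map_ofNat] at this)
    (by
      have := (map_ne_zero (algebraMap F K)).2 h7
      rwa [map_ofNat] at this)
    (by simp)
    (by rw [← map_pow, ← map_pow, hX7, map_one, map_one])
    (by
      intro h'
      apply hX1
      apply mt_injective
      apply ext_injective K
      rw [map_one, map_one]
      exact h')
    (by rw [← map_pow, hE3', map_one])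
    (by
      rw [← map_mul, ← map_pow, ← map_mul]
      congr 1
      rw [← map_mul, ← map_pow, ← map_mul]
      congr 1
      rw [← hEX]
      group)
    (by simp) (by simp)
    (by rw [← map_mul, ← map_mul, sI, map_neg, map_one]; exact (neg_one_smul K _).symm)
    (by rw [← map_mul, ← map_mul, sJ, map_neg, map_one]; exact (neg_one_smul K _).symm)
    (by rw [← map_mul, aIJ, map_neg, map_mul])
    (by rw [← map_mul, hSI, neg_one_smul, map_neg, map_mul])
    (by rw [← map_mul, hSJ, neg_one_smul, map_neg, map_mul])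
    (by rw [← map_mul, ← map_mul, sS, map_neg, map_one]; exact (neg_one_smul K _).symm)
    (by rw [← map_mul, hEI, map_mul])
    (by rw [← map_mul, hEJ, map_mul, ext_smul, map_mul])
    (by rw [← map_mul, hSE', map_mul, map_pow])
  have main2 : tr (S * I) = 0 := by
    have h1 : e (mt P S) * e (mt P I) = e (mt P (S * I)) := by rw [map_mul, map_mul]
    rw [h1, he, trace_ext] at main
    exact (map_eq_zero (algebraMap F K)).1 main
  obtain ⟨g, hg⟩ := isConj_iff.1 hy
  obtain ⟨x, rfl⟩ := h.surj g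
  have hk : φ (y * (x * (S * I) * x⁻¹)⁻¹) = 1 := by
    rw [map_mul, map_inv, map_mul, map_mul, map_mul, map_inv, hS, hI, hg, mul_inv_cancel]
  have hy' : y = (y * (x * (S * I) * x⁻¹)⁻¹) * (x * (S * I) * x⁻¹) := by group
  have h3 : tr y = tr (S * I) ∨ tr y = - tr (S * I) := by
    rcases t.pm _ hk with h4 | h4
    · left
      rw [← tr_conj x (S * I)]
      unfold tr
      conv_lhs => rw [hy', map_mul, h4, one_mul]
    · right
      rw [← tr_conj x (S * I)]
      unfold tr
      conv_lhs => rw [hy', map_mul, h4, neg_one_mul, Matrix.trace_neg]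
  rcases h3 with h3 | h3 <;> rw [h3, main2] <;> simp

end Cov

end Cfsg.Agent.H908
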