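import Cfsg.Agent.H908.CovFour
import Cfsg.Agent.H908.SevenTr

/-!
# No `2³:7` in dimension four, odd characteristic (projectively)
-/

set_option autoImplicit false
set_option linter.unusedSectionVars false

namespace Cfsg.Agent.H908

open Cfsg Cfsg.Geo Module
open scoped MatrixGroups

section Op
variable {K : Type*} [Field K] {V : Type*} [AddCommGroup V] [Module K V] [FiniteDimensional K V]

/-- common eigenvectors -/
theorem exists_common [IsAlgClosed K] (l : List (End K V)) : ∀ (W : Submodule K V), W ≠ ⊥ →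
    (∀ f ∈ l, ∀ g ∈ l, f * g = g * f) → (∀ f ∈ l, ∀ w ∈ W, f w ∈ W) →
    ∃ v ∈ W, v ≠ 0 ∧ ∀ f ∈ l, ∃ μ : K, f v = μ • v := by
  induction l with
  | nil =>
    intro W hW _ _
    obtain ⟨v, hv, hv0⟩ := Submodule.exists_mem_ne_zero_of_ne_bot hW
    exact ⟨v, hv, hv0, fun f hf => by simp at hf⟩
  | cons f l ih =>
    intro W hW hcomm hinv
    have hf : ∀ w ∈ W, f w ∈ W := hinv f (List.mem_cons_self ..)
    have : Nontrivial W := Submodule.nontrivial_iff_ne_bot.2 hW
    obtain ⟨μ, hμ⟩ := Module.End.exists_eigenvalue (f.restrict hf)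
    obtain ⟨w, hw⟩ := hμ.exists_hasEigenvector
    have hw1 : f (w : V) = μ • (w : V) := by
      have := congrArg Subtype.val (Module.End.mem_eigenspace_iff.1 hw.1)
      simpa using this
    have hw0 : (w : V) ≠ 0 := fun h => hw.2 (Subtype.ext h)
    let W' : Submodule K V := W ⊓ LinearMap.ker (f - μ • (1 : End K V))
    have hmem : ∀ u, u ∈ W' ↔ u ∈ W ∧ f u = μ • u := by
      intro u
      rw [Submodule.mem_inf, LinearMap.mem_ker, LinearMap.sub_apply, LinearMap.smul_apply, Module.End.one_apply,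
        sub_eq_zero]
    have hW' : W' ≠ ⊥ := by
      intro h
      have : (w : V) ∈ W' := (hmem _).2 ⟨w.2, hw1⟩
      rw [h, Submodule.mem_bot] at this
      exact hw0 this
    obtain ⟨v, hv, hv0, hvl⟩ := ih W' hW'
      (fun g hg g' hg' => hcomm g (List.mem_cons_of_mem _ hg) g' (List.mem_cons_of_mem _ hg'))
      (fun g hg u hu => by
        rw [hmem] at hu ⊢
        refine ⟨hinv g (List.mem_cons_of_mem _ hg) u hu.1, ?_⟩
        rw [← Module.End.mul_apply, hcomm f (List.mem_cons_self ..) g (List.mem_cons_of_mem _ hg),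
          Module.End.mul_apply, hu.2, map_smul])
    rw [hmem] at hv
    refine ⟨v, hv.1, hv0, fun g hg => ?_⟩
    rcases List.mem_cons.1 hg with rfl | hg
    · exact ⟨μ, hv.2⟩
    · exact hvl g hg

/-- independence of common eigenvectors for different characters -/
theorem li_of_chars (h2 : (2 : K) ≠ 0) {m n : ℕ} {X : Fin n → End K V} {v : Fin m → V} {μ : Fin n → Fin m → K} {z : K}
    (hz : z ≠ 0) (hX : ∀ k i, X k (v i) = μ k i • v i) (hμ : ∀ k i, μ k i * μ k i = z) (hv : ∀ i, v i ≠ 0)
    (hne : ∀ i j, i ≠ j → ∃ k, μ k i ≠ μ k j) : LinearIndependent K v := by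
  rw [Fintype.linearIndependent_iff]
  intro c hc j
  have key : ∀ (l : List (Fin n)) (i : Fin m),
      (l.map fun k => X k + μ k j • (1 : End K V)).prod (v i) = (l.map fun k => μ k i + μ k j).prod • v i := by
    intro l i
    induction l with
    | nil => simp
    | cons k l ih =>
      rw [List.map_cons, List.prod_cons, List.map_cons, List.prod_cons, Module.End.mul_apply, ih, map_smul,
        LinearMap.add_apply, hX, LinearMap.smul_apply, Module.End.one_apply, ← add_smul, smul_smul, mul_comm]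
  have h1 := congrArg ((List.finRange n).map fun k => X k + μ k j • (1 : End K V)).prod hc
  rw [map_zero, map_sum] at h1
  have h3 : ∀ i, ((List.finRange n).map fun k => X k + μ k j • (1 : End K V)).prod (c i • v i) =
      (c i * ((List.finRange n).map fun k => μ k i + μ k j).prod) • v i := by
    intro i
    rw [map_smul, key, smul_smul]
  rw [Finset.sum_congr rfl fun i _ => h3 i, ← Finset.sum_erase_add _ _ (Finset.mem_univ j)] at h1
  have h4 : ∑ i ∈ Finset.univ.erase j, (c i * ((List.finRange n).map fun k => μ k i + μ k j).prod) • v i = 0 := by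
    apply Finset.sum_eq_zero
    intro i hi
    obtain ⟨k, hk⟩ := hne i j (Finset.ne_of_mem_erase hi)
    have h5 : μ k i + μ k j = 0 := by
      have h6 : (μ k i - μ k j) * (μ k i + μ k j) = 0 := by linear_combination hμ k i - hμ k j
      exact (mul_eq_zero.1 h6).resolve_left (sub_ne_zero.2 hk)
    have h6 : ((List.finRange n).map fun k => μ k i + μ k j).prod = 0 := by
      apply List.prod_eq_zero
      rw [List.mem_map]
      exact ⟨k, List.mem_finRange k, h5⟩
    rw [h6, mul_zero, zero_smul]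
  rw [h4, zero_add] at h1
  have h5 : ((List.finRange n).map fun k => μ k j + μ k j).prod ≠ 0 := by
    rw [Ne, List.prod_eq_zero_iff]
    intro h6
    rw [List.mem_map] at h6
    obtain ⟨k, -, hk⟩ := h6
    have h7 : 2 * μ k j = 0 := by linear_combination hk
    have h8 := (mul_eq_zero.1 h7).resolve_left h2
    apply hz
    rw [← hμ k j, h8, mul_zero]
  exact (mul_eq_zero.1 ((smul_eq_zero.1 h1).resolve_right (hv j))).resolve_right h5

/-- seven commuting conjugates of an operator with scalar square, in small dimension, are equal. -/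
theorem no_cycle [IsAlgClosed K] (h2 : (2 : K) ≠ 0) (hdim : finrank K V < 7) {X : ℕ → End K V} {t : End K V}
    (ht : Function.Injective t) (hT : ∀ k, t * X k = X (k + 1) * t) (hper : ∀ k, X (k + 7) = X k)
    (hcomm : ∀ i j, X i * X j = X j * X i) {z : K} (hz : z ≠ 0) (hsq : ∀ i, X i * X i = z • (1 : End K V)) :
    X 0 = X 1 := by
  by_contra hne
  have hper' : ∀ q k, X (k + 7 * q) = X k := by
    intro q
    induction q with
    | zero => intro k; rfl
    | succ q ih =>
      intro k
      rw [show k + 7 * (q + 1) = k + 7 * q + 7 by ring, hper, ih]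
  obtain ⟨v, ⟨w, hw⟩, hv0, hvl⟩ := exists_common ((List.range 7).map X) (LinearMap.range (X 0 - X 1)) (by
    rw [Ne, LinearMap.range_eq_bot]
    exact sub_ne_zero.2 hne) (by
      intro f hf g hg
      rw [List.mem_map] at hf hg
      obtain ⟨i, -, rfl⟩ := hf
      obtain ⟨j, -, rfl⟩ := hg
      exact hcomm i j) (by
      rintro f hf _ ⟨u, rfl⟩
      rw [List.mem_map] at hf
      obtain ⟨i, -, rfl⟩ := hf
      refine ⟨X i u, ?_⟩
      rw [← Module.End.mul_apply, ← Module.End.mul_apply, sub_mul, mul_sub, hcomm 0 i, hcomm 1 i])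
  have hall : ∀ k, ∃ μ : K, X k v = μ • v := by
    intro k
    obtain ⟨μ, hμ⟩ := hvl (X (k % 7)) (List.mem_map.2 ⟨k % 7, List.mem_range.2 (Nat.mod_lt _ (by norm_num)), rfl⟩)
    refine ⟨μ, ?_⟩
    rw [← Nat.mod_add_div k 7, hper']
    exact hμ
  choose lam hlam using hall
  have hsq' : ∀ k, lam k * lam k = z := by
    intro k
    have h1 := congrArg (fun f : End K V => f v) (hsq k)
    simp only [Module.End.mul_apply, LinearMap.smul_apply, Module.End.one_apply] at h1
    rw [hlam, map_smul, hlam, smul_smul] at h1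
    have h3 : (lam k * lam k - z) • v = 0 := by rw [sub_smul, h1, sub_self]
    exact sub_eq_zero.1 ((smul_eq_zero.1 h3).resolve_right hv0)
  have hlper : ∀ k, lam (k + 7) = lam k := by
    intro k
    have h1 : (lam (k + 7) - lam k) • v = 0 := by rw [sub_smul, ← hlam, ← hlam, hper, sub_self]
    exact sub_eq_zero.1 ((smul_eq_zero.1 h1).resolve_right hv0)
  have hlper' : ∀ q k, lam (k + 7 * q) = lam k := by
    intro q
    induction q with
    | zero => intro k; rfl
    | succ q ih =>
      intro k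
      rw [show k + 7 * (q + 1) = k + 7 * q + 7 by ring, hlper, ih]
  have h01 : lam 0 ≠ lam 1 := by
    intro h
    have h1 : (X 0 + X 1) v = 0 := by
      rw [← hw, ← Module.End.mul_apply, add_mul, mul_sub, mul_sub, hsq, hsq, hcomm 1 0]
      have : z • (1 : End K V) - X 0 * X 1 + (X 0 * X 1 - z • (1 : End K V)) = 0 := by abel
      rw [this]; rfl
    rw [LinearMap.add_apply, hlam, hlam, ← h, ← add_smul] at h1
    have h3 : 2 * lam 0 = 0 := by
      have := (smul_eq_zero.1 h1).resolve_right hv0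
      linear_combination this
    have h4 := (mul_eq_zero.1 h3).resolve_left h2
    apply hz
    rw [← hsq' 0, h4, mul_zero]
  -- the seven vectors
  have hshift : ∀ j k, X (k + j) * t ^ j = t ^ j * X k := by
    intro j
    induction j with
    | zero => intro k; simp
    | succ j ih =>
      intro k
      rw [pow_succ, ← mul_assoc, show k + (j + 1) = (k + 1) + j by ring, ih, mul_assoc, mul_assoc, hT]
  have hXv : ∀ j k, X k ((t ^ j) v) = lam (k + 6 * j) • (t ^ j) v := by
    intro j k
    have h1 : X k = X ((k + 6 * j) + j) := by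
      rw [show k + 6 * j + j = k + 7 * j by ring, hper']
    rw [h1, ← Module.End.mul_apply, hshift, Module.End.mul_apply, hlam, map_smul]
  have hli : LinearIndependent K (fun j : Fin 7 => (t ^ (j : ℕ)) v) := by
    refine li_of_chars h2 (n := 7) (X := fun k : Fin 7 => X k) (μ := fun k j => lam ((k : ℕ) + 6 * (j : ℕ))) hz
      (fun k j => hXv j k) (fun k j => hsq' _) (fun j => ?_) (fun i j hij => ?_)
    · have hinj : ∀ n : ℕ, Function.Injective (t ^ n) := by
        intro n
        induction n with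
        | zero => intro a b h; simpa using h
        | succ n ih =>
          intro a b h
          rw [pow_succ, Module.End.mul_apply, Module.End.mul_apply] at h
          exact ht (ih h)
      intro h
      apply hv0
      apply hinj j
      rw [map_zero]
      exact h
    · by_contra hcon
      push Not at hcon
      apply h01
      -- periodicity with a period prime to seven
      have hall : ∀ n : ℕ, lam (n + 6 * (i : ℕ)) = lam (n + 6 * (j : ℕ)) := by
        intro n
        have h1 := hcon ⟨n % 7, Nat.mod_lt _ (by norm_num)⟩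
        simp only at h1
        have e1 : lam (n + 6 * (i : ℕ)) = lam (n % 7 + 6 * (i : ℕ)) := by
          conv_lhs => rw [← Nat.mod_add_div n 7]
          rw [show n % 7 + 7 * (n / 7) + 6 * (i : ℕ) = n % 7 + 6 * (i : ℕ) + 7 * (n / 7) by ring, hlper']
        have e2 : lam (n + 6 * (j : ℕ)) = lam (n % 7 + 6 * (j : ℕ)) := by
          conv_lhs => rw [← Nat.mod_add_div n 7]
          rw [show n % 7 + 7 * (n / 7) + 6 * (j : ℕ) = n % 7 + 6 * (j : ℕ) + 7 * (n / 7) by ring, hlper']
        rw [e1, e2]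
        exact h1
      have hstep : ∀ n : ℕ, lam n = lam (n + ((j : ℕ) + 6 * (i : ℕ)) * 6) := by
        intro n
        have h1 := hall (n + 36 * (i : ℕ))
        rw [show n + 36 * (i : ℕ) + 6 * (i : ℕ) = n + 7 * (6 * (i : ℕ)) by ring, hlper'] at h1
        rw [h1]
        congr 1
        ring
      have hm : ∀ m n : ℕ, lam n = lam (n + ((j : ℕ) + 6 * (i : ℕ)) * 6 * m) := by
        intro m
        induction m with
        | zero => intro n; simp
        | succ m ih =>
          intro n
          rw [ih n, hstep]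
          congr 1
          ring
      have hcop : ∃ m : ℕ, (((j : ℕ) + 6 * (i : ℕ)) * 6 * m) % 7 = 1 := by
        have : ∀ i j : Fin 7, i ≠ j → ∃ m : Fin 7, (((j : ℕ) + 6 * (i : ℕ)) * 6 * (m : ℕ)) % 7 = 1 := by decide
        obtain ⟨m, hm⟩ := this i j hij
        exact ⟨m, hm⟩
      obtain ⟨m, hm1⟩ := hcop
      rw [hm m 0]
      conv_lhs => rw [← Nat.mod_add_div (((j : ℕ) + 6 * (i : ℕ)) * 6 * m) 7, hm1]
      rw [show 0 + (1 + 7 * (((j : ℕ) + 6 * (i : ℕ)) * 6 * m / 7)) = 1 + 7 * (((j : ℕ) + 6 * (i : ℕ)) * 6 * m / 7) by ring,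
        hlper']
  have := hli.fintype_card_le_finrank
  rw [Fintype.card_fin] at this
  omega

end Op

namespace Cov

variable {F : Type*} [Field F] {T : Type*} [Group T] {P : Subgroup (GL (Fin 4) F)} {φ : P →* T}

/-- **No `2³:7`.** -/
theorem no_frob [Finite F] (h : Cov P φ) (h2 : (2 : F) ≠ 0) {a t : T} (ha : a * a = 1) (ht : t ^ 7 = 1)
    (h01 : a * (t * a * t⁻¹) = t * a * t⁻¹ * a) (h02 : a * (t ^ 2 * a * (t ^ 2)⁻¹) = t ^ 2 * a * (t ^ 2)⁻¹ * a)
    (h3 : t ^ 3 * a * (t ^ 3)⁻¹ = a * (t * a * t⁻¹)) : t * a * t⁻¹ = a := by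
  have hodd : Odd (orderOf t) := Odd.of_dvd_nat (by decide) (orderOf_dvd_of_pow_eq_one ht)
  obtain ⟨τ, hτ, hτo⟩ := h.exists_lift t hodd
  have hτ7 : τ ^ 7 = 1 := by
    apply orderOf_dvd_iff_pow_eq_one.1
    rw [hτo]
    exact orderOf_dvd_of_pow_eq_one ht
  obtain ⟨x, hx⟩ := h.surj a
  let y : ℕ → P := fun n => τ ^ n * x * (τ ^ n)⁻¹
  have hy : ∀ n, φ (y n) = t ^ n * a * (t ^ n)⁻¹ := fun n => by
    change φ (τ ^ n * x * (τ ^ n)⁻¹) = _
    rw [map_mul, map_mul, map_inv, map_pow, hτ, hx]
  have hy1 : ∀ n k, y (n + k) = τ ^ k * y n * (τ ^ k)⁻¹ := fun n k => by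
    change τ ^ (n + k) * x * (τ ^ (n + k))⁻¹ = τ ^ k * (τ ^ n * x * (τ ^ n)⁻¹) * (τ ^ k)⁻¹
    rw [add_comm n k, pow_add]
    group
  have hyy : ∀ n, φ (y n) * φ (y n) = 1 := fun n => by
    rw [hy]
    calc t ^ n * a * (t ^ n)⁻¹ * (t ^ n * a * (t ^ n)⁻¹) = t ^ n * (a * a) * (t ^ n)⁻¹ := by group
      _ = 1 := by rw [ha]; group
  clear_value y
  obtain ⟨X, hX⟩ : ∃ X : ℕ → Matrix (Fin 4) (Fin 4) F, X = fun n => mt P (y n) := ⟨_, rfl⟩
  have hXa : ∀ n, X n = mt P (y n) := fun n => by rw [hX]
  have hunit : ∀ n, IsUnit (X n) := fun n => by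
    rw [hXa]
    exact (Group.isUnit (y n)).map (mt P)
  -- shifting
  have shift : ∀ (c : F) (i j k : ℕ), X i * X j = c • (X j * X i) → X (i + k) * X (j + k) = c • (X (j + k) * X (i + k)) := by
    intro c i j k hij
    have e1 : ∀ a b : ℕ, X (a + k) * X (b + k) = mt P (τ ^ k) * (X a * X b) * mt P (τ ^ k)⁻¹ := by
      intro a b
      rw [hXa, hXa, hXa, hXa, ← map_mul, ← map_mul, ← map_mul, ← map_mul, hy1, hy1]
      congr 1
      group
    rw [e1, e1, hij, mul_smul_comm, smul_mul_assoc]
  obtain ⟨ε, hε, hε1⟩ : ∃ ε : F, ε * ε = 1 ∧ X 0 * X 1 = ε • (X 1 * X 0) := by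
    rcases h.comm_or_anti (x := y 0) (y := y 1) (by
      rw [hy, hy, pow_zero, pow_one, one_mul, inv_one, mul_one, h01]) (hyy 0) with h1 | h1
    · exact ⟨1, one_mul 1, by rw [one_smul, hXa, hXa]; exact h1⟩
    · exact ⟨-1, by norm_num, by rw [neg_one_smul, hXa, hXa]; exact h1⟩
  obtain ⟨δ, hδ, hδ1⟩ : ∃ δ : F, δ * δ = 1 ∧ X 0 * X 2 = δ • (X 2 * X 0) := by
    rcases h.comm_or_anti (x := y 0) (y := y 2) (by
      rw [hy, hy, pow_zero, one_mul, inv_one, mul_one, h02]) (hyy 0) with h1 | h1
    · exact ⟨1, one_mul 1, by rw [one_smul, hXa, hXa]; exact h1⟩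
    · exact ⟨-1, by norm_num, by rw [neg_one_smul, hXa, hXa]; exact h1⟩
  obtain ⟨c, hc⟩ : ∃ c : F, X 3 = c • (X 0 * X 1) := by
    have hk : φ (y 3 * (y 0 * y 1)⁻¹) = 1 := by
      rw [map_mul, map_inv, map_mul, hy, hy, hy, pow_zero, pow_one, one_mul, inv_one, mul_one, h3, mul_inv_cancel]
    obtain ⟨c, hc⟩ := (h.ker _).1 hk
    refine ⟨c, ?_⟩
    have e : y 3 = (y 3 * (y 0 * y 1)⁻¹) * (y 0 * y 1) := by group
    rw [hXa, hXa, hXa]
    conv_lhs => rw [e, map_mul, hc, smul_mul_assoc, one_mul, map_mul]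
  have hc0 : c ≠ 0 := by
    rintro rfl
    rw [zero_smul] at hc
    exact (hunit 3).ne_zero hc
  have e23 := shift ε 0 1 2 hε1
  have e12 := shift ε 0 1 1 hε1
  have e13 := shift δ 0 2 1 hδ1
  norm_num at e23 e12 e13
  have e20 : X 2 * X 0 = δ • (X 0 * X 2) := by rw [hδ1, smul_smul, hδ, one_smul]
  have e21 : X 2 * X 1 = ε • (X 1 * X 2) := by rw [e12, smul_smul, hε, one_smul]
  have e10 : X 1 * X 0 = ε • (X 0 * X 1) := by rw [hε1, smul_smul, hε, one_smul]
  have hne : X 0 * X 1 * X 2 ≠ 0 := (((hunit 0).mul (hunit 1)).mul (hunit 2)).ne_zero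
  have hne' : X 0 * X 1 * X 1 ≠ 0 := (((hunit 0).mul (hunit 1)).mul (hunit 1)).ne_zero
  have hδ2 : δ = 1 := by
    have e : X 2 * X 3 = (c * δ * ε) • (X 0 * X 1 * X 2) := by
      rw [hc, mul_smul_comm, ← mul_assoc, e20, smul_mul_assoc, mul_assoc, e21, mul_smul_comm, smul_smul, smul_smul,
        ← mul_assoc]
    have e' : X 3 * X 2 = c • (X 0 * X 1 * X 2) := by rw [hc, smul_mul_assoc]
    rw [e, e', smul_smul] at e23
    have h4 : (c * δ * ε - ε * c) • (X 0 * X 1 * X 2) = 0 := by rw [sub_smul, e23, sub_self]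
    have h5 := (smul_eq_zero.1 h4).resolve_right hne
    have hε0 : ε ≠ 0 := by rintro rfl; simp at hε
    have h6 : c * ε * (δ - 1) = 0 := by linear_combination h5
    exact sub_eq_zero.1 ((mul_eq_zero.1 h6).resolve_left (mul_ne_zero hc0 hε0))
  have hε2 : ε = 1 := by
    have e : X 1 * X 3 = (c * ε) • (X 0 * X 1 * X 1) := by
      rw [hc, mul_smul_comm, ← mul_assoc, e10, smul_mul_assoc, smul_smul]
    have e' : X 3 * X 1 = c • (X 0 * X 1 * X 1) := by rw [hc, smul_mul_assoc]
    rw [e, e', hδ2, one_smul] at e13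
    have h4 : (c * ε - c) • (X 0 * X 1 * X 1) = 0 := by rw [sub_smul, e13, sub_self]
    have h5 := (smul_eq_zero.1 h4).resolve_right hne'
    have h6 : c * (ε - 1) = 0 := by linear_combination h5
    exact sub_eq_zero.1 ((mul_eq_zero.1 h6).resolve_left hc0)
  subst hδ2 hε2
  rw [one_smul] at hε1 hδ1
  have h03 : X 0 * X 3 = X 3 * X 0 := by rw [hc, mul_smul_comm, smul_mul_assoc, mul_assoc, ← hε1]
  have hper : ∀ k, X (k + 7) = X k := by
    intro k
    rw [hXa, hXa, hy1, hτ7, one_mul, inv_one, mul_one]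
  have hper' : ∀ q k, X (k + 7 * q) = X k := by
    intro q
    induction q with
    | zero => intro k; rfl
    | succ q ih =>
      intro k
      rw [show k + 7 * (q + 1) = k + 7 * q + 7 by ring, hper, ih]
  have hsmall : ∀ r, r ≤ 3 → ∀ i, X i * X (i + r) = X (i + r) * X i := by
    intro r hr i
    have h0 : X 0 * X r = (1 : F) • (X r * X 0) := by
      rw [one_smul]
      interval_cases r
      · rfl
      · exact hε1
      · exact hδ1
      · exact h03
    have := shift 1 0 r i h0
    rw [one_smul, zero_add] at this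
    rw [add_comm i r]
    exact this
  have hcomm' : ∀ r, r < 7 → ∀ i, X i * X (i + r) = X (i + r) * X i := by
    intro r hr i
    by_cases h4 : r ≤ 3
    · exact hsmall r h4 i
    · have h5 := hsmall (7 - r) (by omega) (i + r)
      rw [show i + r + (7 - r) = i + 7 by omega, hper] at h5
      exact h5.symm
  have hcomm : ∀ i j, X i * X j = X j * X i := by
    have aux : ∀ i j, i ≤ j → X i * X j = X j * X i := by
      intro i j hij
      have e : j = i + (j - i) % 7 + 7 * ((j - i) / 7) := by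
        have := Nat.mod_add_div (j - i) 7
        omega
      rw [e, hper']
      exact hcomm' _ (Nat.mod_lt _ (by norm_num)) i
    intro i j
    rcases le_total i j with h4 | h4
    · exact aux i j h4
    · exact (aux j i h4).symm
  obtain ⟨z, hz⟩ : ∃ z : F, X 0 * X 0 = z • 1 := by
    have : φ (y 0 * y 0) = 1 := by rw [map_mul, hyy]
    obtain ⟨z, hz⟩ := (h.ker _).1 this
    exact ⟨z, by rw [← hz, map_mul, hXa]⟩
  have hz0 : z ≠ 0 := by
    rintro rfl
    rw [zero_smul] at hz
    exact ((hunit 0).mul (hunit 0)).ne_zero hz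
  have hsq : ∀ i, X i * X i = z • 1 := by
    intro i
    have e1 : X i * X i = mt P (τ ^ i) * (X 0 * X 0) * mt P (τ ^ i)⁻¹ := by
      rw [hXa, hXa, ← map_mul, ← map_mul, ← map_mul, ← map_mul]
      congr 1
      have := hy1 0 i
      rw [zero_add] at this
      rw [this]
      group
    rw [e1, hz, mul_smul_comm, mul_one, smul_mul_assoc, ← map_mul, mul_inv_cancel, map_one]
  -- pass to the algebraic closure
  set K := AlgebraicClosure F
  set e := ext (F := F) K with he
  have main := no_cycle (K := K) (V := Fin 4 → K) (X := fun n => e (X n)) (t := e (mt P τ)) (z := algebraMap F K z)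
    (by
      have := (map_ne_zero (algebraMap F K)).2 h2
      rwa [map_ofNat] at this)
    (by simp)
    (by
      have hu : IsUnit (e (mt P τ)) := ((Group.isUnit τ).map (mt P)).map e
      exact ((Module.End.isUnit_iff _).1 hu).injective)
    (by
      intro k
      rw [← map_mul, ← map_mul]
      congr 1
      rw [hXa, hXa, ← map_mul, ← map_mul]
      congr 1
      rw [hy1, pow_one]
      group)
    (by intro k; rw [hper])
    (by intro i j; rw [← map_mul, ← map_mul, hcomm])
    ((map_ne_zero (algebraMap F K)).2 hz0)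
    (by intro i; rw [← map_mul, hsq, ext_smul, map_one])
  have h5 : X 0 = X 1 := ext_injective K main
  rw [hXa, hXa] at h5
  have h6 : y 0 = y 1 := mt_injective h5
  have h7 := congrArg φ h6
  rw [hy, hy, pow_zero, one_mul, inv_one, mul_one, pow_one] at h7
  exact h7.symm

end Cov

end Cfsg.Agent.H908
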