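import Cfsg.Agent.H908.SevenMain

/-!
# Trivial centre: `A₇` and `L₂(7)` have no irreducible representation of degree four (characteristic not two, not seven)
-/

set_option autoImplicit false
set_option linter.unusedSectionVars false

namespace Cfsg.Agent.H908

open Cfsg Cfsg.Geo Module
open scoped MatrixGroups commutatorElement

section Lin

variable {K : Type*} [Field K] {V : Type*} [AddCommGroup V] [Module K V] [FiniteDimensional K V]

/-- An involution of determinant one in dimension four which is not `±1` has trace zero. -/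
theorem inv_trace_zero (h2 : (2 : K) ≠ 0) (h4 : finrank K V = 4) {U : End K V} (hU : U * U = 1)
    (hdet : LinearMap.det U = 1) (h1 : U ≠ 1) (h1' : U ≠ -1) : LinearMap.trace K V U = 0 := by
  set e : End K V := (2 : K)⁻¹ • (1 - U) with he
  have he2 : IsIdempotentElem e := by
    change e * e = e
    have h3 : (1 - U) * (1 - U) = (2 : K) • (1 - U) := by
      rw [mul_sub, mul_one, sub_mul, one_mul, hU, two_smul]; abel
    rw [he, smul_mul_smul_comm, h3, smul_smul]
    congr 1
    field_simp
  have hUe : U = 1 - (2 : K) • e := by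
    rw [he, smul_smul, mul_inv_cancel₀ h2, one_smul, sub_sub_cancel]
  set W := LinearMap.range e with hW
  have hUW : ∀ x ∈ W, U x = -x := by
    rintro _ ⟨y, rfl⟩
    have h3 : U * e = -e := by
      rw [he, mul_smul_comm, mul_sub, mul_one, hU, ← smul_neg]
      congr 1; abel
    have := congrArg (fun z : End K V => z y) h3
    simpa using this
  have hcomap : W ≤ W.comap U := by
    intro x hx
    rw [Submodule.mem_comap, hUW x hx]
    exact W.neg_mem hx
  have hd := LinearMap.det_eq_det_mul_det W U hcomap
  have hr : U.restrict (p := W) (q := W) hcomap = -1 := by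
    ext x
    simp [LinearMap.restrict_apply, hUW x.1 x.2]
  have hq : W.mapQ W U hcomap = 1 := by
    ext x
    simp only [LinearMap.coe_comp, Function.comp_apply, Submodule.mkQ_apply, Submodule.mapQ_apply, Module.End.one_apply]
    rw [Submodule.Quotient.eq]
    have : U x - x = -((2 : K) • e x) := by
      conv_lhs => rw [hUe]
      simp
    rw [this]
    exact W.neg_mem (W.smul_mem _ ⟨x, rfl⟩)
  have hneg : LinearMap.det (-1 : End K W) = (-1) ^ finrank K W := by
    have : (-1 : End K W) = (-1 : K) • (1 : End K W) := (neg_one_smul K (1 : End K W)).symm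
    rw [this, LinearMap.det_smul, map_one, mul_one]
  have hone : LinearMap.det (1 : End K (V ⧸ W)) = 1 := map_one _
  rw [hdet, hr, hq, hneg, hone, mul_one] at hd
  have heven : Even (finrank K W) := by
    by_contra hodd
    rw [Nat.not_even_iff_odd] at hodd
    rw [hodd.neg_one_pow] at hd
    apply h2
    linear_combination hd
  have hle : finrank K W ≤ 4 := h4 ▸ Submodule.finrank_le W
  have htr : LinearMap.trace K V e = (finrank K W : K) :=
    (LinearMap.IsIdempotentElem.isProj_range e he2).trace
  have hcases : finrank K W = 0 ∨ finrank K W = 2 ∨ finrank K W = 4 := by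
    obtain ⟨k, hk⟩ := heven
    omega
  rcases hcases with h0 | h0 | h0
  · exfalso
    have : W = ⊥ := Submodule.finrank_eq_zero.1 h0
    have he0 : e = 0 := LinearMap.range_eq_bot.1 this
    apply h1
    rw [hUe, he0, smul_zero, sub_zero]
  · rw [hUe, map_sub, map_smul, htr, h0, LinearMap.trace_one, h4]
    push_cast
    rw [smul_eq_mul]; ring
  · exfalso
    have : W = ⊤ := Submodule.eq_top_of_finrank_eq (by rw [h0, h4])
    have he1 : e = 1 := by
      ext x
      have hx : x ∈ W := by rw [this]; exact Submodule.mem_top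
      obtain ⟨y, rfl⟩ := hx
      rw [← Module.End.mul_apply, he2.eq]
      rfl
    apply h1'
    rw [hUe, he1, two_smul]
    abel

/-- The weights of a four-group and a commuting element of order three. -/
theorem no_three (h2 : (2 : K) ≠ 0) (h4 : finrank K V = 4) {U W D D' C : End K V} (hU : U * U = 1) (hW : W * W = 1)
    (hUW : U * W = W * U) (hDD : D * D' = 1) (hDD' : D' * D = 1) (hDU : D * U = W * D) (hDW : D * W = U * W * D)
    (hCU : C * U = U * C) (hCW : C * W = W * C) (hCD : C * D = D * C) (hC : C * C * C = 1) (hC1 : C ≠ 1)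
    (htU : LinearMap.trace K V U = 0) (htC : LinearMap.trace K V C = LinearMap.trace K V (C * C)) : False := by
  -- traces
  have htW : LinearMap.trace K V W = 0 := by
    have : W = D * U * D' := by rw [hDU, mul_assoc, hDD, mul_one]
    rw [this, mul_assoc, LinearMap.trace_mul_comm, mul_assoc, hDD', mul_one, htU]
  have htUW : LinearMap.trace K V (U * W) = 0 := by
    have : U * W = D * W * D' := by rw [hDW, mul_assoc, hDD, mul_one]
    rw [this, mul_assoc, LinearMap.trace_mul_comm, mul_assoc, hDD', mul_one, htW]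
  have h4' : LinearMap.trace K V (1 : End K V) = 4 := by rw [LinearMap.trace_one, h4]; norm_num
  have h40 : (4 : K) ≠ 0 := by
    have : (4 : K) = 2 * 2 := by norm_num
    rw [this]; exact mul_ne_zero h2 h2
  have hne : ∀ (α β : K), LinearMap.trace K V ((1 + α • U) * (1 + β • W)) = 4 := by
    intro α β
    have : (1 + α • U) * (1 + β • W) = 1 + β • W + α • U + (α * β) • (U * W) := by
      rw [add_mul, one_mul, mul_add, mul_one, smul_mul_smul_comm]; abel
    rw [this, map_add, map_add, map_add, map_smul, map_smul, map_smul, htU, htW, htUW, h4']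
    simp
  have hex : ∀ (α β : K), ∃ x : V, ((1 + α • U) * (1 + β • W)) x ≠ 0 := by
    intro α β
    by_contra hcon
    push Not at hcon
    have : (1 + α • U) * (1 + β • W) = 0 := by ext x; rw [hcon]; rfl
    have h5 := hne α β
    rw [this, map_zero] at h5
    exact h40 h5.symm
  have ap : ∀ {A B : End K V}, A = B → ∀ z, A z = B z := fun h z => by rw [h]
  -- eigenvectors
  obtain ⟨x0, hx0⟩ := hex 1 1
  obtain ⟨x1, hx1⟩ := hex 1 (-1)
  obtain ⟨b0, hb0⟩ : ∃ b0, b0 = ((1 + (1 : K) • U) * (1 + (1 : K) • W)) x0 := ⟨_, rfl⟩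
  obtain ⟨b1, hb1⟩ : ∃ b1, b1 = ((1 + (1 : K) • U) * (1 + (-1 : K) • W)) x1 := ⟨_, rfl⟩
  rw [← hb0] at hx0
  rw [← hb1] at hx1
  have uu : ∀ z, U (U z) = z := fun z => by
    have := ap hU z
    simpa using this
  have ww : ∀ z, W (W z) = z := fun z => by
    have := ap hW z
    simpa using this
  have wu : ∀ z, W (U z) = U (W z) := fun z => by
    have := ap hUW z
    simpa using this.symm
  have hb0' : b0 = x0 + U x0 + W x0 + U (W x0) := by
    rw [hb0]
    simp only [Module.End.mul_apply, LinearMap.add_apply, LinearMap.smul_apply, Module.End.one_apply, one_smul, map_add]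
    abel
  have hb1' : b1 = x1 + U x1 - W x1 - U (W x1) := by
    rw [hb1]
    simp only [Module.End.mul_apply, LinearMap.add_apply, LinearMap.smul_apply, Module.End.one_apply, one_smul, map_add,
      neg_one_smul, map_neg, LinearMap.neg_apply]
    abel
  have hUb0 : U b0 = b0 := by
    rw [hb0']
    simp only [map_add, uu]
    abel
  have hWb0 : W b0 = b0 := by
    rw [hb0']
    simp only [map_add, wu, ww]
    abel
  have hUb1 : U b1 = b1 := by
    rw [hb1']
    simp only [map_add, map_sub, uu]
    abel
  have hWb1 : W b1 = -b1 := by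
    rw [hb1']
    simp only [map_add, map_sub, wu, ww]
    abel
  have e1 : ∀ z, D (U z) = W (D z) := fun z => by
    have := ap hDU z
    simpa using this
  have e2 : ∀ z, D (W z) = U (W (D z)) := fun z => by
    have := ap hDW z
    simpa using this
  have e3 : ∀ z, U (W z) = W (U z) := fun z => by
    have := ap hUW z
    simpa using this
  have hWb2 : W (D b1) = D b1 := by rw [← e1, hUb1]
  have hUb2 : U (D b1) = -D b1 := by
    have := e2 b1
    rw [hWb1, hWb2, map_neg] at this
    exact this.symm
  have hWb3 : W (D (D b1)) = -D (D b1) := by rw [← e1, hUb2, map_neg]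
  have hUb3 : U (D (D b1)) = -D (D b1) := by
    have := e2 (D b1)
    rw [hWb2, hWb3, map_neg] at this
    rw [← neg_eq_iff_eq_neg.2 this]
  have hDinj : ∀ z, D z = 0 → z = 0 := by
    intro z hz
    have := ap hDD' z
    rw [Module.End.mul_apply, hz, map_zero] at this
    exact this.symm
  have hb2 : D b1 ≠ 0 := fun h => hx1 (hDinj _ h)
  have hb3 : D (D b1) ≠ 0 := fun h => hb2 (hDinj _ h)
  have key : ∀ a0 a1 a2 a3 : K, a0 • b0 + a1 • b1 + a2 • D b1 + a3 • D (D b1) = 0 → a0 = 0 ∧ a1 = 0 ∧ a2 = 0 ∧ a3 = 0 := by
    intro a0 a1 a2 a3 h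
    have f1 := congrArg U h
    have f2 := congrArg W h
    have f3 := congrArg (fun z => U (W z)) h
    simp only [map_add, map_smul, hUb0, hUb1, hUb2, hUb3, hWb0, hWb1, hWb2, hWb3, map_zero, map_neg, smul_neg, neg_neg] at f1 f2 f3
    have g : ∀ {a : K} {z : V}, z ≠ 0 → (4 * a) • z = 0 → a = 0 := by
      intro a z hz h
      rcases smul_eq_zero.1 h with h | h
      · exact (mul_eq_zero.1 h).resolve_left h40
      · exact absurd h hz
    refine ⟨g hx0 ?_, g hx1 ?_, g hb2 ?_, g hb3 ?_⟩
    · linear_combination (norm := module) h + f1 + f2 + f3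
    · linear_combination (norm := module) h + f1 - f2 - f3
    · linear_combination (norm := module) h - f1 + f2 - f3
    · linear_combination (norm := module) h - f1 - f2 + f3
  have hli : LinearIndependent K ![b0, b1, D b1, D (D b1)] := by
    rw [Fintype.linearIndependent_iff]
    intro g hg
    rw [Fin.sum_univ_four] at hg
    obtain ⟨h0, h1, h2', h3⟩ := key (g 0) (g 1) (g 2) (g 3) hg
    intro i
    fin_cases i <;> assumption
  let B : Basis (Fin 4) K V := basisOfLinearIndependentOfCardEqFinrank hli (by rw [h4]; simp)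
  have hB0 : B 0 = b0 := by simp [B]
  have hB1 : B 1 = b1 := by simp [B]
  have hB2 : B 2 = D b1 := by simp [B]
  have hB3 : B 3 = D (D b1) := by simp [B]
  have hexp : ∀ z, ∃ a0 a1 a2 a3 : K, z = a0 • b0 + a1 • b1 + a2 • D b1 + a3 • D (D b1) := by
    intro z
    refine ⟨B.repr z 0, B.repr z 1, B.repr z 2, B.repr z 3, ?_⟩
    conv_lhs => rw [← B.sum_repr z]
    rw [Fin.sum_univ_four, hB0, hB1, hB2, hB3]
  have e4 : ∀ z, C (U z) = U (C z) := fun z => by
    have := ap hCU z
    simpa using this
  have e5 : ∀ z, C (W z) = W (C z) := fun z => by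
    have := ap hCW z
    simpa using this
  have e6 : ∀ z, C (D z) = D (C z) := fun z => by
    have := ap hCD z
    simpa using this
  -- `C` is diagonal
  obtain ⟨l0, hl0⟩ : ∃ l0 : K, C b0 = l0 • b0 := by
    obtain ⟨a0, a1, a2, a3, hz⟩ := hexp (C b0)
    have f1 := e4 b0
    have f2 := e5 b0
    rw [hUb0, hz] at f1
    rw [hWb0, hz] at f2
    simp only [map_add, map_smul, hUb0, hUb1, hUb2, hUb3, hWb0, hWb1, hWb2, hWb3, smul_neg] at f1 f2
    have g1 := key 0 0 (2 * a2) (2 * a3) (by linear_combination (norm := module) f1)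
    have g2 := key 0 (2 * a1) 0 (2 * a3) (by linear_combination (norm := module) f2)
    have g : ∀ {a : K}, 2 * a = 0 → a = 0 := fun h => (mul_eq_zero.1 h).resolve_left h2
    refine ⟨a0, ?_⟩
    rw [hz, g g1.2.2.1, g g1.2.2.2, g g2.2.1]
    simp
  obtain ⟨l, hl⟩ : ∃ l : K, C b1 = l • b1 := by
    obtain ⟨a0, a1, a2, a3, hz⟩ := hexp (C b1)
    have f1 := e4 b1
    have f2 := e5 b1
    rw [hUb1, hz] at f1
    rw [hWb1, map_neg, hz] at f2
    simp only [map_add, map_smul, hUb0, hUb1, hUb2, hUb3, hWb0, hWb1, hWb2, hWb3, smul_neg] at f1 f2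
    have g1 := key 0 0 (2 * a2) (2 * a3) (by linear_combination (norm := module) f1)
    have g2 := key (2 * a0) 0 (2 * a2) 0 (by linear_combination (norm := module) (-1 : K) • f2)
    have g : ∀ {a : K}, 2 * a = 0 → a = 0 := fun h => (mul_eq_zero.1 h).resolve_left h2
    refine ⟨a1, ?_⟩
    rw [hz, g g1.2.2.1, g g1.2.2.2, g g2.1]
    simp
  have hl2 : C (D b1) = l • D b1 := by rw [e6, hl, map_smul]
  have hl3 : C (D (D b1)) = l • D (D b1) := by rw [e6, hl2, map_smul]
  have hcube : ∀ z, C (C (C z)) = z := fun z => by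
    have := ap hC z
    simpa using this
  have hl03 : l0 ^ 3 = 1 := by
    have := hcube b0
    rw [hl0, map_smul, hl0, map_smul, map_smul, hl0, smul_smul, smul_smul] at this
    have h5 : (l0 * (l0 * l0) - 1) • b0 = 0 := by rw [sub_smul, ← mul_assoc, this, one_smul, sub_self]
    rcases smul_eq_zero.1 h5 with h6 | h6
    · linear_combination h6
    · exact absurd h6 hx0
  have hl13 : l ^ 3 = 1 := by
    have := hcube b1
    rw [hl, map_smul, hl, map_smul, map_smul, hl, smul_smul, smul_smul] at this
    have h5 : (l * (l * l) - 1) • b1 = 0 := by rw [sub_smul, ← mul_assoc, this, one_smul, sub_self]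
    rcases smul_eq_zero.1 h5 with h6 | h6
    · linear_combination h6
    · exact absurd h6 hx1
  -- traces
  have htrace : ∀ (A : End K V) (m0 m : K), A b0 = m0 • b0 → A b1 = m • b1 → A (D b1) = m • D b1 →
      A (D (D b1)) = m • D (D b1) → LinearMap.trace K V A = m0 + 3 * m := by
    intro A m0 m h0 h1 h2' h3
    rw [LinearMap.trace_eq_matrix_trace K B, Matrix.trace, Fin.sum_univ_four]
    simp only [Matrix.diag_apply, LinearMap.toMatrix_apply, hB0, hB1, hB2, hB3, h0, h1, h2', h3, map_smul]
    rw [← hB3, ← hB2, ← hB1, ← hB0]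
    simp only [B.repr_self, Finsupp.smul_apply, Finsupp.single_eq_same, smul_eq_mul, mul_one]
    ring
  have t1 := htrace C l0 l hl0 hl hl2 hl3
  have t2 := htrace (C * C) (l0 * l0) (l * l) (by rw [Module.End.mul_apply, hl0, map_smul, hl0, smul_smul])
    (by rw [Module.End.mul_apply, hl, map_smul, hl, smul_smul])
    (by rw [Module.End.mul_apply, hl2, map_smul, hl2, smul_smul])
    (by rw [Module.End.mul_apply, hl3, map_smul, hl3, smul_smul])
  rw [t1, t2] at htC
  -- algebra
  have hfin : l0 = 1 ∧ l = 1 := by
    -- `a = l0 - l0²`, `b = l - l²` satisfy `a + 3 b = 0`, `a² = -3 a'`...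
    have ha : (l0 - 1) * (l0 ^ 2 + l0 + 1) = 0 := by linear_combination hl03
    have hb : (l - 1) * (l ^ 2 + l + 1) = 0 := by linear_combination hl13
    rcases mul_eq_zero.1 ha with h5 | h5 <;> rcases mul_eq_zero.1 hb with h6 | h6
    · exact ⟨by linear_combination h5, by linear_combination h6⟩
    · -- `l0 = 1`: `3 (l - l²) = 0`, `(l - l²)² = -3`
      have hl0 : l0 = 1 := by linear_combination h5
      have h7 : 3 * (l - l * l) = 0 := by rw [hl0] at htC; linear_combination htC
      have h8 : (l - l * l) ^ 2 = -3 := by linear_combination (l ^ 2 - 3 * l + 3) * h6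
      have h9 : (3 : K) = 0 := by
        have : (3 : K) * (l - l * l) ^ 2 = 0 := by linear_combination (l - l * l) * h7
        rw [h8] at this
        have h10 : (3 : K) * 3 = 0 := by linear_combination -this
        exact (mul_self_eq_zero.1 h10)
      have h10 : (l - 1) ^ 2 = 0 := by linear_combination h6 - l * h9
      have h11 : l = 1 := by linear_combination pow_eq_zero_iff (two_ne_zero) |>.1 h10
      exact ⟨hl0, h11⟩
    · have hl : l = 1 := by linear_combination h6
      have h7 : l0 - l0 * l0 = 0 := by rw [hl] at htC; linear_combination htC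
      have h8 : l0 * (1 - l0) = 0 := by linear_combination h7
      rcases mul_eq_zero.1 h8 with h9 | h9
      · exfalso
        rw [h9] at hl03
        norm_num at hl03
      · exact ⟨by linear_combination -h9, hl⟩
    · have h7 : (l0 - l0 * l0) + 3 * (l - l * l) = 0 := by linear_combination htC
      have h8 : (l - l * l) ^ 2 = -3 := by linear_combination (l ^ 2 - 3 * l + 3) * h6
      have h9 : (l0 - l0 * l0) ^ 2 = -3 := by linear_combination (l0 ^ 2 - 3 * l0 + 3) * h5
      have h10 : (8 : K) * 3 = 0 := by
        have : (l0 - l0 * l0) ^ 2 = 9 * (l - l * l) ^ 2 := by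
          have h11 : l0 - l0 * l0 = -(3 * (l - l * l)) := by linear_combination h7
          rw [h11]; ring
        rw [h8, h9] at this
        linear_combination this
      have h3 : (3 : K) = 0 := by
        have h11 : (8 : K) = 2 * 2 * 2 := by norm_num
        rw [h11] at h10
        rcases mul_eq_zero.1 h10 with h12 | h12
        · exact absurd h12 (mul_ne_zero (mul_ne_zero h2 h2) h2)
        · exact h12
      have h12 : (l - 1) ^ 2 = 0 := by linear_combination h6 - l * h3
      have h13 : (l0 - 1) ^ 2 = 0 := by linear_combination h5 - l0 * h3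
      exact ⟨by linear_combination pow_eq_zero_iff (two_ne_zero) |>.1 h13,
        by linear_combination pow_eq_zero_iff (two_ne_zero) |>.1 h12⟩
  apply hC1
  apply B.ext
  intro i
  fin_cases i
  · change C (B 0) = B 0
    rw [hB0, hl0, hfin.1, one_smul]
  · change C (B 1) = B 1
    rw [hB1, hl, hfin.2, one_smul]
  · change C (B 2) = B 2
    rw [hB2, hl2, hfin.2, one_smul]
  · change C (B 3) = B 3
    rw [hB3, hl3, hfin.2, one_smul]

end Lin

end Cfsg.Agent.H908
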