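import Cfsg.Agent.H933.O10.Base
import Cfsg.Agent.H937.G24.Row
import Cfsg.Agent.H912.MultChar

/-!
# `G₂(4)` is not the socle of a residual core in `Ω₁₀(q)`, `q` odd (helper908; the row is helper937's)
-/

set_option autoImplicit false

namespace Cfsg.Agent.H908.TenG24

open Cfsg Cfsg.Geo Matrix Cfsg.Agent.H915.LD

universe u

variable {F : Type u} [Field F] [Fintype F] {p : ℕ} {Q : (Fin 10 → F) → F} {H P : Subgroup (GL (Fin 10) F)}

theorem o10_g24 (h : H933.O10.Cx p Q H P) (hp : p ≠ 2) (hT : H912.Bd.IsG2 4 (Soc P)) : False := by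
  have hF : Fact p.Prime := ⟨h.prime⟩
  have hc := h.char
  have h1 := H937.G24.row h.core hT p hp (by rw [Fintype.card_fin]; norm_num)
  have h2 := h1.1
  rw [Fintype.card_fin] at h2
  exact absurd h2 (by norm_num)

end Cfsg.Agent.H908.TenG24
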