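import Cfsg.Agent.H908.SLTrans

/-!
# The group `4 ∘ 2^(1+4)` of monomial `4 × 4` matrices

`F` a field of characteristic not two with an element `i`, `i² = -1`. `RR` is the group of the
monomial matrices with permutation in the four-group and entries `c_j` with `c_j⁴ = 1`,
`c_j² = c_k²`, `∏ c_j = 1`.
-/

set_option autoImplicit false
set_option linter.style.haveILetI false

namespace Cfsg.Agent.H908.Pauli

open Cfsg.Geo Matrix
open scoped commutatorElement

/-! ### Monomial matrices -/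

section mono

variable {F : Type*} [Field F] {n : ℕ}

/-- The monomial matrix `e_j ↦ c_j e_{σ j}`. -/
def mono (σ : Equiv.Perm (Fin n)) (c : Fin n → F) : Matrix (Fin n) (Fin n) F :=
  fun i j => if i = σ j then c j else 0

theorem mono_pos (σ : Equiv.Perm (Fin n)) (c : Fin n → F) {i j : Fin n} (h : i = σ j) :
    mono σ c i j = c j := if_pos h

theorem mono_neg (σ : Equiv.Perm (Fin n)) (c : Fin n → F) {i j : Fin n} (h : i ≠ σ j) :
    mono σ c i j = 0 := if_neg h

theorem mono_mul (σ τ : Equiv.Perm (Fin n)) (c d : Fin n → F) :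
    mono σ c * mono τ d = mono (σ * τ) (fun j => c (τ j) * d j) := by
  ext i j
  rw [Matrix.mul_apply, Finset.sum_eq_single (τ j)]
  · rw [mono_pos τ d rfl]
    by_cases h : i = σ (τ j)
    · rw [mono_pos σ c h, mono_pos (σ * τ) _ h]
    · rw [mono_neg σ c h, mono_neg (σ * τ) _ h, zero_mul]
  · intro b _ hb
    rw [mono_neg τ d hb, mul_zero]
  · simp

theorem mono_smul_one (c : F) : mono (1 : Equiv.Perm (Fin n)) (fun _ => c) =
    c • (1 : Matrix (Fin n) (Fin n) F) := by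
  ext i j
  by_cases h : i = j
  · rw [mono_pos _ _ h, h, Matrix.smul_apply, Matrix.one_apply_eq, smul_eq_mul, mul_one]
  · rw [mono_neg _ _ h, Matrix.smul_apply, Matrix.one_apply_ne h, smul_zero]

theorem mono_one : mono (1 : Equiv.Perm (Fin n)) (fun _ => (1 : F)) = 1 := by
  rw [mono_smul_one, one_smul]

theorem mono_mulVec_single (σ : Equiv.Perm (Fin n)) (c : Fin n → F) (j : Fin n) :
    mono σ c *ᵥ Pi.single j 1 = Pi.single (σ j) (c j) := by
  ext i
  rw [Matrix.mulVec_single_one, Matrix.col_apply]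
  by_cases h : i = σ j
  · rw [mono_pos _ _ h, h, Pi.single_eq_same]
  · rw [mono_neg _ _ h, Pi.single_eq_of_ne h]

theorem mono_inj {σ τ : Equiv.Perm (Fin n)} {c d : Fin n → F} (hc : ∀ j, c j ≠ 0)
    (h : mono σ c = mono τ d) : σ = τ ∧ c = d := by
  have h1 : ∀ j, σ j = τ j ∧ c j = d j := by
    intro j
    have h2 := congrFun (congrFun h (σ j)) j
    rw [mono_pos σ c rfl] at h2
    by_cases h3 : σ j = τ j
    · rw [mono_pos τ d h3] at h2
      exact ⟨h3, h2⟩
    · rw [mono_neg τ d h3] at h2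
      exact absurd h2 (hc j)
  exact ⟨Equiv.ext fun j => (h1 j).1, funext fun j => (h1 j).2⟩

theorem det_mono (σ : Equiv.Perm (Fin n)) (c : Fin n → F) :
    (mono σ c).det = Equiv.Perm.sign σ * ∏ j, c j := by
  have : mono σ c = (Equiv.Perm.permMatrix F σ⁻¹) * Matrix.diagonal c := by
    ext i j
    rw [Matrix.mul_diagonal]
    simp only [Equiv.Perm.permMatrix, PEquiv.toMatrix_apply, Equiv.toPEquiv_apply, Option.mem_def,
      Option.some.injEq, ite_mul, one_mul, zero_mul]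
    by_cases h : i = σ j
    · rw [mono_pos _ _ h, if_pos (by rw [h]; simp)]
    · rw [mono_neg _ _ h, if_neg]
      intro h'
      apply h
      rw [← h']; simp
  rw [this, Matrix.det_mul, Matrix.det_permutation, Matrix.det_diagonal, Equiv.Perm.sign_inv]

theorem mono_ne_zero {σ : Equiv.Perm (Fin n)} {c : Fin n → F} {g : GL (Fin n) F}
    (hg : (g : Matrix (Fin n) (Fin n) F) = mono σ c) (j : Fin n) : c j ≠ 0 := by
  intro h0
  have h1 : (g : Matrix (Fin n) (Fin n) F) *ᵥ Pi.single j 1 = 0 := by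
    rw [hg, mono_mulVec_single, h0, Pi.single_zero]
  have h2 : (((g⁻¹ : GL (Fin n) F) : Matrix (Fin n) (Fin n) F) * (g : Matrix (Fin n) (Fin n) F)) *ᵥ
      (Pi.single j 1 : Fin n → F) = 0 := by
    rw [← Matrix.mulVec_mulVec, h1, Matrix.mulVec_zero]
  rw [← Units.val_mul, inv_mul_cancel, Units.val_one, Matrix.one_mulVec] at h2
  have := congrFun h2 j
  simp at this

theorem mono_inv {σ : Equiv.Perm (Fin n)} {c : Fin n → F} {g : GL (Fin n) F}
    (hg : (g : Matrix (Fin n) (Fin n) F) = mono σ c) :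
    ((g⁻¹ : GL (Fin n) F) : Matrix (Fin n) (Fin n) F) = mono σ⁻¹ (fun j => (c (σ⁻¹ j))⁻¹) := by
  have h0 := mono_ne_zero hg
  have h1 : (g : Matrix (Fin n) (Fin n) F) * mono σ⁻¹ (fun j => (c (σ⁻¹ j))⁻¹) = 1 := by
    rw [hg, mono_mul, mul_inv_cancel, ← mono_one]
    congr 1
    funext j
    exact mul_inv_cancel₀ (h0 _)
  calc ((g⁻¹ : GL (Fin n) F) : Matrix (Fin n) (Fin n) F)
      = ((g⁻¹ : GL (Fin n) F) : Matrix (Fin n) (Fin n) F) *
        ((g : Matrix (Fin n) (Fin n) F) * mono σ⁻¹ (fun j => (c (σ⁻¹ j))⁻¹)) := by rw [h1, mul_one]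
    _ = _ := by rw [← mul_assoc, ← Units.val_mul, inv_mul_cancel, Units.val_one, one_mul]

end mono

/-! ### The four-group -/

/-- Translations of `F_2²`. -/
def x4 (a : Fin 4) : Equiv.Perm (Fin 4) :=
  match a with
  | 0 => 1
  | 1 => Equiv.swap 0 1 * Equiv.swap 2 3
  | 2 => Equiv.swap 0 2 * Equiv.swap 1 3
  | 3 => Equiv.swap 0 3 * Equiv.swap 1 2

theorem x4_mul : ∀ a b : Fin 4, ∃ c : Fin 4, x4 a * x4 b = x4 c := by decide

theorem x4_sq : ∀ a : Fin 4, x4 a * x4 a = 1 := by decide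

theorem x4_comm : ∀ a b : Fin 4, x4 a * x4 b = x4 b * x4 a := by decide

theorem x4_conj : ∀ (σ : Equiv.Perm (Fin 4)) (a : Fin 4), ∃ b : Fin 4, σ * x4 a * σ⁻¹ = x4 b := by
  decide

theorem x4_inj : ∀ a b : Fin 4, x4 a = x4 b → a = b := by decide

theorem grp_four {G : Type*} [Group G] (g : G) : g ^ 4 = (g * g) * (g * g) := by
  rw [show (4 : ℕ) = 2 + 2 from rfl, pow_add, pow_two]

theorem grp_inv {G : Type*} [Group G] (g : G) (h : g ^ 4 = 1) : g⁻¹ = g * g * g := by
  rw [inv_eq_iff_mul_eq_one, ← h, grp_four]; simp only [mul_assoc]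

/-! ### The group -/

section group

variable {F : Type*} [Field F]

/-- The condition on the entries. -/
def Q (c : Fin 4 → F) : Prop :=
  (∀ i, c i ^ 4 = 1) ∧ (∀ i j, c i ^ 2 = c j ^ 2) ∧ ∏ i, c i = 1

theorem Q_mul {c d : Fin 4 → F} (hc : Q c) (hd : Q d) (τ : Equiv.Perm (Fin 4)) :
    Q (fun j => c (τ j) * d j) := by
  refine ⟨fun i => ?_, fun i j => ?_, ?_⟩
  · rw [mul_pow, hc.1, hd.1, one_mul]
  · rw [mul_pow, mul_pow, hc.2.1 (τ i) (τ j), hd.2.1 i j]
  · rw [Finset.prod_mul_distrib, Equiv.prod_comp τ c, hc.2.2, hd.2.2, one_mul]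

theorem Q_ne {c : Fin 4 → F} (hc : Q c) (j : Fin 4) : c j ≠ 0 := by
  intro h
  have := hc.1 j
  rw [h] at this
  simp at this

theorem pow_four {a : Fin 4} {c : Fin 4 → F} (hc : Q c) {g : GL (Fin 4) F}
    (hg : (g : Matrix (Fin 4) (Fin 4) F) = mono (x4 a) c) : g ^ 4 = 1 := by
  apply Units.ext
  rw [grp_four, Units.val_mul, Units.val_mul, hg, mono_mul, mono_mul, x4_sq, Units.val_one, ← mono_one]
  congr 1
  funext j
  change c (x4 a j) * c j * (c (x4 a j) * c j) = 1
  have h1 := hc.2.1 (x4 a j) j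
  have h2 := hc.1 j
  linear_combination (c j) ^ 2 * h1 + h2

/-- The group `4 ∘ 2^(1+4)`. -/
def RR (F : Type*) [Field F] : Subgroup (GL (Fin 4) F) where
  carrier := {g | ∃ (a : Fin 4) (c : Fin 4 → F), (g : Matrix (Fin 4) (Fin 4) F) = mono (x4 a) c ∧ Q c}
  mul_mem' := by
    rintro g h ⟨a, c, hg, hc⟩ ⟨b, d, hh, hd⟩
    obtain ⟨e, he⟩ := x4_mul a b
    refine ⟨e, _, ?_, Q_mul hc hd (x4 b)⟩
    rw [Units.val_mul, hg, hh, mono_mul, he]
  one_mem' := ⟨0, fun _ => 1, by rw [Units.val_one]; exact mono_one.symm, by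
    refine ⟨fun _ => one_pow _, fun _ _ => rfl, by simp⟩⟩
  inv_mem' := by
    rintro g ⟨a, c, hg, hc⟩
    have h4 := pow_four hc hg
    have e : g⁻¹ = g * g * g := grp_inv g h4
    have h2 := Q_mul hc hc (x4 a)
    refine ⟨a, _, ?_, Q_mul h2 hc (x4 a)⟩
    rw [e, Units.val_mul, Units.val_mul, hg, mono_mul, mono_mul, x4_sq, one_mul]

theorem mem_RR {g : GL (Fin 4) F} : g ∈ RR F ↔
    ∃ (a : Fin 4) (c : Fin 4 → F), (g : Matrix (Fin 4) (Fin 4) F) = mono (x4 a) c ∧ Q c := Iff.rfl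

/-- The member of `GL` with matrix `mono σ c`. -/
noncomputable def mk (σ : Equiv.Perm (Fin 4)) (c : Fin 4 → F) (hc : ∀ j, c j ≠ 0) : GL (Fin 4) F :=
  Matrix.GeneralLinearGroup.mkOfDetNeZero (mono σ c) (by
    rw [det_mono]
    exact mul_ne_zero (by
      rcases Int.units_eq_one_or (Equiv.Perm.sign σ) with h | h <;> rw [h] <;> simp)
      (Finset.prod_ne_zero_iff.2 fun j _ => hc j))

theorem mk_coe (σ : Equiv.Perm (Fin 4)) (c : Fin 4 → F) (hc : ∀ j, c j ≠ 0) :
    ((mk σ c hc : GL (Fin 4) F) : Matrix (Fin 4) (Fin 4) F) = mono σ c := rfl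

theorem mk_mem {a : Fin 4} {c : Fin 4 → F} (hc : Q c) : mk (x4 a) c (Q_ne hc) ∈ RR F :=
  ⟨a, c, rfl, hc⟩

theorem isPGroup_RR : IsPGroup 2 (RR F) := by
  rintro ⟨g, a, c, hg, hc⟩
  refine ⟨2, Subtype.ext ?_⟩
  simpa using pow_four hc hg

/-- Monomial matrices with entries in `μ_4` of product `±1` normalise `RR`. -/
theorem conj_mem_RR {g : GL (Fin 4) F} {σ : Equiv.Perm (Fin 4)} {d : Fin 4 → F}
    (hg : (g : Matrix (Fin 4) (Fin 4) F) = mono σ d) (hd : ∀ j, d j ^ 4 = 1)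
    (hdp : (∏ j, d j) ^ 2 = 1) {x : GL (Fin 4) F} (hx : x ∈ RR F) : g * x * g⁻¹ ∈ RR F := by
  obtain ⟨a, c, hxa, hc⟩ := hx
  obtain ⟨b, hb⟩ := x4_conj σ a
  have hd0 := mono_ne_zero hg
  refine ⟨b, fun k => d (x4 a (σ⁻¹ k)) * c (σ⁻¹ k) * (d (σ⁻¹ k))⁻¹, ?_, ?_⟩
  · rw [Units.val_mul, Units.val_mul, mono_inv hg, hg, hxa, mono_mul, mono_mul, hb]
  · -- the condition `Q`
    have hQ : Q (fun j => d (x4 a j) * c j * (d j)⁻¹) := by
      refine ⟨fun i => ?_, ?_, ?_⟩
      · rw [mul_pow, mul_pow, inv_pow, hd, hd, hc.1]; simp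
      · -- squares
        have key : ∀ j, (d (x4 a j) * c j * (d j)⁻¹) ^ 2 = (d (x4 a j) * d j) ^ 2 * c j ^ 2 := by
          intro j
          have h4 := hd j
          have : (d j)⁻¹ ^ 2 = d j ^ 2 := by
            rw [inv_pow]
            apply inv_eq_of_mul_eq_one_right
            linear_combination h4
          rw [mul_pow, mul_pow, this]
          ring
        intro i j
        rw [key, key, hc.2.1 i j]
        congr 1
        have h4 := fun k => hd k
        rw [Fin.prod_univ_four] at hdp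
        have e0 := hd 0
        have e1 := hd 1
        have e2 := hd 2
        have e3 := hd 3
        have A : (d 0 * d 1) ^ 2 = (d 2 * d 3) ^ 2 := by
          linear_combination (d 2 * d 3) ^ 2 * hdp - (d 0 * d 1) ^ 2 * (d 3 ^ 4) * e2 - (d 0 * d 1) ^ 2 * e3
        have B : (d 0 * d 2) ^ 2 = (d 1 * d 3) ^ 2 := by
          linear_combination (d 1 * d 3) ^ 2 * hdp - (d 0 * d 2) ^ 2 * (d 3 ^ 4) * e1 - (d 0 * d 2) ^ 2 * e3
        have C : (d 0 * d 3) ^ 2 = (d 1 * d 2) ^ 2 := by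
          linear_combination (d 1 * d 2) ^ 2 * hdp - (d 0 * d 3) ^ 2 * (d 2 ^ 4) * e1 - (d 0 * d 3) ^ 2 * e2
        have key2 : ∃ z : F, ∀ k, (d (x4 a k) * d k) ^ 2 = z := by
          fin_cases a
          · refine ⟨1, fun k => ?_⟩
            change (d k * d k) ^ 2 = 1
            linear_combination hd k
          · refine ⟨(d 0 * d 1) ^ 2, fun k => ?_⟩
            fin_cases k
            · change (d 1 * d 0) ^ 2 = _; ring
            · change (d 0 * d 1) ^ 2 = _; ring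
            · change (d 3 * d 2) ^ 2 = _; rw [A]; ring
            · change (d 2 * d 3) ^ 2 = _; rw [A]
          · refine ⟨(d 0 * d 2) ^ 2, fun k => ?_⟩
            fin_cases k
            · change (d 2 * d 0) ^ 2 = _; ring
            · change (d 3 * d 1) ^ 2 = _; rw [B]; ring
            · change (d 0 * d 2) ^ 2 = _; ring
            · change (d 1 * d 3) ^ 2 = _; rw [B]
          · refine ⟨(d 0 * d 3) ^ 2, fun k => ?_⟩
            fin_cases k
            · change (d 3 * d 0) ^ 2 = _; ring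
            · change (d 2 * d 1) ^ 2 = _; rw [C]; ring
            · change (d 1 * d 2) ^ 2 = _; rw [C]
            · change (d 0 * d 3) ^ 2 = _; ring
        obtain ⟨z, hz⟩ := key2
        rw [hz, hz]
      · rw [Finset.prod_mul_distrib, Finset.prod_mul_distrib, Equiv.prod_comp (x4 a) d, hc.2.2,
          Finset.prod_inv_distrib, mul_one]
        exact mul_inv_cancel₀ (Finset.prod_ne_zero_iff.2 fun j _ => hd0 j)
    have := Q_mul (c := fun j => d (x4 a j) * c j * (d j)⁻¹) (d := fun _ => 1) hQ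
      ⟨fun _ => one_pow _, fun _ _ => rfl, by simp⟩ σ⁻¹
    simpa using this

end group

end Cfsg.Agent.H908.Pauli
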