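import Cfsg.Agent.H908.Decomp
import Cfsg.Agent.H905.SLProper3

/-!
# Pairs of planes in dimension four, `|F| ≤ 3`: the stabiliser in `SL_4` fixes a symplectic form up
to scalars
-/

set_option autoImplicit false
set_option linter.style.haveILetI false

namespace Cfsg.Agent.H908

open Cfsg.Geo Matrix

variable {F : Type*} [Field F]

/-- The form `det ⊕ det`. -/
def detForm (u v : Fin 4 → F) : F := u 0 * v 1 - u 1 * v 0 + (u 2 * v 3 - u 3 * v 2)

theorem detForm_symplectic : IsSymplecticForm (detForm (F := F)) where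
  bilinear := {
    add_left := fun x y v => by simp only [detForm, Pi.add_apply]; ring
    smul_left := fun c x v => by simp only [detForm, Pi.smul_apply, smul_eq_mul]; ring
    add_right := fun v x y => by simp only [detForm, Pi.add_apply]; ring
    smul_right := fun c v x => by simp only [detForm, Pi.smul_apply, smul_eq_mul]; ring }
  skew := fun v w => by simp only [detForm]; ring
  alternating := fun v => by simp only [detForm]; ring
  nondegenerate := by
    intro v hv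
    obtain ⟨i, hi⟩ : ∃ i, v i ≠ 0 := by
      by_contra hc
      push Not at hc
      exact hv (funext hc)
    have key : ∃ x : Fin 4 → F, detForm v x ≠ 0 := by
      fin_cases i
      · exact ⟨Pi.single 1 1, by simpa [detForm] using hi⟩
      · exact ⟨Pi.single 0 1, by simpa [detForm] using hi⟩
      · exact ⟨Pi.single 3 1, by simpa [detForm] using hi⟩
      · exact ⟨Pi.single 2 1, by simpa [detForm] using hi⟩
    refine ⟨?_, key⟩
    obtain ⟨x, hx⟩ := key
    refine ⟨x, fun h => hx ?_⟩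
    have : detForm v x = - detForm x v := by simp only [detForm]; ring
    rw [this, h, neg_zero]

theorem symplectic_conj {n : ℕ} {f : (Fin n → F) → (Fin n → F) → F} (hf : IsSymplecticForm f)
    (P : GL (Fin n) F) : IsSymplecticForm (fun u v =>
      f (((P⁻¹ : GL (Fin n) F) : Matrix (Fin n) (Fin n) F) *ᵥ u)
        (((P⁻¹ : GL (Fin n) F) : Matrix (Fin n) (Fin n) F) *ᵥ v)) where
  bilinear := {
    add_left := fun x y v => by simp only [Matrix.mulVec_add, hf.bilinear.add_left]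
    smul_left := fun c x v => by simp only [Matrix.mulVec_smul, hf.bilinear.smul_left]
    add_right := fun v x y => by simp only [Matrix.mulVec_add, hf.bilinear.add_right]
    smul_right := fun c v x => by simp only [Matrix.mulVec_smul, hf.bilinear.smul_right] }
  skew := fun v w => hf.skew _ _
  alternating := fun v => hf.alternating _
  nondegenerate := by
    intro v hv
    have h1 : ((P⁻¹ : GL (Fin n) F) : Matrix (Fin n) (Fin n) F) *ᵥ v ≠ 0 := by
      intro h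
      apply hv
      have := congrArg (fun z => (P : Matrix (Fin n) (Fin n) F) *ᵥ z) h
      simpa [Matrix.mulVec_mulVec, ← Units.val_mul] using this
    obtain ⟨⟨x, hx⟩, ⟨y, hy⟩⟩ := hf.nondegenerate _ h1
    refine ⟨⟨(P : Matrix (Fin n) (Fin n) F) *ᵥ x, ?_⟩, ⟨(P : Matrix (Fin n) (Fin n) F) *ᵥ y, ?_⟩⟩
    · simpa only [Matrix.mulVec_mulVec, ← Units.val_mul, inv_mul_cancel, Units.val_one,
        Matrix.one_mulVec] using hx
    · simpa only [Matrix.mulVec_mulVec, ← Units.val_mul, inv_mul_cancel, Units.val_one,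
        Matrix.one_mulVec] using hy

theorem similarity_conj {n : ℕ} {f : (Fin n → F) → (Fin n → F) → F} {P g : GL (Fin n) F}
    (h : P⁻¹ * g * P ∈ similarityGroup f) : g ∈ similarityGroup (fun u v =>
      f (((P⁻¹ : GL (Fin n) F) : Matrix (Fin n) (Fin n) F) *ᵥ u)
        (((P⁻¹ : GL (Fin n) F) : Matrix (Fin n) (Fin n) F) *ᵥ v)) := by
  obtain ⟨c, hc⟩ := h
  refine ⟨c, fun u v => ?_⟩
  have e : ∀ w : Fin n → F, ((P⁻¹ : GL (Fin n) F) : Matrix (Fin n) (Fin n) F) *ᵥ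
      ((g : Matrix (Fin n) (Fin n) F) *ᵥ w) = ((P⁻¹ * g * P : GL (Fin n) F) : Matrix (Fin n) (Fin n) F)
        *ᵥ (((P⁻¹ : GL (Fin n) F) : Matrix (Fin n) (Fin n) F) *ᵥ w) := by
    intro w
    rw [Matrix.mulVec_mulVec, Matrix.mulVec_mulVec, ← Units.val_mul, ← Units.val_mul]
    congr 2
    simp [mul_assoc]
  simp only [e]
  exact hc _ _

theorem det_four {R : Type*} [CommRing R] (A : Matrix (Fin 4) (Fin 4) R) : A.det =
    A 0 0 * (A 1 1 * (A 2 2 * A 3 3 - A 2 3 * A 3 2) - A 1 2 * (A 2 1 * A 3 3 - A 2 3 * A 3 1) +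
      A 1 3 * (A 2 1 * A 3 2 - A 2 2 * A 3 1)) -
    A 0 1 * (A 1 0 * (A 2 2 * A 3 3 - A 2 3 * A 3 2) - A 1 2 * (A 2 0 * A 3 3 - A 2 3 * A 3 0) +
      A 1 3 * (A 2 0 * A 3 2 - A 2 2 * A 3 0)) +
    A 0 2 * (A 1 0 * (A 2 1 * A 3 3 - A 2 3 * A 3 1) - A 1 1 * (A 2 0 * A 3 3 - A 2 3 * A 3 0) +
      A 1 3 * (A 2 0 * A 3 1 - A 2 1 * A 3 0)) -
    A 0 3 * (A 1 0 * (A 2 1 * A 3 2 - A 2 2 * A 3 1) - A 1 1 * (A 2 0 * A 3 2 - A 2 2 * A 3 0) +
      A 1 2 * (A 2 0 * A 3 1 - A 2 1 * A 3 0)) := by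
  rw [Matrix.det_succ_row_zero, Fin.sum_univ_four]
  simp only [Matrix.det_fin_three, Matrix.submatrix_apply]
  simp [Fin.succAbove]
  ring

theorem perm_two : ∀ σ : Equiv.Perm (Fin 2), (σ 0 = 0 ∧ σ 1 = 1) ∨ (σ 0 = 1 ∧ σ 1 = 0) := by decide

/-- The block matrices, `det = 1`, `x² = 1` in `F*`. -/
theorem detForm_block (hsq : ∀ x : F, x ≠ 0 → x ^ 2 = 1) {A : Matrix (Fin 4) (Fin 4) F}
    (hdet : A.det = 1) (σ : Equiv.Perm (Fin 2))
    (hA : ∀ k l : Fin 4, ((finProdFinEquiv (m := 2) (n := 2)).symm k).1 ≠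
      σ ((finProdFinEquiv (m := 2) (n := 2)).symm l).1 → A k l = 0) :
    ∃ c : Fˣ, ∀ u v, detForm (A *ᵥ u) (A *ᵥ v) = (c : F) * detForm u v := by
  have hmv : ∀ (u : Fin 4 → F) (i : Fin 4), (A *ᵥ u) i = A i 0 * u 0 + A i 1 * u 1 + A i 2 * u 2 +
      A i 3 * u 3 := by
    intro u i
    rw [Matrix.mulVec, dotProduct, Fin.sum_univ_four]
  rw [det_four] at hdet
  -- the common conclusion
  have fin' : ∀ x y : F, x * y = 1 → ∃ c : Fˣ, (c : F) = x ∧ (c : F) = y := by
    intro x y hxy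
    have hx : x ≠ 0 := by rintro rfl; rw [zero_mul] at hxy; exact zero_ne_one hxy
    refine ⟨Units.mk0 x hx, rfl, ?_⟩
    have := hsq x hx
    change x = y
    apply mul_left_cancel₀ hx
    rw [hxy, ← this, pow_two]
  rcases perm_two σ with ⟨h0, h1⟩ | ⟨h0, h1⟩
  · have z02 : A 0 2 = 0 := hA 0 2 (by change (0 : Fin 2) ≠ σ 1; rw [h1]; decide)
    have z03 : A 0 3 = 0 := hA 0 3 (by change (0 : Fin 2) ≠ σ 1; rw [h1]; decide)
    have z12 : A 1 2 = 0 := hA 1 2 (by change (0 : Fin 2) ≠ σ 1; rw [h1]; decide)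
    have z13 : A 1 3 = 0 := hA 1 3 (by change (0 : Fin 2) ≠ σ 1; rw [h1]; decide)
    have z20 : A 2 0 = 0 := hA 2 0 (by change (1 : Fin 2) ≠ σ 0; rw [h0]; decide)
    have z21 : A 2 1 = 0 := hA 2 1 (by change (1 : Fin 2) ≠ σ 0; rw [h0]; decide)
    have z30 : A 3 0 = 0 := hA 3 0 (by change (1 : Fin 2) ≠ σ 0; rw [h0]; decide)
    have z31 : A 3 1 = 0 := hA 3 1 (by change (1 : Fin 2) ≠ σ 0; rw [h0]; decide)
    have hd : (A 0 0 * A 1 1 - A 0 1 * A 1 0) * (A 2 2 * A 3 3 - A 2 3 * A 3 2) = 1 := by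
      rw [← hdet, z02, z03, z12, z13]
      ring
    obtain ⟨c, hc1, hc2⟩ := fin' _ _ hd
    refine ⟨c, fun u v => ?_⟩
    unfold detForm
    simp only [hmv, z02, z03, z12, z13, z20, z21, z30, z31]
    linear_combination (-(u 0 * v 1 - u 1 * v 0)) * hc1 + (-(u 2 * v 3 - u 3 * v 2)) * hc2
  · have z00 : A 0 0 = 0 := hA 0 0 (by change (0 : Fin 2) ≠ σ 0; rw [h0]; decide)
    have z01 : A 0 1 = 0 := hA 0 1 (by change (0 : Fin 2) ≠ σ 0; rw [h0]; decide)
    have z10 : A 1 0 = 0 := hA 1 0 (by change (0 : Fin 2) ≠ σ 0; rw [h0]; decide)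
    have z11 : A 1 1 = 0 := hA 1 1 (by change (0 : Fin 2) ≠ σ 0; rw [h0]; decide)
    have z22 : A 2 2 = 0 := hA 2 2 (by change (1 : Fin 2) ≠ σ 1; rw [h1]; decide)
    have z23 : A 2 3 = 0 := hA 2 3 (by change (1 : Fin 2) ≠ σ 1; rw [h1]; decide)
    have z32 : A 3 2 = 0 := hA 3 2 (by change (1 : Fin 2) ≠ σ 1; rw [h1]; decide)
    have z33 : A 3 3 = 0 := hA 3 3 (by change (1 : Fin 2) ≠ σ 1; rw [h1]; decide)
    have hd : (A 2 0 * A 3 1 - A 2 1 * A 3 0) * (A 0 2 * A 1 3 - A 0 3 * A 1 2) = 1 := by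
      rw [← hdet, z00, z01, z10, z11]
      ring
    obtain ⟨c, hc1, hc2⟩ := fin' _ _ hd
    refine ⟨c, fun u v => ?_⟩
    unfold detForm
    simp only [hmv, z00, z01, z10, z11, z22, z23, z32, z33]
    linear_combination (-(u 0 * v 1 - u 1 * v 0)) * hc1 + (-(u 2 * v 3 - u 3 * v 2)) * hc2

/-- `|F| ≤ 3`: the stabiliser in `SL_4` of a pair of planes fixes a symplectic form up to scalars. -/
theorem planes_symplectic [Fintype F] (hF : Fintype.card F ≤ 3) {D : Fin 2 → Submodule F (Fin 4 → F)}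
    (hD : IsMDecomposition 2 D) :
    ∃ f : (Fin 4 → F) → (Fin 4 → F) → F, IsSymplecticForm f ∧
      decompositionStabilizer D ⊓ specialLinear (Fin 4) F ≤ similarityGroup f := by
  have hsq : ∀ x : F, x ≠ 0 → x ^ 2 = 1 := by
    intro x hx
    have h1 := FiniteField.pow_card_sub_one_eq_one x hx
    have h2 : 1 < Fintype.card F := Fintype.one_lt_card
    have h3 : Fintype.card F = 2 ∨ Fintype.card F = 3 := by omega
    rcases h3 with h3 | h3
    · rw [h3] at h1
      have : x = 1 := by simpa using h1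
      rw [this, one_pow]
    · rw [h3] at h1
      exact h1
  obtain ⟨P, hP⟩ := exists_frame hD (finProdFinEquiv (m := 2) (n := 2) : Fin 2 × Fin 2 ≃ Fin 4)
  refine ⟨_, symplectic_conj detForm_symplectic P, ?_⟩
  rintro g ⟨⟨σ, hσ⟩, hg⟩
  apply similarity_conj
  apply detForm_block hsq _ σ (fun k l hkl => block_of_mem hP hσ k l hkl)
  have := (mem_sl_iff g).1 hg
  rw [Units.val_mul, Units.val_mul, Matrix.det_mul, Matrix.det_mul, this, mul_one,
    ← Matrix.det_mul, ← Units.val_mul, inv_mul_cancel, Units.val_one, Matrix.det_one]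

end Cfsg.Agent.H908
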