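import Cfsg.Agent.H908.SLProper

/-!
# `SL_n`, `n ≥ 3`, normalises no `r`-subgroup of `GL_n` with a non-scalar element, `r` prime to the
characteristic
-/

set_option autoImplicit false
set_option linter.style.haveILetI false

namespace Cfsg.Agent.H908

open Cfsg.Geo Matrix

variable {F : Type*} [Field F] {n : ℕ}

theorem exists_dot_zero (hn : 3 ≤ n) (v w : Fin n → F) :
    ∃ φ : Fin n → F, φ ≠ 0 ∧ φ ⬝ᵥ v = 0 ∧ φ ⬝ᵥ w = 0 := by
  let L : (Fin n → F) →ₗ[F] (Fin 2 → F) :=
    { toFun := fun φ => ![φ ⬝ᵥ v, φ ⬝ᵥ w]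
      map_add' := fun a b => by ext i; fin_cases i <;> simp [add_dotProduct]
      map_smul' := fun c a => by ext i; fin_cases i <;> simp [smul_dotProduct] }
  have hL : LinearMap.ker L ≠ ⊥ := by
    apply LinearMap.ker_ne_bot_of_finrank_lt
    rw [Module.finrank_fin_fun, Module.finrank_fin_fun]
    omega
  obtain ⟨φ, hφ, h0⟩ := Submodule.exists_mem_ne_zero_of_ne_bot hL
  rw [LinearMap.mem_ker] at hφ
  exact ⟨φ, h0, by simpa [L] using congrFun hφ 0, by simpa [L] using congrFun hφ 1⟩

theorem not_sl_le_normalizer (hn : 3 ≤ n) {p r : ℕ} [CharP F p] (hp : p.Prime) (hr : r.Prime)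
    (hrp : r ≠ p) {R : Subgroup (GL (Fin n) F)} (hR : IsPGroup r R)
    (hns : ∃ x ∈ R, x ∉ scalars (Fin n) F) :
    ¬ specialLinear (Fin n) F ≤ subgroupNormalizer R := by
  intro h
  obtain ⟨x, hxR, hxs⟩ := hns
  have hx : ∀ c : F, (x : Matrix (Fin n) (Fin n) F) ≠ c • (1 : Matrix (Fin n) (Fin n) F) := by
    intro c hc
    apply hxs
    rw [mem_scalars_iff]
    have hc0 : c ≠ 0 := by
      rintro rfl
      rw [zero_smul] at hc
      have h1 : ((x * x⁻¹ : GL (Fin n) F) : Matrix (Fin n) (Fin n) F) = 0 := by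
        rw [Units.val_mul, hc, zero_mul]
      rw [mul_inv_cancel, Units.val_one] at h1
      have := congrFun (congrFun h1 ⟨0, by omega⟩) ⟨0, by omega⟩
      simp at this
    exact ⟨Units.mk0 c hc0, hc⟩
  obtain ⟨v, hv0, hv⟩ := exists_not_smul hx
  set X : Matrix (Fin n) (Fin n) F := (x : Matrix (Fin n) (Fin n) F) with hX
  set Y : Matrix (Fin n) (Fin n) F := ((x⁻¹ : GL (Fin n) F) : Matrix (Fin n) (Fin n) F) with hY
  have hXY : X * Y = 1 := by rw [hX, hY, ← Units.val_mul, mul_inv_cancel, Units.val_one]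
  have hYX : Y * X = 1 := by rw [hX, hY, ← Units.val_mul, inv_mul_cancel, Units.val_one]
  obtain ⟨φ, hφ0, hφv, hφw⟩ := exists_dot_zero hn v (Y *ᵥ v)
  set N : Matrix (Fin n) (Fin n) F := vecMulVec v φ with hN
  have hNN : N * N = 0 := by
    rw [hN, vecMulVec_mul_vecMulVec, hφv, zero_smul, vecMulVec_zero]
  set N' : Matrix (Fin n) (Fin n) F := Y * N * X with hN'
  have hN'N' : N' * N' = 0 := by
    calc N' * N' = Y * N * (X * Y) * N * X := by rw [hN']; noncomm_ring
      _ = Y * (N * N) * X := by rw [hXY]; noncomm_ring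
      _ = 0 := by rw [hNN]; simp
  have hNN' : N * N' = 0 := by
    have : N * Y * N = 0 := by
      rw [hN, Matrix.mul_assoc, Matrix.mul_vecMulVec, vecMulVec_mul_vecMulVec, hφw, zero_smul,
        vecMulVec_zero]
    calc N * N' = (N * Y * N) * X := by rw [hN']; noncomm_ring
      _ = 0 := by rw [this, zero_mul]
  have hdet : (1 + N).det = 1 := by
    rw [hN, vecMulVec_eq Unit, Matrix.det_one_add_mul_comm]
    simp [hφv]
  set g := slMk (1 + N) hdet with hg
  have hgS : g ∈ specialLinear (Fin n) F := slMk_mem _ _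
  have hgi : ((g⁻¹ : GL (Fin n) F) : Matrix (Fin n) (Fin n) F) = 1 - N := by
    have h1 : (g : Matrix (Fin n) (Fin n) F) * (1 - N) = 1 := by
      rw [hg, slMk_coe]
      noncomm_ring
      rw [hNN]; simp
    calc ((g⁻¹ : GL (Fin n) F) : Matrix (Fin n) (Fin n) F)
        = ((g⁻¹ : GL (Fin n) F) : Matrix (Fin n) (Fin n) F) *
          ((g : Matrix (Fin n) (Fin n) F) * (1 - N)) := by rw [h1, mul_one]
      _ = 1 - N := by rw [← mul_assoc, ← Units.val_mul, inv_mul_cancel, Units.val_one, one_mul]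
  set u : GL (Fin n) F := x⁻¹ * (g * x * g⁻¹) with hu
  have huR : u ∈ R := by
    apply R.mul_mem (R.inv_mem hxR)
    exact (Subgroup.mem_normalizer_iff.1 (h hgS) x).1 hxR
  have huE : (u : Matrix (Fin n) (Fin n) F) = 1 + (N' - N - N' * N) := by
    have : (u : Matrix (Fin n) (Fin n) F) = Y * ((1 + N) * X * (1 - N)) := by
      rw [hu, Units.val_mul, Units.val_mul, Units.val_mul, hgi]
      rfl
    rw [this]
    calc Y * ((1 + N) * X * (1 - N)) = (Y * X + Y * N * X) * (1 - N) := by noncomm_ring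
      _ = (1 + N') * (1 - N) := by rw [hYX]
      _ = 1 + (N' - N - N' * N) := by noncomm_ring
  set E : Matrix (Fin n) (Fin n) F := N' - N - N' * N with hE
  have hE2 : E * E = - (N' * N) := by
    calc E * E = N' * N' - N' * N - N' * N' * N - N * N' + N * N + (N * N') * N
          - N' * (N * N') + N' * (N * N) + N' * (N * N') * N := by rw [hE]; noncomm_ring
      _ = - (N' * N) := by rw [hN'N', hNN', hNN]; simp
  have hE3 : E * E * E = 0 := by
    rw [hE2]
    calc -(N' * N) * E = -(N' * (N * N')) + N' * (N * N) + N' * (N * N') * N := by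
          rw [hE]; noncomm_ring
      _ = 0 := by rw [hNN', hNN]; simp
  haveI : Fact p.Prime := ⟨hp⟩
  haveI : Nonempty (Fin n) := ⟨⟨0, by omega⟩⟩
  have hup : u ^ (p ^ 2) = 1 := by
    apply Units.ext
    rw [Units.val_pow_eq_pow_val, huE, Units.val_one]
    rw [add_pow_char_pow_of_commute p 2 (Commute.one_left E), one_pow]
    have h4 : 3 ≤ p ^ 2 := by
      have := hp.two_le
      nlinarith
    obtain ⟨k, hk⟩ := Nat.exists_eq_add_of_le h4
    rw [hk, pow_add, pow_succ, pow_succ, pow_one, hE3, zero_mul, add_zero]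
  have hu1 : u = 1 := by
    obtain ⟨k, hk⟩ := hR ⟨u, huR⟩
    have hk' : u ^ (r ^ k) = 1 := by
      have := congrArg Subtype.val hk
      simpa using this
    have hc : Nat.Coprime (r ^ k) (p ^ 2) :=
      Nat.Coprime.pow _ _ ((Nat.coprime_primes hr hp).2 hrp)
    have h1 := orderOf_dvd_of_pow_eq_one hk'
    have h2 := orderOf_dvd_of_pow_eq_one hup
    have h3 : orderOf u = 1 := Nat.eq_one_of_dvd_coprimes hc h1 h2
    exact orderOf_eq_one_iff.1 h3
  have hE0 : E = 0 := by
    rw [hu1, Units.val_one] at huE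
    exact (left_eq_add.1 huE)
  have hNe : N' = N := by
    have h1 : N' * (1 - N) = N := by
      have : N' * (1 - N) - N = E := by rw [hE]; noncomm_ring
      rw [hE0] at this
      exact sub_eq_zero.1 this
    calc N' = N' * (1 - N) * (1 + N) := by
          rw [mul_assoc]
          have : (1 - N) * (1 + N) = 1 := by noncomm_ring; rw [hNN]; simp
          rw [this, mul_one]
      _ = N * (1 + N) := by rw [h1]
      _ = N := by rw [mul_add, mul_one, hNN, add_zero]
  have hcomm : N * X = X * N := by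
    calc N * X = (X * Y) * N * X := by rw [hXY, one_mul]
      _ = X * N' := by rw [hN']; noncomm_ring
      _ = X * N := by rw [hNe]
  -- apply to a vector
  obtain ⟨j, hj⟩ : ∃ j, φ j ≠ 0 := by
    by_contra hc
    push Not at hc
    exact hφ0 (funext hc)
  apply hv ((φ j)⁻¹ * (φ ᵥ* X) j)
  have e1 : ∀ i, v i * (φ ᵥ* X) j = (X *ᵥ v) i * φ j := by
    intro i
    have := congrFun (congrFun hcomm i) j
    rw [hN, Matrix.vecMulVec_mul, Matrix.mul_vecMulVec] at this
    exact this
  ext i
  rw [Pi.smul_apply, smul_eq_mul]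
  have := e1 i
  field_simp
  rw [mul_comm] at this
  linear_combination this

end Cfsg.Agent.H908
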