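import Cfsg.Agent.H908.FrameFive
import Cfsg.Agent.H918.UProperTwo
import Cfsg.Agent.ClassicalGeometry.HermOrtho

/-!
# Orthonormal frames of a unitary space; the frame stabiliser in `SU_4(3)`
-/

set_option autoImplicit false
set_option linter.style.haveILetI false

namespace Cfsg.Agent.H908

open Cfsg Cfsg.Geo Matrix Cfsg.Agent.H918 Cfsg.Agent.LieClassical.HermBasic

variable {F : Type*} [Field F] [Fintype F] {n q : ℕ}

/-- Nondegenerate in the sense of the classes implies the left-radical is zero. -/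
theorem nondeg_left {f : (Fin n → F) → (Fin n → F) → F} {W : Submodule F (Fin n → F)}
    (hW : IsNondegenerateOn f W) : ∀ u ∈ W, (∀ v ∈ W, f u v = 0) → u = 0 := by
  intro u hu h
  by_contra h0
  obtain ⟨-, x, hx, hx'⟩ := hW u hu h0
  exact hx' (h x hx)

/-- An orthogonal frame of nondegenerate lines: a unitary matrix `P` with `P e_i ∈ D_i`, and elements of the frame
stabiliser are monomial in these coordinates. -/
theorem exists_unitary_frame (hF : Fintype.card F = q ^ 2) {D : Fin n → Submodule F (Fin n → F)}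
    (hD : IsNondegenerateMDecomposition (hermForm n F q) 1 D) :
    ∃ P ∈ GU n F q, (∀ i, D i = Submodule.span F {(P : Matrix (Fin n) (Fin n) F) *ᵥ Pi.single i 1}) ∧
      ∀ g ∈ decompositionStabilizer D, ∃ (σ : Equiv.Perm (Fin n)) (c : Fin n → F),
      ((P⁻¹ * g * P : GL (Fin n) F) : Matrix (Fin n) (Fin n) F) = Pauli.mono σ c := by
  have h1 : ∀ i, ∃ b : Fin n → F, b ∈ D i ∧ hermForm n F q b b = 1 := by
    intro i
    obtain ⟨b, hb, hb'⟩ := ClassicalGeometry.HermOrtho.exists_orthonormal hF (D i)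
      (nondeg_left (hD.nondegenerate i)) (hD.decomp.finrank_eq i)
    exact ⟨b 0, hb 0, by rw [hb']; simp⟩
  choose b hb hb1 using h1
  have hbo : ∀ i j, hermForm n F q (b i) (b j) = if i = j then 1 else 0 := by
    intro i j
    split_ifs with h
    · rw [h]; exact hb1 j
    · exact hD.orthogonal i j h _ (hb i) _ (hb j)
  obtain ⟨P, hP, hPb⟩ := ClassicalGeometry.HermOrtho.exists_GU_of_orthonormal hF hbo
  have hPe : ∀ i, (P : Matrix (Fin n) (Fin n) F) *ᵥ Pi.single i 1 = b i := by
    intro i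
    rw [hPb, Finset.sum_eq_single i]
    · simp
    · intro j _ hj
      rw [Pi.single_eq_of_ne hj, zero_smul]
    · simp
  have hspan : ∀ i, D i = Submodule.span F {(P : Matrix (Fin n) (Fin n) F) *ᵥ Pi.single i 1} := by
    intro i
    rw [hPe]
    symm
    apply Submodule.eq_of_le_of_finrank_eq
    · rw [Submodule.span_singleton_le_iff_mem]
      exact hb i
    · rw [finrank_span_singleton, hD.decomp.finrank_eq]
      intro h0
      have := hb1 i
      rw [h0, herm_zero_left] at this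
      exact zero_ne_one this
  refine ⟨P, hP, hspan, ?_⟩
  rintro g ⟨σ, hσ⟩
  have h2 : ∀ j, ∃ c : F, (g : Matrix (Fin n) (Fin n) F) *ᵥ ((P : Matrix (Fin n) (Fin n) F) *ᵥ Pi.single j 1) =
      c • ((P : Matrix (Fin n) (Fin n) F) *ᵥ Pi.single (σ j) 1) := by
    intro j
    have h3 : (g : Matrix (Fin n) (Fin n) F) *ᵥ ((P : Matrix (Fin n) (Fin n) F) *ᵥ Pi.single j 1) ∈ D (σ j) := by
      rw [← hσ]
      exact ⟨_, by rw [SetLike.mem_coe, hspan j]; exact Submodule.mem_span_singleton_self _, rfl⟩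
    rw [hspan (σ j), Submodule.mem_span_singleton] at h3
    obtain ⟨c, hc⟩ := h3
    exact ⟨c, hc.symm⟩
  choose c hc using h2
  refine ⟨σ, c, ?_⟩
  apply Matrix.ext_of_mulVec_single
  intro j
  rw [Pauli.mono_mulVec_single]
  have h4 : P⁻¹ * g * P = P⁻¹ * (g * P) := by rw [mul_assoc]
  rw [h4, Units.val_mul, Units.val_mul, ← Matrix.mulVec_mulVec, ← Matrix.mulVec_mulVec, hc,
    Matrix.mulVec_smul, Matrix.mulVec_mulVec, ← Units.val_mul, inv_mul_cancel, Units.val_one,
    Matrix.one_mulVec, ← Pi.single_smul, smul_eq_mul, mul_one]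

/-- Entries of a monomial unitary matrix have norm one. -/
theorem norm_one_of_mono (hF : Fintype.card F = q ^ 2) {g : GL (Fin n) F} (hg : g ∈ GU n F q)
    {σ : Equiv.Perm (Fin n)} {c : Fin n → F} (h : (g : Matrix (Fin n) (Fin n) F) = Pauli.mono σ c)
    (j : Fin n) : c j ^ (q + 1) = 1 := by
  have h1 := hg (Pi.single j 1) (Pi.single j 1)
  change hermForm n F q ((g : Matrix (Fin n) (Fin n) F) *ᵥ (Pi.single j 1))
    ((g : Matrix (Fin n) (Fin n) F) *ᵥ (Pi.single j 1)) = _ at h1
  rw [h, Pauli.mono_mulVec_single, herm_single_left, herm_single_left, Pi.single_eq_same,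
    Pi.single_eq_same, one_pow, mul_one] at h1
  rw [pow_succ', h1]

/-- A monomial matrix with entries of norm one is unitary. -/
theorem mono_mem_GU (hF : Fintype.card F = q ^ 2) {g : GL (Fin n) F}
    {σ : Equiv.Perm (Fin n)} {c : Fin n → F} (h : (g : Matrix (Fin n) (Fin n) F) = Pauli.mono σ c)
    (hc : ∀ j, c j ^ (q + 1) = 1) : g ∈ GU n F q := by
  intro u v
  change hermForm n F q ((g : Matrix (Fin n) (Fin n) F) *ᵥ u)
    ((g : Matrix (Fin n) (Fin n) F) *ᵥ v) = _
  have key : ∀ (u : Fin n → F) (i : Fin n), ((g : Matrix (Fin n) (Fin n) F) *ᵥ u) (σ i) = c i * u i := by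
    intro u i
    rw [h, Matrix.mulVec, dotProduct, Finset.sum_eq_single i]
    · rw [Pauli.mono_pos _ _ rfl]
    · intro j _ hj
      rw [Pauli.mono_neg _ _ (fun h => hj (σ.injective h).symm), zero_mul]
    · simp
  rw [herm_def, herm_def, ← Equiv.sum_comp σ]
  apply Finset.sum_congr rfl
  intro i _
  rw [key, key, mul_pow]
  have := hc i
  rw [pow_succ'] at this
  linear_combination (u i * v i ^ q) * this

theorem su_frame_three (hF : Fintype.card F = 3 ^ 2) {D : Fin 4 → Submodule F (Fin 4 → F)}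
    (hD : IsNondegenerateMDecomposition (hermForm 4 F 3) 1 D) :
    ∃ R : Subgroup (GL (Fin 4) F), IsSymplecticTypeGroup 2 R ∧ ActsAbsolutelyIrreducibly (matrixSet R) ∧
      R ≤ similarityGroup (hermForm 4 F 3) ∧ Nat.card R = 64 ∧ Nat.card (Subgroup.center R) = 4 ∧
      decompositionStabilizer D ⊓ SUg 4 F 3 ≤ subgroupNormalizer R := by
  have hp3 : Nat.Prime 3 := by norm_num
  haveI : Fact (Nat.Prime 3) := ⟨hp3⟩
  have hchar : CharP F 3 := charP_of_card_eq_prime_pow hF
  have h2 : (2 : F) ≠ 0 := by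
    intro h
    have : ((2 : ℕ) : F) = 0 := by exact_mod_cast h
    rw [CharP.cast_eq_zero_iff F 3] at this
    norm_num at this
  obtain ⟨i, hi⟩ : ∃ i : F, i ^ 2 = -1 := by
    have h := (FiniteField.isSquare_neg_one_iff (F := F)).2 (by rw [hF]; norm_num)
    obtain ⟨i, hi⟩ := h
    exact ⟨i, by rw [hi, pow_two]⟩
  obtain ⟨P, hP, -, hmono⟩ := exists_unitary_frame hF hD
  refine ⟨cj P (Pauli.RR F), symplecticType_cj (Pauli.isSymplecticType h2 hi) P,
    absIrred_cj (Pauli.absIrred h2) P, ?_, by rw [card_cj, Pauli.card_RR h2 hi],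
    by rw [card_center_cj, Pauli.card_center h2 hi], ?_⟩
  · intro x hx
    rw [mem_cj] at hx
    obtain ⟨a, c, hxa, hc⟩ := hx
    have h1 : P⁻¹ * x * P ∈ GU 4 F 3 := mono_mem_GU hF hxa hc.1
    have h3 : x ∈ GU 4 F 3 := by
      have : x = P * (P⁻¹ * x * P) * P⁻¹ := by simp [mul_assoc]
      rw [this]
      exact mul_mem (mul_mem hP h1) (inv_mem hP)
    exact ⟨1, fun u v => by rw [Units.val_one, one_mul]; exact h3 u v⟩
  · rintro g ⟨hg, hgU, hgs⟩
    apply normalizer_cj
    have hmain : ∀ g : GL (Fin 4) F, g ∈ decompositionStabilizer D → g ∈ GU 4 F 3 →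
        g ∈ specialLinear (Fin 4) F →
        ∀ x ∈ Pauli.RR F, (P⁻¹ * g * P) * x * (P⁻¹ * g * P)⁻¹ ∈ Pauli.RR F := by
      intro g hg hgU hgs x hx
      obtain ⟨σ, c, hc⟩ := hmono g hg
      have hU : P⁻¹ * g * P ∈ GU 4 F 3 := mul_mem (mul_mem (inv_mem hP) hgU) hP
      refine Pauli.conj_mem_RR hc (fun j => norm_one_of_mono hF hU hc j) ?_ hx
      have hdet : ((P⁻¹ * g * P : GL (Fin 4) F) : Matrix (Fin 4) (Fin 4) F).det = 1 := by
        rw [Units.val_mul, Units.val_mul, Matrix.det_mul, Matrix.det_mul, (H908.mem_sl_iff g).1 hgs, mul_one,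
          ← Matrix.det_mul, ← Units.val_mul, inv_mul_cancel, Units.val_one, Matrix.det_one]
      rw [hc, Pauli.det_mono] at hdet
      rcases Int.units_eq_one_or (Equiv.Perm.sign σ) with h | h
      · rw [h] at hdet
        have : (∏ j, c j) = 1 := by simpa using hdet
        rw [this, one_pow]
      · rw [h] at hdet
        have : (∏ j, c j) = -1 := by
          have : -(∏ j, c j) = 1 := by simpa using hdet
          rw [← this, neg_neg]
        rw [this]; ring
    apply Pauli.mem_normalizer_of (hmain g hg hgU hgs)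
    intro x hx
    have h1 := hmain g⁻¹ (inv_mem hg) (inv_mem hgU) (inv_mem hgs) x hx
    have e : P⁻¹ * g⁻¹ * P * x * (P⁻¹ * g⁻¹ * P)⁻¹ = (P⁻¹ * g * P)⁻¹ * x * (P⁻¹ * g * P) := by
      simp only [_root_.mul_inv_rev, inv_inv, mul_assoc]
    rwa [e] at h1

end Cfsg.Agent.H908
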