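import Cfsg.Agent.H908.SevenPts

/-!
# The stabiliser of the seven vectors up to sign
-/

set_option autoImplicit false
set_option linter.unusedSectionVars false

namespace Cfsg.Agent.H908.KL

open Matrix Cfsg Cfsg.Geo Cfsg.Agent.LieClassical.KleinSix
open scoped MatrixGroups

variable {F : Type*} [Field F] {P : Subgroup (GL (Fin 4) F)} {Ω : Type*} [Fintype Ω] [DecidableEq Ω]
  {ψ : P →* Equiv.Perm Ω} {v : Ω → Fin 3 ⊕ Fin 3 → F} {b : F}

/-- `g` permutes the vectors up to a common sign -/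
def Perms (v : Ω → Fin 3 ⊕ Fin 3 → F) (g : Matrix (Fin 4) (Fin 4) F) : Prop :=
  ∃ ε : F, ε * ε = 1 ∧ ∃ π : Equiv.Perm Ω, ∀ y, act g (v y) = ε • v (π y)

/-- The stabiliser. -/
def ovr (v : Ω → Fin 3 ⊕ Fin 3 → F) : Subgroup (GL (Fin 4) F) where
  carrier := {g | Perms v (g : Matrix (Fin 4) (Fin 4) F)}
  mul_mem' := by
    rintro g g' ⟨ε, hε, π, h⟩ ⟨ε', hε', π', h'⟩
    refine ⟨ε' * ε, ?_, π * π', fun y => ?_⟩
    · calc ε' * ε * (ε' * ε) = (ε' * ε') * (ε * ε) := by ring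
        _ = 1 := by rw [hε, hε', one_mul]
    · rw [Matrix.GeneralLinearGroup.coe_mul, act_mul, h', act_smul, h, smul_smul, Equiv.Perm.mul_apply]
  one_mem' := ⟨1, one_mul 1, 1, fun y => by
    rw [Matrix.GeneralLinearGroup.coe_one, act_one, one_smul]; rfl⟩
  inv_mem' := by
    rintro g ⟨ε, hε, π, h⟩
    refine ⟨ε, hε, π⁻¹, fun y => ?_⟩
    have h1 := h (π⁻¹ y)
    have h2 : π (π⁻¹ y) = y := by rw [← Equiv.Perm.mul_apply, mul_inv_cancel]; rfl
    rw [h2] at h1
    have h3 : v y = ε • act (g : Matrix (Fin 4) (Fin 4) F) (v (π⁻¹ y)) := by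
      rw [h1, smul_smul, hε, one_smul]
    rw [h3, act_smul, ← act_mul, ← Matrix.GeneralLinearGroup.coe_mul, inv_mul_cancel,
      Matrix.GeneralLinearGroup.coe_one, act_one]

theorem mem_ovr {g : GL (Fin 4) F} : g ∈ ovr v ↔ Perms v (g : Matrix (Fin 4) (Fin 4) F) := Iff.rfl

theorem exists_ne (h : Pts ψ) (x y z : Ω) : ∃ t : Ω, t ≠ x ∧ t ≠ y ∧ t ≠ z := by
  by_contra hcon
  push Not at hcon
  have h1 : (Finset.univ : Finset Ω) ⊆ {x, y, z} := by
    intro t _
    by_cases hx : t = x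
    · simp [hx]
    · by_cases hy : t = y
      · simp [hy]
      · simp [hcon t hx hy]
  have h2 := Finset.card_le_card h1
  rw [Finset.card_univ, h.card] at h2
  have := h2.trans Finset.card_le_three
  omega

/-- elements of the stabiliser acting quadratically on the skew matrices are scalars. -/
theorem no_transvection (h : Pts ψ) (h2 : (2 : F) ≠ 0) (h7 : (7 : F) ≠ 0) (hv : Fam ψ v b)
    {g : Matrix (Fin 4) (Fin 4) F} (hg : Perms v g)
    (hsq : ∀ u : Fin 3 ⊕ Fin 3 → F, act g (act g u) + u = (2 : F) • act g u) : ∀ u, act g u = u := by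
  obtain ⟨ε, hε, π, hπ⟩ := hg
  have hb0 := hv.b0
  have h1 : ∀ y, v (π (π y)) + v y = (2 * ε) • v (π y) := by
    intro y
    have := hsq (v y)
    rw [hπ, act_smul, hπ, smul_smul, hε, one_smul, smul_smul] at this
    exact this
  have h3 : ∀ y, π y = y := by
    intro y
    by_contra hne
    obtain ⟨z, hz1, hz2, hz3⟩ := exists_ne h y (π y) (π (π y))
    have e1 := congrArg (fun u => bil u (v z)) (h1 y)
    have e2 := congrArg (fun u => bil u (v y)) (h1 y)
    simp only [bil_add_left, bil_smul_left] at e1 e2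
    rw [hv.bl _ _ hz3.symm, hv.bl _ _ hz1.symm, hv.bl _ _ hz2.symm] at e1
    have e3 : ε = 1 := by
      have : (2 * b) * (ε - 1) = 0 := by linear_combination -e1
      exact sub_eq_zero.1 ((mul_eq_zero.1 this).resolve_left (mul_ne_zero h2 hb0))
    subst e3
    rw [bil_self, hv.pfv, hv.bl _ _ hne] at e2
    by_cases hyy : π (π y) = y
    · rw [hyy, bil_self, hv.pfv] at e2
      have : (2 * 7 : F) * b = 0 := by linear_combination -e2
      exact (mul_ne_zero (mul_ne_zero h2 h7) hb0) this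
    · rw [hv.bl _ _ hyy] at e2
      have : (7 : F) * b = 0 := by linear_combination -e2
      exact (mul_ne_zero h7 hb0) this
  have h4 : ∀ y : Ω, ε = 1 := by
    intro y
    obtain ⟨z, hz1, -, -⟩ := exists_ne h y y y
    have e1 := congrArg (fun u => bil u (v z)) (h1 y)
    rw [h3, h3] at e1
    simp only [bil_add_left, bil_smul_left] at e1
    rw [hv.bl _ _ hz1.symm] at e1
    have : (2 * b) * (ε - 1) = 0 := by linear_combination -e1
    exact sub_eq_zero.1 ((mul_eq_zero.1 this).resolve_left (mul_ne_zero h2 hb0))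
  have h5 : actL g = 1 := by
    apply hv.ext_act h h7
    intro y
    rw [actL_apply, hπ, h3, h4 y, one_smul]
  intro u
  have := congrArg (fun f : Module.End F (Fin 3 ⊕ Fin 3 → F) => f u) h5
  simpa using this

theorem pf_sub (hv : Fam ψ v b) {x y : Ω} (hxy : x ≠ y) : pf (v x - v y) = -7 * b := by
  have e1 := bil_eq (v x) (-v y)
  have e2 : pf (-v y) = pf (v y) := by simp only [pf, Pi.neg_apply]; ring
  have e3 : bil (v x) (-v y) = - bil (v x) (v y) := by
    rw [← neg_one_smul F (v y), bil_smul_right]; ring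
  rw [← sub_eq_add_neg, e2, e3, hv.pfv, hv.pfv, hv.bl _ _ hxy] at e1
  linear_combination -e1

theorem rfl_sub (hv : Fam ψ v b) {x y : Ω} (hxy : x ≠ y) (z : Ω) :
    rfl' (v x - v y) (v z) = (-7 * b) • v (Equiv.swap x y z) := by
  rw [rfl', pf_sub hv hxy, bil_sub_left]
  by_cases hzx : z = x
  · subst hzx
    rw [Equiv.swap_apply_left, bil_self, hv.pfv, hv.bl _ _ hxy.symm]
    module
  · by_cases hzy : z = y
    · subst hzy
      rw [Equiv.swap_apply_right, bil_self, hv.pfv, hv.bl _ _ hxy]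
      module
    · rw [Equiv.swap_apply_of_ne_of_ne hzx hzy, hv.bl _ _ (Ne.symm hzx), hv.bl _ _ (Ne.symm hzy)]
      module

theorem rfl_smul_right (w z : Fin 3 ⊕ Fin 3 → F) (c : F) : rfl' w (c • z) = c • rfl' w z := by
  rw [rfl', rfl', bil_smul_right]; module

/-- the three-cycle -/
noncomputable def cyc (v : Ω → Fin 3 ⊕ Fin 3 → F) (b : F) (x y z : Ω) : Matrix (Fin 4) (Fin 4) F :=
  rr (-7 * b) (v x - v y) (v y - v z)

theorem N_ne_zero (h7 : (7 : F) ≠ 0) (hv : Fam ψ v b) : -7 * b ≠ 0 := mul_ne_zero (neg_ne_zero.2 h7) hv.b0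

theorem det_cyc (h7 : (7 : F) ≠ 0) (hv : Fam ψ v b) {x y z : Ω} (hxy : x ≠ y) (hyz : y ≠ z) :
    (cyc v b x y z).det = 1 := det_rr (N_ne_zero h7 hv) (pf_sub hv hxy) (pf_sub hv hyz)

theorem act_cyc (h7 : (7 : F) ≠ 0) (hv : Fam ψ v b) {x y z : Ω} (hxy : x ≠ y) (hyz : y ≠ z) (t : Ω) :
    act (cyc v b x y z) (v t) = v (Equiv.swap x y (Equiv.swap y z t)) := by
  have hN := N_ne_zero h7 hv
  rw [cyc, act_rr, rfl_sub hv hyz, rfl_smul_right, rfl_sub hv hxy, smul_smul, smul_smul]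
  have : (-7 * b)⁻¹ * (-7 * b)⁻¹ * (-7 * b) * (-7 * b) = 1 := by
    rw [mul_assoc, mul_assoc, inv_mul_cancel_left₀ hN, inv_mul_cancel₀ hN]
  rw [this, one_smul]

theorem perms_cyc (h7 : (7 : F) ≠ 0) (hv : Fam ψ v b) {x y z : Ω} (hxy : x ≠ y) (hyz : y ≠ z) :
    Perms v (cyc v b x y z) :=
  ⟨1, one_mul 1, Equiv.swap x y * Equiv.swap y z, fun t => by rw [act_cyc h7 hv hxy hyz, one_smul]; rfl⟩

/-- the three-cycle is not in `P` modulo scalars. -/
theorem cyc_not_mem (h : Pts ψ) (h7 : (7 : F) ≠ 0) (hv : Fam ψ v b)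
    (h4 : ∀ g : P, (Finset.univ.filter fun y => ψ g y = y).card ≠ 4)
    {x y z : Ω} (hxy : x ≠ y) (hyz : y ≠ z) (hxz : x ≠ z) (g : P) (c : F) : cyc v b x y z ≠ c • mt P g := by
  intro heq
  have h1 : ∀ t, Equiv.swap x y (Equiv.swap y z t) = ψ g t := by
    intro t
    have e1 := act_cyc h7 hv hxy hyz t
    rw [heq, act_smul_left, hv.eqv] at e1
    exact hv.inj_of_smul h h7 e1.symm
  apply h4 g
  have h3 : (Finset.univ.filter fun y => ψ g y = y) = Finset.univ \ {x, y, z} := by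
    ext t
    rw [Finset.mem_filter, Finset.mem_sdiff, ← h1 t]
    simp only [Finset.mem_univ, true_and, Finset.mem_insert, Finset.mem_singleton, not_or]
    constructor
    · intro ht
      refine ⟨?_, ?_, ?_⟩
      · rintro rfl
        rw [Equiv.swap_apply_of_ne_of_ne hxy hxz, Equiv.swap_apply_left] at ht
        exact hxy ht.symm
      · rintro rfl
        rw [Equiv.swap_apply_left, Equiv.swap_apply_of_ne_of_ne hxz.symm hyz.symm] at ht
        exact hyz ht.symm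
      · rintro rfl
        rw [Equiv.swap_apply_right, Equiv.swap_apply_right] at ht
        exact hxz ht
    · rintro ⟨ht1, ht2, ht3⟩
      rw [Equiv.swap_apply_of_ne_of_ne ht2 ht3, Equiv.swap_apply_of_ne_of_ne ht1 ht2]
  rw [h3, Finset.card_sdiff_of_subset (Finset.subset_univ _), Finset.card_univ, h.card,
    Finset.card_eq_three.2 ⟨x, y, z, hxy, hxz, hyz, rfl⟩]

/-- **Not maximal.** -/
theorem not_maximal (h : Pts ψ) (h2 : (2 : F) ≠ 0) (h7 : (7 : F) ≠ 0) (hv : Fam ψ v b)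
    (h4 : ∀ g : P, (Finset.univ.filter fun y => ψ g y = y).card ≠ 4)
    {H S : Subgroup (GL (Fin 4) F)} (hmax : IsMaximalIn S H)
    (hdet : ∀ g ∈ S, (g : Matrix (Fin 4) (Fin 4) F).det = 1)
    (hPZ : ∀ g ∈ H, ∃ (y : P) (c : F), (g : Matrix (Fin 4) (Fin 4) F) = c • mt P y)
    (ht : ∀ x y z : Ω, x ≠ y → y ≠ z → x ≠ z → ∃ t ∈ S, (t : Matrix (Fin 4) (Fin 4) F) = cyc v b x y z)
    (hτ : ∃ τ ∈ S, (∀ c : F, (τ : Matrix (Fin 4) (Fin 4) F) ≠ c • 1) ∧
      ∀ u : Fin 3 ⊕ Fin 3 → F, act (τ : Matrix (Fin 4) (Fin 4) F) (act (τ : Matrix (Fin 4) (Fin 4) F) u) + u =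
        (2 : F) • act (τ : Matrix (Fin 4) (Fin 4) F) u) : False := by
  have hle : H ≤ ovr v ⊓ S := by
    intro g hg
    refine ⟨?_, hmax.1.le hg⟩
    obtain ⟨y, c, hc⟩ := hPZ g hg
    have hd := hdet g (hmax.1.le hg)
    rw [hc, det_smul, h.det, mul_one, Fintype.card_fin] at hd
    change Perms v (g : Matrix (Fin 4) (Fin 4) F)
    refine ⟨c * c, by rw [← hd]; ring, ψ y, fun z => ?_⟩
    rw [hc, act_smul_left, hv.eqv]
  rcases hmax.2 _ hle inf_le_right with hK | hK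
  · -- three-cycle
    obtain ⟨x⟩ : Nonempty Ω := Fintype.card_pos_iff.1 (by rw [h.card]; norm_num)
    obtain ⟨y, hy, -, -⟩ := exists_ne h x x x
    obtain ⟨z, hz1, hz2, -⟩ := exists_ne h x y y
    obtain ⟨t, htS, ht⟩ := ht x y z hy.symm hz2.symm hz1.symm
    have hmem : t ∈ ovr v ⊓ S := ⟨by
      change Perms v (t : Matrix (Fin 4) (Fin 4) F)
      rw [ht]
      exact perms_cyc h7 hv hy.symm hz2.symm, htS⟩
    rw [hK] at hmem
    obtain ⟨g, c, hgc⟩ := hPZ t hmem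
    rw [ht] at hgc
    exact cyc_not_mem h h7 hv h4 hy.symm hz2.symm hz1.symm g c hgc
  · obtain ⟨τ, hτS, hτ1, hτ2⟩ := hτ
    have hmem : τ ∈ ovr v ⊓ S := by rw [hK]; exact hτS
    have h5 := no_transvection h h2 h7 hv (mem_ovr.1 hmem.1) hτ2
    obtain ⟨c, hc⟩ := scalar_of_act_eq (hdet τ hτS) h5
    refine hτ1 c ?_
    rw [hc, Matrix.scalar_apply, Matrix.smul_one_eq_diagonal]

end Cfsg.Agent.H908.KL
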