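import Cfsg.Agent.H908.KleinAct
import Cfsg.Agent.H908.CovFour

/-!
# Groups acting doubly transitively on seven points, with the permutation character on skew matrices
-/

set_option autoImplicit false
set_option linter.unusedSectionVars false

namespace Cfsg.Agent.H908.KL

open Matrix Cfsg.Agent.LieClassical.KleinSix
open scoped MatrixGroups

variable {F : Type*} [Field F] {P : Subgroup (GL (Fin 4) F)} {Ω : Type*} [Fintype Ω] [DecidableEq Ω]

/-- The hypotheses. -/
structure Pts (ψ : P →* Equiv.Perm Ω) : Prop where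
  card : Fintype.card Ω = 7
  det : ∀ g : P, (mt P g).det = 1
  two : ∀ x y z w : Ω, x ≠ y → z ≠ w → ∃ g : P, ψ g x = z ∧ ψ g y = w
  tr : ∀ g : P, tr g ^ 2 - tr (g * g) = 2 * (((Finset.univ.filter fun y => ψ g y = y).card : F) - 1)
  nofix : ∀ u : Fin 3 ⊕ Fin 3 → F, (∀ g : P, act (mt P g) u = u) → u = 0
  stab : ∀ x y : Ω, x ≠ y → ((Nat.card {g : P // ψ g x = x ∧ ψ g y = y} : ℕ) : F) ≠ 0

variable {ψ : P →* Equiv.Perm Ω}

namespace Pts

theorem act_inv (h : Pts ψ) (g : P) (u v : Fin 3 ⊕ Fin 3 → F) :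
    bil (act (mt P g) u) v = bil u (act (mt P g⁻¹) v) := by
  have h1 := bil_act (mt P g) u (act (mt P g⁻¹) v)
  rw [h.det, one_mul, ← act_mul, ← map_mul, mul_inv_cancel, map_one, act_one] at h1
  exact h1

theorem trace_act (h : Pts ψ) (h2 : (2 : F) ≠ 0) (g : P) :
    LinearMap.trace F _ (actL (mt P g)) = ((Finset.univ.filter fun y => ψ g y = y).card : F) - 1 := by
  have h1 := trace_actL (mt P g)
  have h3 := h.tr g
  apply mul_left_cancel₀ h2
  rw [h1, ← h3]
  unfold H908.tr
  rw [map_mul]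

variable [Finite P]

/-- the number of elements in the stabiliser of `x` mapping `a` to `b` -/
theorem count (h : Pts ψ) {x a b c d : Ω} (ha : a ≠ x) (hb : b ≠ x) (hc : c ≠ x) (hd : d ≠ x) :
    Nat.card {g : P // ψ g x = x ∧ ψ g a = b} = Nat.card {g : P // ψ g x = x ∧ ψ g c = d} := by
  obtain ⟨u, hu1, hu2⟩ := h.two x c x a hc.symm ha.symm
  obtain ⟨w, hw1, hw2⟩ := h.two x b x d hb.symm hd.symm
  refine Nat.card_congr ⟨fun g => ⟨w * g * u, ?_, ?_⟩, fun g => ⟨w⁻¹ * g * u⁻¹, ?_, ?_⟩, ?_, ?_⟩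
  · rw [map_mul, map_mul, Equiv.Perm.mul_apply, Equiv.Perm.mul_apply, hu1, g.2.1, hw1]
  · rw [map_mul, map_mul, Equiv.Perm.mul_apply, Equiv.Perm.mul_apply, hu2, g.2.2, hw2]
  · rw [map_mul, map_mul, map_inv, map_inv, Equiv.Perm.mul_apply, Equiv.Perm.mul_apply, Equiv.Perm.inv_eq_iff_eq.2 hu1.symm,
      g.2.1, Equiv.Perm.inv_eq_iff_eq.2 hw1.symm]
  · rw [map_mul, map_mul, map_inv, map_inv, Equiv.Perm.mul_apply, Equiv.Perm.mul_apply, Equiv.Perm.inv_eq_iff_eq.2 hu2.symm,
      g.2.2, Equiv.Perm.inv_eq_iff_eq.2 hw2.symm]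
  · intro g
    apply Subtype.ext
    simp only
    group
  · intro g
    apply Subtype.ext
    simp only
    group

/-- the trace of the operator `∑ s ∈ stab x, s g` -/
theorem sum_trace [Fintype P] (h : Pts ψ) (h2 : (2 : F) ≠ 0) {x : Ω} {g : P} (hg : ψ g x ≠ x) :
    ∑ s ∈ Finset.univ.filter (fun s : P => ψ s x = x), LinearMap.trace F _ (actL (mt P (s * g))) ≠ 0 := by
  classical
  set S := Finset.univ.filter (fun s : P => ψ s x = x) with hS
  set z₀ := ψ g x with hz₀
  set m := Nat.card {g : P // ψ g x = x ∧ ψ g z₀ = z₀} with hm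
  -- counting
  have hN : ∀ a b : Ω, a ≠ x → b ≠ x → (S.filter fun s => ψ s a = b).card = m := by
    intro a b ha hb
    rw [hm, ← h.count ha hb hg hg, Nat.card_eq_fintype_card, Fintype.card_subtype, hS, Finset.filter_filter]
  have hN0 : ∀ a b : Ω, (a = x ∧ b ≠ x) ∨ (a ≠ x ∧ b = x) → (S.filter fun s => ψ s a = b).card = 0 := by
    intro a b hab
    rw [Finset.card_eq_zero, Finset.filter_eq_empty_iff]
    intro s hs hsa
    rw [hS, Finset.mem_filter] at hs
    rcases hab with ⟨rfl, hb⟩ | ⟨ha, rfl⟩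
    · exact hb (hsa.symm.trans hs.2)
    · exact ha ((ψ s).injective (hsa.trans hs.2.symm))
  have hcard : S.card = 6 * m := by
    have h1 : S.card = ∑ b : Ω, (S.filter fun s => ψ s z₀ = b).card :=
      Finset.card_eq_sum_card_fiberwise (f := fun s => ψ s z₀) (t := Finset.univ) (by intro _ _; simp)
    rw [h1, ← Finset.sum_erase_add _ _ (Finset.mem_univ x), hN0 z₀ x (Or.inr ⟨hg, rfl⟩), add_zero,
      Finset.sum_congr rfl (fun b hb => hN z₀ b hg (Finset.ne_of_mem_erase hb)), Finset.sum_const, smul_eq_mul,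
      Finset.card_erase_of_mem (Finset.mem_univ x), Finset.card_univ, h.card]
  have hsum : ∑ s ∈ S, (Finset.univ.filter fun y => ψ (s * g) y = y).card = 5 * m := by
    have h1 : ∀ s : P, (Finset.univ.filter fun y => ψ (s * g) y = y).card =
        ∑ y : Ω, if ψ s (ψ g y) = y then 1 else 0 := by
      intro s
      rw [Finset.card_filter]
      refine Finset.sum_congr rfl fun y _ => ?_
      rw [map_mul, Equiv.Perm.mul_apply]
    rw [Finset.sum_congr rfl fun s _ => h1 s, Finset.sum_comm]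
    have h3 : ∀ y : Ω, (∑ s ∈ S, if ψ s (ψ g y) = y then 1 else 0) = (S.filter fun s => ψ s (ψ g y) = y).card := by
      intro y
      rw [Finset.card_filter]
    rw [Finset.sum_congr rfl fun y _ => h3 y]
    -- the point mapped to `x`
    obtain ⟨y₀, hy₀⟩ := (ψ g).surjective x
    have hne : y₀ ≠ x := by
      rintro rfl
      exact hg hy₀
    rw [← Finset.sum_erase_add _ _ (Finset.mem_univ x), hN0 _ x (Or.inr ⟨hg, rfl⟩), add_zero,
      ← Finset.sum_erase_add _ _ (Finset.mem_erase.2 ⟨hne, Finset.mem_univ y₀⟩), hN0 _ y₀ (Or.inl ⟨hy₀, hne⟩), add_zero,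
      Finset.sum_congr rfl (fun y hy => ?_), Finset.sum_const, smul_eq_mul,
      Finset.card_erase_of_mem (Finset.mem_erase.2 ⟨hne, Finset.mem_univ y₀⟩),
      Finset.card_erase_of_mem (Finset.mem_univ x), Finset.card_univ, h.card]
    · rw [Finset.mem_erase, Finset.mem_erase] at hy
      refine hN _ y ?_ hy.2.1
      intro h'
      exact hy.1 ((ψ g).injective (h'.trans hy₀.symm))
  have h4 : ∑ s ∈ S, LinearMap.trace F _ (actL (mt P (s * g))) = ((5 * m : ℕ) : F) - ((6 * m : ℕ) : F) := by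
    rw [Finset.sum_congr rfl fun s _ => h.trace_act h2 (s * g), Finset.sum_sub_distrib, Finset.sum_const, hcard,
      ← Nat.cast_sum, hsum, nsmul_eq_mul, mul_one]
  rw [h4]
  have h5 := h.stab x z₀ hg.symm
  rw [← hm] at h5
  intro h6
  apply h5
  push_cast at h6
  linear_combination -h6

/-- A vector fixed by the stabiliser of a point, not orthogonal to its images. -/
theorem exists_fixed (h : Pts ψ) (h2 : (2 : F) ≠ 0) (x : Ω) (g : P) (hg : ψ g x ≠ x) :
    ∃ v : Fin 3 ⊕ Fin 3 → F, (∀ s : P, ψ s x = x → act (mt P s) v = v) ∧ bil v (act (mt P g) v) ≠ 0 := by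
  classical
  have : Fintype P := Fintype.ofFinite P
  set S := Finset.univ.filter (fun s : P => ψ s x = x) with hS
  have hmem : ∀ s, s ∈ S ↔ ψ s x = x := fun s => by rw [hS, Finset.mem_filter]; simp
  set e : Module.End F (Fin 3 ⊕ Fin 3 → F) := ∑ s ∈ S, actL (mt P s) with he
  have hfix : ∀ s : P, ψ s x = x → ∀ u, act (mt P s) (e u) = e u := by
    intro s hs u
    rw [he, LinearMap.sum_apply, act_sum]
    refine Finset.sum_bij (fun t _ => s * t) ?_ ?_ ?_ ?_
    · intro t ht
      rw [hmem] at ht ⊢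
      rw [map_mul, Equiv.Perm.mul_apply, ht, hs]
    · intro a _ b _ hab
      exact mul_left_cancel hab
    · intro t ht
      refine ⟨s⁻¹ * t, ?_, by group⟩
      rw [hmem] at ht ⊢
      rw [map_mul, Equiv.Perm.mul_apply, ht, map_inv, Equiv.Perm.inv_eq_iff_eq.2 hs.symm]
    · intro t _
      rw [actL_apply, actL_apply, map_mul, act_mul]
  have hadj : ∀ u v, bil (e u) v = bil u (e v) := by
    intro u v
    rw [he, LinearMap.sum_apply, LinearMap.sum_apply, bil_sum_left, bil_sum_right]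
    refine Finset.sum_bij (fun t _ => t⁻¹) ?_ ?_ ?_ ?_
    · intro t ht
      rw [hmem] at ht ⊢
      rw [map_inv, Equiv.Perm.inv_eq_iff_eq.2 ht.symm]
    · intro a _ b _ hab
      exact inv_injective hab
    · intro t ht
      refine ⟨t⁻¹, ?_, by group⟩
      rw [hmem] at ht ⊢
      rw [map_inv, Equiv.Perm.inv_eq_iff_eq.2 ht.symm]
    · intro t _
      rw [actL_apply, actL_apply, h.act_inv]
  -- `e g e ≠ 0`
  have hne : ∃ u, e (act (mt P g) (e u)) ≠ 0 := by
    by_contra hcon
    push Not at hcon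
    have h1 : (e * actL (mt P g)) * (e * actL (mt P g)) = 0 := by
      apply LinearMap.ext
      intro u
      rw [Module.End.mul_apply, Module.End.mul_apply, Module.End.mul_apply, actL_apply, actL_apply, hcon]
      rfl
    have h3 : IsNilpotent (e * actL (mt P g)) := ⟨2, by rw [pow_two, h1]⟩
    have h4 := LinearMap.isNilpotent_trace_of_isNilpotent h3
    have h5 := h4.eq_zero
    apply h.sum_trace h2 hg
    rw [← h5, he, Finset.sum_mul, map_sum]
    refine Finset.sum_congr rfl fun s _ => ?_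
    rw [map_mul, actL_mul]
  obtain ⟨u, hu⟩ := hne
  obtain ⟨w, hw⟩ : ∃ w, bil w (e (act (mt P g) (e u))) ≠ 0 := by
    by_contra hcon
    push Not at hcon
    exact hu (bil_nondeg hcon)
  rw [← hadj] at hw
  set a := e w with ha
  set c := e u with hc
  have hafix : ∀ s : P, ψ s x = x → act (mt P s) a = a := fun s hs => hfix s hs w
  have hcfix : ∀ s : P, ψ s x = x → act (mt P s) c = c := fun s hs => hfix s hs u
  -- symmetry
  have hsym : bil a (act (mt P g) c) = bil c (act (mt P g) a) := by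
    have hgx : ψ g⁻¹ x ≠ x := by
      intro h'
      rw [map_inv, Equiv.Perm.inv_eq_iff_eq] at h'
      exact hg h'.symm
    obtain ⟨s, hs1, hs2⟩ := h.two x (ψ g x) x (ψ g⁻¹ x) hg.symm hgx.symm
    have hs' : ψ (g * s * g) x = x := by
      rw [map_mul, map_mul, Equiv.Perm.mul_apply, Equiv.Perm.mul_apply, hs2, map_inv, ← Equiv.Perm.mul_apply,
        mul_inv_cancel]
      rfl
    have hg' : g⁻¹ = s * g * (g * s * g)⁻¹ := by group
    calc bil a (act (mt P g) c) = bil (act (mt P g) c) a := bil_comm _ _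
      _ = bil c (act (mt P g⁻¹) a) := h.act_inv _ _ _
      _ = bil c (act (mt P s) (act (mt P g) (act (mt P (g * s * g)⁻¹) a))) := by
          rw [← act_mul, ← act_mul, ← map_mul, ← map_mul, ← hg']
      _ = bil c (act (mt P s) (act (mt P g) a)) := by
          rw [hafix _ (by rw [map_inv, Equiv.Perm.inv_eq_iff_eq.2 hs'.symm])]
      _ = bil (act (mt P s⁻¹) c) (act (mt P g) a) := by rw [h.act_inv, inv_inv]
      _ = _ := by rw [hcfix _ (by rw [map_inv, Equiv.Perm.inv_eq_iff_eq.2 hs1.symm])]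
  by_cases haa : bil a (act (mt P g) a) = 0
  · by_cases hcc : bil c (act (mt P g) c) = 0
    · refine ⟨a + c, fun s hs => by rw [act_add, hafix s hs, hcfix s hs], ?_⟩
      rw [act_add, bil_add_left, bil_add_right, bil_add_right, haa, hcc, zero_add, add_zero, ← hsym, ← two_mul]
      exact mul_ne_zero h2 hw
    · exact ⟨c, hcfix, hcc⟩
  · exact ⟨a, hafix, haa⟩

end Pts

/-- An equivariant family of seven vectors. -/
structure Fam (ψ : P →* Equiv.Perm Ω) (v : Ω → Fin 3 ⊕ Fin 3 → F) (b : F) : Prop where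
  eqv : ∀ (g : P) (y : Ω), act (mt P g) (v y) = v (ψ g y)
  b0 : b ≠ 0
  bl : ∀ y z : Ω, y ≠ z → bil (v y) (v z) = b
  pfv : ∀ y, pf (v y) = -3 * b

theorem Pts.exists_fam [Finite P] (h : Pts ψ) (h2 : (2 : F) ≠ 0) :
    ∃ (v : Ω → Fin 3 ⊕ Fin 3 → F) (b : F), Fam ψ v b := by
  classical
  obtain ⟨x, x', hx'⟩ : ∃ x x' : Ω, x ≠ x' := by
    have : 1 < Fintype.card Ω := by rw [h.card]; norm_num
    exact Fintype.one_lt_card_iff.1 this
  obtain ⟨g, hg1, hg2⟩ := h.two x x' x' x hx' hx'.symm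
  have hg : ψ g x ≠ x := by rw [hg1]; exact hx'.symm
  obtain ⟨u, hu, hu0⟩ := h.exists_fixed h2 x g hg
  have htrans : ∀ y : Ω, ∃ g : P, ψ g x = y := by
    intro y
    by_cases hy : y = x
    · exact ⟨1, by rw [map_one, hy]; rfl⟩
    · obtain ⟨g, hg, -⟩ := h.two x y y x (Ne.symm hy) hy
      exact ⟨g, hg⟩
  choose k hk using htrans
  have key : ∀ (t : P) (y : Ω), ψ t x = y → act (mt P t) u = act (mt P (k y)) u := by
    intro t y hty
    have h1 : ψ ((k y)⁻¹ * t) x = x := by
      rw [map_mul, Equiv.Perm.mul_apply, hty, map_inv, Equiv.Perm.inv_eq_iff_eq.2 (hk y).symm]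
    have h3 : act (mt P t) u = act (mt P (k y)) (act (mt P ((k y)⁻¹ * t)) u) := by
      rw [← act_mul, ← map_mul, mul_inv_cancel_left]
    rw [h3, hu _ h1]
  set v : Ω → Fin 3 ⊕ Fin 3 → F := fun y => act (mt P (k y)) u with hv
  have heqv : ∀ (g : P) (y : Ω), act (mt P g) (v y) = v (ψ g y) := by
    intro t y
    rw [hv]
    simp only
    rw [← act_mul, ← map_mul]
    exact key _ _ (by rw [map_mul, Equiv.Perm.mul_apply, hk])
  have hb : ∀ y z : Ω, y ≠ z → bil (v y) (v z) = bil u (act (mt P g) u) := by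
    intro y z hyz
    obtain ⟨t, ht1, ht2⟩ := h.two x (ψ g x) y z hg.symm hyz
    have e1 : v y = act (mt P t) u := (key t y ht1).symm
    have e2 : v z = act (mt P t) (act (mt P g) u) := by
      rw [← act_mul, ← map_mul]
      exact (key _ z (by rw [map_mul, Equiv.Perm.mul_apply, ht2])).symm
    rw [e1, e2, bil_act, h.det, one_mul]
  have hsum : ∑ y, v y = 0 := by
    apply h.nofix
    intro t
    rw [act_sum]
    refine (Finset.sum_congr rfl fun y _ => heqv t y).trans ?_
    exact Equiv.sum_comp (ψ t) v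
  refine ⟨v, bil u (act (mt P g) u), heqv, hu0, hb, ?_⟩
  intro y
  have h1 : bil (∑ z, v z) (v y) = 0 := by rw [hsum, bil_zero_left]
  rw [bil_sum_left, ← Finset.sum_erase_add _ _ (Finset.mem_univ y),
    Finset.sum_congr rfl (fun z hz => hb z y (Finset.ne_of_mem_erase hz)), Finset.sum_const, bil_self,
    Finset.card_erase_of_mem (Finset.mem_univ y), Finset.card_univ, h.card, nsmul_eq_mul] at h1
  push_cast at h1
  apply mul_left_cancel₀ h2
  linear_combination h1

namespace Fam

variable {v : Ω → Fin 3 ⊕ Fin 3 → F} {b : F}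

theorem indep (h : Pts ψ) (h7 : (7 : F) ≠ 0) (hv : Fam ψ v b) (x : Ω) :
    LinearIndependent F (fun y : {y : Ω // y ≠ x} => v y) := by
  rw [Fintype.linearIndependent_iff]
  intro c hc y
  have h0 : ∀ z : Ω, ∑ y : {y : Ω // y ≠ x}, c y * bil (v y) (v z) = 0 := by
    intro z
    have : bil (∑ y : {y : Ω // y ≠ x}, c y • v y) (v z) = 0 := by rw [hc, bil_zero_left]
    rw [bil_sum_left] at this
    rw [← this]
    exact Finset.sum_congr rfl fun y _ => (bil_smul_left _ _ _).symm
  have h1 : ∑ y : {y : Ω // y ≠ x}, c y = 0 := by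
    have := h0 x
    rw [Finset.sum_congr rfl (fun y _ => by rw [hv.bl y x y.2]), ← Finset.sum_mul] at this
    exact (mul_eq_zero.1 this).resolve_right hv.b0
  have h2 := h0 y
  rw [← Finset.sum_erase_add _ _ (Finset.mem_univ y)] at h1 h2
  rw [Finset.sum_congr rfl (fun z hz => by
    rw [hv.bl z y (fun h' => (Finset.ne_of_mem_erase hz) (Subtype.ext h'))]), ← Finset.sum_mul, bil_self, hv.pfv] at h2
  have h3 : b * (7 * c y) = 0 := by linear_combination b * h1 - h2
  exact (mul_eq_zero.1 ((mul_eq_zero.1 h3).resolve_left hv.b0)).resolve_left h7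

theorem card_ne (h : Pts ψ) (x : Ω) : Fintype.card {y : Ω // y ≠ x} = 6 := by
  rw [Fintype.card_subtype_compl, h.card, Fintype.card_subtype_eq]

theorem span (h : Pts ψ) (h7 : (7 : F) ≠ 0) (hv : Fam ψ v b) (x : Ω) :
    Submodule.span F (Set.range (fun y : {y : Ω // y ≠ x} => v y)) = ⊤ :=
  (hv.indep h h7 x).span_eq_top_of_card_eq_finrank' (by rw [card_ne h]; simp)

/-- two matrices acting in the same way on the seven vectors -/
theorem ext_act (h : Pts ψ) (h7 : (7 : F) ≠ 0) (hv : Fam ψ v b) {f : Module.End F (Fin 3 ⊕ Fin 3 → F)}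
    (hf : ∀ y, f (v y) = v y) : f = 1 := by
  obtain ⟨x⟩ : Nonempty Ω := Fintype.card_pos_iff.1 (by rw [h.card]; norm_num)
  apply LinearMap.ext_on (hv.span h h7 x)
  rintro _ ⟨y, rfl⟩
  exact hf y

theorem sum_eq (h : Pts ψ) (hv : Fam ψ v b) : ∑ y, v y = 0 := by
  apply h.nofix
  intro t
  rw [act_sum]
  refine (Finset.sum_congr rfl fun y _ => hv.eqv t y).trans ?_
  exact Equiv.sum_comp (ψ t) v

/-- The vectors fixed by the stabiliser of a point are the multiples of the corresponding vector. -/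
theorem unique (h : Pts ψ) (h7 : (7 : F) ≠ 0) (hv : Fam ψ v b) (x : Ω) {w : Fin 3 ⊕ Fin 3 → F}
    (hw : ∀ s : P, ψ s x = x → act (mt P s) w = w) : ∃ c : F, w = c • v x := by
  have hmem : w ∈ Submodule.span F (Set.range (fun y : {y : Ω // y ≠ x} => v y)) := by
    rw [hv.span h h7 x]; trivial
  obtain ⟨c, hc⟩ := (Submodule.mem_span_range_iff_exists_fun F).1 hmem
  obtain ⟨y₀⟩ : Nonempty {y : Ω // y ≠ x} := Fintype.card_pos_iff.1 (by rw [card_ne h]; norm_num)
  have hconst : ∀ y : {y : Ω // y ≠ x}, c y = c y₀ := by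
    intro y
    obtain ⟨s, hs1, hs2⟩ := h.two x y x y₀ y.2.symm y₀.2.symm
    have h1 := hw s hs1
    rw [← hc, act_sum] at h1
    -- the permutation of the six points
    have hmp : ∀ z : Ω, z ≠ x ↔ ψ s z ≠ x := by
      intro z
      rw [not_iff_not]
      constructor
      · rintro rfl; exact hs1
      · intro h'; exact (ψ s).injective (h'.trans hs1.symm)
    let e : {y : Ω // y ≠ x} ≃ {y : Ω // y ≠ x} := (ψ s).subtypeEquiv hmp
    have he : ∀ z, ((e z : {y : Ω // y ≠ x}) : Ω) = ψ s z := fun z => rfl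
    have h2 : ∑ z : {y : Ω // y ≠ x}, act (mt P s) (c z • v z) = ∑ z : {y : Ω // y ≠ x}, c (e.symm z) • v z := by
      rw [← Equiv.sum_comp e (fun z => c (e.symm z) • v z)]
      refine Finset.sum_congr rfl fun z _ => ?_
      rw [act_smul, hv.eqv, e.symm_apply_apply, he]
    rw [h2, ← sub_eq_zero, ← Finset.sum_sub_distrib] at h1
    have h3 := (Fintype.linearIndependent_iff.1 (hv.indep h h7 x)) (fun z => c (e.symm z) - c z) (by
      rw [← h1]
      exact Finset.sum_congr rfl fun z _ => sub_smul _ _ _) y₀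
    have h4 : e.symm y₀ = y := by
      rw [Equiv.symm_apply_eq]
      exact Subtype.ext hs2.symm
    rw [h4] at h3
    exact sub_eq_zero.1 h3
  refine ⟨- c y₀, ?_⟩
  have h5 := hv.sum_eq h
  rw [← Finset.sum_erase_add _ _ (Finset.mem_univ x)] at h5
  have h6 : ∑ y : {y : Ω // y ≠ x}, v y = ∑ y ∈ Finset.univ.erase x, v y := by
    refine (Finset.sum_subtype (Finset.univ.erase x) ?_ v).symm
    intro y
    simp
  rw [← hc, Finset.sum_congr rfl (fun y _ => by rw [hconst y]), ← Finset.smul_sum, h6,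
    eq_neg_of_add_eq_zero_left h5, smul_neg, neg_smul]

/-- the vectors are pairwise independent -/
theorem inj_of_smul (h : Pts ψ) (h7 : (7 : F) ≠ 0) (hv : Fam ψ v b) {y z : Ω} {c : F} (hyz : v y = c • v z) : y = z := by
  by_contra hne
  obtain ⟨x, hxy, hxz⟩ : ∃ x : Ω, x ≠ y ∧ x ≠ z := by
    by_contra hcon
    push Not at hcon
    have h1 : (Finset.univ : Finset Ω) ⊆ {y, z} := by
      intro x _
      by_cases hx : x = y
      · simp [hx]
      · simp [hcon x hx]
    have h2 := Finset.card_le_card h1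
    rw [Finset.card_univ, h.card] at h2
    have := h2.trans Finset.card_le_two
    omega
  have h1 := hv.indep h h7 x
  have h2 := (Fintype.linearIndependent_iff.1 h1) (fun t => (if (t : Ω) = y then 1 else 0) - (if (t : Ω) = z then c else 0)) (by
    have e1 : ∑ t : {y : Ω // y ≠ x}, ((if (t : Ω) = y then (1 : F) else 0) - (if (t : Ω) = z then c else 0)) • v t =
        ∑ t : {y : Ω // y ≠ x}, (if t = ⟨y, hxy.symm⟩ then v t else 0) -
          ∑ t : {y : Ω // y ≠ x}, (if t = ⟨z, hxz.symm⟩ then c • v t else 0) := by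
      rw [← Finset.sum_sub_distrib]
      refine Finset.sum_congr rfl fun t _ => ?_
      rw [sub_smul, ite_smul, ite_smul, one_smul, zero_smul]
      simp only [Subtype.ext_iff]
    rw [e1, Finset.sum_ite_eq', Finset.sum_ite_eq', if_pos (Finset.mem_univ _), if_pos (Finset.mem_univ _), hyz,
      sub_self]) ⟨y, hxy.symm⟩
  simp only [if_true, if_neg hne, sub_zero] at h2
  exact one_ne_zero h2

end Fam

end Cfsg.Agent.H908.KL
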