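import Cfsg.Agent.H908.TenSeven
import Cfsg.Agent.H915.LD

/-!
# Representations in `Sp₁₀(q)` (helper908, after `TenBase`)

`AT F T` : an absolutely irreducible representation of `T` in dimension ten fixing a non-degenerate alternating form.
-/

set_option autoImplicit false
set_option linter.unusedSectionVars false

namespace Cfsg.Agent.H908.SpTen

open Cfsg Cfsg.Geo Module
open Matrix hiding mul_apply'
open Cfsg.Agent.H637.JW Cfsg.Agent.H917.Om Cfsg.Agent.H908.Ten

universe u v

/-! ### The context -/

/-- A faithful absolutely irreducible representation fixing a non-degenerate alternating form on `F¹⁰`. -/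
structure AT (F : Type u) [Field F] (T : Type v) [Group T] where
  ρ : T →* GL (Fin 10) F
  f : (Fin 10 → F) → (Fin 10 → F) → F
  sym : IsSymplecticForm f
  fix : FixesForm (matrixSet ρ.range) f
  irr : ActsAbsolutelyIrreducibly (matrixSet ρ.range)
  inj : Function.Injective ρ

variable {F : Type u} [Field F] {T : Type v} [Group T]

namespace AT

variable (h : AT F T)

theorem fixf (g : T) (u v : Fin 10 → F) :
    h.f ((h.ρ g : Matrix (Fin 10) (Fin 10) F) *ᵥ u) ((h.ρ g : Matrix (Fin 10) (Fin 10) F) *ᵥ v) = h.f u v :=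
  h.fix _ ⟨h.ρ g, ⟨g, rfl⟩, rfl⟩ u v

/-- Pull back to another group. -/
def congr {T' : Type*} [Group T'] (e : T' ≃* T) : AT F T' where
  ρ := h.ρ.comp e.toMonoidHom
  f := h.f
  sym := h.sym
  fix := by
    have h1 : (h.ρ.comp e.toMonoidHom).range = h.ρ.range := by
      ext x
      constructor
      · rintro ⟨y, rfl⟩
        exact ⟨e y, rfl⟩
      · rintro ⟨y, rfl⟩
        exact ⟨e.symm y, by simp⟩
    rw [h1]
    exact h.fix
  irr := by
    have h1 : (h.ρ.comp e.toMonoidHom).range = h.ρ.range := by
      ext x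
      constructor
      · rintro ⟨y, rfl⟩
        exact ⟨e y, rfl⟩
      · rintro ⟨y, rfl⟩
        exact ⟨e.symm y, by simp⟩
    rw [h1]
    exact h.irr
  inj := h.inj.comp e.injective

/-- The representation over the algebraic closure. -/
noncomputable def σ : T →* Module.End (AlgebraicClosure F) (Fin 10 → AlgebraicClosure F) :=
  ext h.ρ (AlgebraicClosure F)

theorem σ_apply (g : T) (v : Fin 10 → AlgebraicClosure F) :
    h.σ g v = ((h.ρ g : Matrix (Fin 10) (Fin 10) F).map (algebraMap F (AlgebraicClosure F))) *ᵥ v := rfl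

/-! ### The bilinear form over the algebraic closure -/

/-- The form as a bilinear map. -/
noncomputable def fb : LinearMap.BilinForm F (Fin 10 → F) :=
  LinearMap.mk₂ F h.f h.sym.bilinear.add_left h.sym.bilinear.smul_left h.sym.bilinear.add_right
    h.sym.bilinear.smul_right

/-- The Gram matrix. -/
noncomputable def gram : Matrix (Fin 10) (Fin 10) F :=
  Matrix.of fun i j => h.f (Pi.single i 1) (Pi.single j 1)

theorem f_eq (u v : Fin 10 → F) : h.f u v = u ⬝ᵥ (h.gram *ᵥ v) := by
  have e : ∀ u v, h.f u v = h.fb u v := fun u v => rfl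
  rw [e, ← LinearMap.sum_repr_mul_repr_mul (Pi.basisFun F (Fin 10)) (Pi.basisFun F (Fin 10)) (B := h.fb)]
  rw [Finsupp.sum_fintype _ _ (by intro i; simp)]
  simp only [dotProduct, mulVec]
  refine Finset.sum_congr rfl fun i _ => ?_
  rw [Finsupp.sum_fintype _ _ (by intro j; simp), Finset.mul_sum]
  refine Finset.sum_congr rfl fun j _ => ?_
  simp only [Pi.basisFun_repr, Pi.basisFun_apply, smul_eq_mul]
  change u i * (v j * h.gram i j) = u i * (h.gram i j * v j)
  ring

theorem gram_symm : h.gramᵀ = -h.gram := by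
  ext i j
  exact h.sym.skew _ _

theorem gram_diag (i : Fin 10) : h.gram i i = 0 := h.sym.alternating _

theorem gram_det : h.gram.det ≠ 0 := by
  intro h0
  obtain ⟨v, hv, hv2⟩ := Matrix.exists_mulVec_eq_zero_iff.2 h0
  obtain ⟨⟨x, hx⟩, -⟩ := h.sym.nondegenerate v hv
  apply hx
  first
    | rw [f_eq, hv2, dotProduct_zero]
    | rw [h.sym.skew, f_eq, hv2, dotProduct_zero, neg_zero]

theorem gram_inv (g : T) : (h.ρ g : Matrix (Fin 10) (Fin 10) F)ᵀ * h.gram * (h.ρ g : Matrix (Fin 10) (Fin 10) F) = h.gram := by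
  have key : ∀ u v, u ⬝ᵥ (((h.ρ g : Matrix (Fin 10) (Fin 10) F)ᵀ * h.gram * (h.ρ g : Matrix (Fin 10) (Fin 10) F)) *ᵥ v) =
      u ⬝ᵥ (h.gram *ᵥ v) := by
    intro u v
    rw [← f_eq, ← Matrix.mulVec_mulVec, ← Matrix.mulVec_mulVec, Matrix.dotProduct_mulVec, Matrix.vecMul_transpose,
      ← f_eq, h.fixf]
  ext i j
  have := key (Pi.single i 1) (Pi.single j 1)
  simpa using this

/-- The bilinear form over the algebraic closure. -/
noncomputable def B (u v : Fin 10 → AlgebraicClosure F) : AlgebraicClosure F :=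
  u ⬝ᵥ (h.gram.map (algebraMap F (AlgebraicClosure F)) *ᵥ v)

theorem B_add_left (u u' v : Fin 10 → AlgebraicClosure F) : h.B (u + u') v = h.B u v + h.B u' v := by
  rw [B, B, B, add_dotProduct]

theorem B_smul_left (c : AlgebraicClosure F) (u v : Fin 10 → AlgebraicClosure F) : h.B (c • u) v = c * h.B u v := by
  rw [B, B, smul_dotProduct, smul_eq_mul]

theorem B_comm (u v : Fin 10 → AlgebraicClosure F) : h.B u v = -h.B v u := by
  rw [B, B, Matrix.dotProduct_mulVec, dotProduct_comm, ← Matrix.mulVec_transpose, ← Matrix.transpose_map, h.gram_symm,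
    Matrix.map_neg _ (fun a => map_neg _ a), Matrix.neg_mulVec, dotProduct_neg]

theorem B_add_right (u v v' : Fin 10 → AlgebraicClosure F) : h.B u (v + v') = h.B u v + h.B u v' := by
  rw [B_comm, B_add_left, h.B_comm v, h.B_comm v']
  ring

theorem B_smul_right (c : AlgebraicClosure F) (u v : Fin 10 → AlgebraicClosure F) : h.B u (c • v) = c * h.B u v := by
  rw [B_comm, B_smul_left, h.B_comm v]
  ring

theorem B_zero (u : Fin 10 → AlgebraicClosure F) : h.B u 0 = 0 := by
  rw [show (0 : Fin 10 → AlgebraicClosure F) = (0 : AlgebraicClosure F) • 0 by simp, B_smul_right, zero_mul]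

theorem B_zero_left (u : Fin 10 → AlgebraicClosure F) : h.B 0 u = 0 := by
  rw [B_comm, B_zero, neg_zero]

theorem B_self (u : Fin 10 → AlgebraicClosure F) : h.B u u = 0 := by
  -- expand in the standard basis
  have h1 : ∀ i j, algebraMap F (AlgebraicClosure F) (h.gram i j) + algebraMap F (AlgebraicClosure F) (h.gram j i) = 0 := by
    intro i j
    have h2 := congrFun (congrFun h.gram_symm i) j
    rw [Matrix.transpose_apply, Matrix.neg_apply] at h2
    rw [h2, map_neg, add_neg_cancel]
  have h3 : ∀ (s : Finset (Fin 10)), ∑ i ∈ s, ∑ j ∈ s, u i * (algebraMap F (AlgebraicClosure F) (h.gram i j) * u j) = 0 := by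
    intro s
    induction s using Finset.induction_on with
    | empty => simp
    | insert a s ha ih =>
      rw [Finset.sum_insert ha]
      simp only [Finset.sum_insert ha, Finset.sum_add_distrib]
      rw [ih, h.gram_diag, map_zero, zero_mul, mul_zero, zero_add, add_zero, ← Finset.sum_add_distrib]
      refine Finset.sum_eq_zero fun i _ => ?_
      linear_combination (u a * u i) * h1 a i
  have h4 := h3 Finset.univ
  rw [B]
  simp only [dotProduct, mulVec, Matrix.map_apply, Finset.mul_sum]
  exact h4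

theorem B_inv (g : T) (u v : Fin 10 → AlgebraicClosure F) : h.B (h.σ g u) (h.σ g v) = h.B u v := by
  have h1 := congrArg (fun M : Matrix (Fin 10) (Fin 10) F => M.map (algebraMap F (AlgebraicClosure F))) (h.gram_inv g)
  simp only [Matrix.map_mul] at h1
  have h2 : h.B u v = u ⬝ᵥ (((h.ρ g : Matrix (Fin 10) (Fin 10) F)ᵀ.map (algebraMap F (AlgebraicClosure F)) *
      h.gram.map (algebraMap F (AlgebraicClosure F)) *
      (h.ρ g : Matrix (Fin 10) (Fin 10) F).map (algebraMap F (AlgebraicClosure F))) *ᵥ v) := by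
    rw [h1]; rfl
  rw [h2, ← Matrix.mulVec_mulVec, ← Matrix.mulVec_mulVec, Matrix.dotProduct_mulVec u,
    Matrix.transpose_map, Matrix.vecMul_transpose]
  rfl

theorem B_nondeg {v : Fin 10 → AlgebraicClosure F} (hv : ∀ u, h.B u v = 0) : v = 0 := by
  by_contra h0
  have h1 : (h.gram.map (algebraMap F (AlgebraicClosure F))) *ᵥ v = 0 := by
    funext i
    have := hv (Pi.single i 1)
    rw [B, single_one_dotProduct] at this
    exact this
  have h2 := Matrix.exists_mulVec_eq_zero_iff.1 ⟨v, h0, h1⟩
  have h3 := RingHom.map_det (algebraMap F (AlgebraicClosure F)) h.gram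
  rw [RingHom.mapMatrix_apply, h2] at h3
  exact h.gram_det ((map_eq_zero _).1 h3)

/-! ### Irreducibility over the algebraic closure -/

theorem map_mem (W : Submodule (AlgebraicClosure F) (Fin 10 → AlgebraicClosure F))
    (hW : ∀ g, ∀ v ∈ W, h.σ g v ∈ W) (M : Matrix (Fin 10) (Fin 10) F) {v : Fin 10 → AlgebraicClosure F} (hv : v ∈ W) :
    (M.map (algebraMap F (AlgebraicClosure F))) *ᵥ v ∈ W := by
  have h1 : M ∈ Submodule.span F (matrixSet h.ρ.range) := by
    rw [H920.span_eq_top h.irr]; trivial
  induction h1 using Submodule.span_induction with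
  | mem x hx =>
    obtain ⟨y, ⟨g, rfl⟩, rfl⟩ := hx
    exact hW g v hv
  | zero =>
    rw [Matrix.map_zero _ (map_zero _), Matrix.zero_mulVec]
    exact W.zero_mem
  | add x y _ _ hx hy =>
    rw [Matrix.map_add _ (fun a b => map_add _ a b), Matrix.add_mulVec]
    exact W.add_mem hx hy
  | smul c x _ hx =>
    have : (c • x).map (algebraMap F (AlgebraicClosure F)) =
        algebraMap F (AlgebraicClosure F) c • x.map (algebraMap F (AlgebraicClosure F)) := by
      ext i j
      simp
    rw [this, Matrix.smul_mulVec]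
    exact W.smul_mem _ hx

/-- **Irreducibility over the algebraic closure.** -/
theorem eq_top_of_inv (W : Submodule (AlgebraicClosure F) (Fin 10 → AlgebraicClosure F))
    (hW : ∀ g, ∀ v ∈ W, h.σ g v ∈ W) {w : Fin 10 → AlgebraicClosure F} (hw : w ∈ W) (hw0 : w ≠ 0) : W = ⊤ := by
  obtain ⟨j, hj⟩ : ∃ j, w j ≠ 0 := by
    by_contra hno
    push Not at hno
    exact hw0 (funext hno)
  have h1 : ∀ i, (Pi.single i 1 : Fin 10 → AlgebraicClosure F) ∈ W := by
    intro i
    have h2 := h.map_mem W hW (Matrix.single i j 1) hw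
    have h3 : ((Matrix.single i j (1 : F)).map (algebraMap F (AlgebraicClosure F))) *ᵥ w = w j • Pi.single i 1 := by
      funext k
      simp only [mulVec, dotProduct, Matrix.map_apply, Matrix.single_apply]
      by_cases hk : i = k
      · subst hk
        simp
      · simp [hk, Ne.symm hk]
    rw [h3] at h2
    have h4 := W.smul_mem (w j)⁻¹ h2
    rwa [smul_smul, inv_mul_cancel₀ hj, one_smul] at h4
  rw [eq_top_iff]
  intro v _
  rw [show v = ∑ i, v i • (Pi.single i 1 : Fin 10 → AlgebraicClosure F) by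
    funext k; simp [Finset.sum_apply, Pi.single_apply]]
  exact W.sum_mem fun i _ => W.smul_mem _ (h1 i)

/-- no fixed vectors -/
theorem eq_zero_of_fixed {v : Fin 10 → AlgebraicClosure F} (hv : ∀ g, h.σ g v = v) : v = 0 := by
  by_contra h0
  have h1 := h.eq_top_of_inv (Submodule.span (AlgebraicClosure F) {v}) (by
    intro g w hw
    obtain ⟨c, rfl⟩ := Submodule.mem_span_singleton.1 hw
    rw [map_smul, hv g]
    exact hw) (Submodule.mem_span_singleton_self v) h0
  have h2 := finrank_span_singleton (K := AlgebraicClosure F) h0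
  rw [h1, finrank_top, Module.finrank_fin_fun] at h2
  omega

/-- the span of an orbit is everything -/
theorem span_orbit {v : Fin 10 → AlgebraicClosure F} (h0 : v ≠ 0) :
    Submodule.span (AlgebraicClosure F) (Set.range fun g => h.σ g v) = ⊤ := by
  refine h.eq_top_of_inv _ ?_ (Submodule.subset_span ⟨1, by simp⟩) h0
  intro g w hw
  induction hw using Submodule.span_induction with
  | mem x hx =>
    obtain ⟨y, rfl⟩ := hx
    refine Submodule.subset_span ⟨g * y, ?_⟩
    exact mul_apply' g y v
  | zero => rw [map_zero]; exact Submodule.zero_mem _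
  | add x y _ _ hx hy => rw [map_add]; exact Submodule.add_mem _ hx hy
  | smul c x _ hx => rw [map_smul]; exact Submodule.smul_mem _ _ hx

theorem σ_injective : Function.Injective h.σ := by
  intro a b hab
  apply h.inj
  apply Units.ext
  have h1 : ((h.ρ a : Matrix (Fin 10) (Fin 10) F).map (algebraMap F (AlgebraicClosure F))) =
      ((h.ρ b : Matrix (Fin 10) (Fin 10) F).map (algebraMap F (AlgebraicClosure F))) := by
    ext i j
    have h2 := congrFun (LinearMap.congr_fun hab (Pi.single j 1)) i
    rw [σ_apply, σ_apply] at h2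
    simpa using h2
  ext i j
  have h2 := congrFun (congrFun h1 i) j
  simpa using h2

/-! ### Weights -/

section weights

variable {κ : Type*} [Fintype κ] {N : ℕ} [NeZero N] (hN : (N : AlgebraicClosure F) ≠ 0) {ζ : AlgebraicClosure F}
  (hζ : IsPrimitiveRoot ζ N) {x : κ → T} (hc : ∀ j k, x j * x k = x k * x j) (hx : ∀ k, x k ^ N = 1)

theorem B_eq_zero {c d : κ → ZMod N} (hζ : IsPrimitiveRoot ζ N) {x : κ → T} (hcd : c + d ≠ 0)
    {u v : Fin 10 → AlgebraicClosure F} (hu : u ∈ W N ζ (fun k => h.σ (x k)) c)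
    (hv : v ∈ W N ζ (fun k => h.σ (x k)) d) : h.B u v = 0 := by
  obtain ⟨k, hk⟩ : ∃ k, (c + d) k ≠ 0 := by
    by_contra hno
    push Not at hno
    exact hcd (funext hno)
  have h1 := mem_W.1 hu k
  have h2 := mem_W.1 hv k
  have h3 := h.B_inv (x k) u v
  rw [h1, h2, B_smul_left, B_smul_right, ← mul_assoc, ← pow_val_add hζ.pow_eq_one] at h3
  have h4 : ζ ^ (c k + d k).val ≠ 1 := by
    intro h5
    apply hk
    have h6 := hζ.pow_inj (ZMod.val_lt (c k + d k)) (NeZero.pos N) (by rw [h5, pow_zero])
    exact (ZMod.val_eq_zero _).1 h6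
  have h5 : (ζ ^ (c k + d k).val - 1) * h.B u v = 0 := by linear_combination h3
  exact (mul_eq_zero.1 h5).resolve_left (sub_ne_zero.2 h4)

include hN hζ hc hx in
theorem finrank_W_neg_le (c : κ → ZMod N) :
    finrank (AlgebraicClosure F) (W N ζ (fun k => h.σ (x k)) c) ≤
      finrank (AlgebraicClosure F) (W N ζ (fun k => h.σ (x k)) (-c)) := by
  classical
  have hcomm : ∀ j k, h.σ (x j) * h.σ (x k) = h.σ (x k) * h.σ (x j) := fun j k => by
    rw [← map_mul, ← map_mul, hc]
  have hpow : ∀ k, h.σ (x k) ^ N = 1 := fun k => by rw [← map_pow, hx, map_one]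
  have htop := iSup_W hN hζ hcomm hpow
  let f : W N ζ (fun k => h.σ (x k)) c →ₗ[AlgebraicClosure F] Module.Dual (AlgebraicClosure F) (W N ζ (fun k => h.σ (x k)) (-c)) :=
    { toFun := fun u =>
        { toFun := fun v => h.B u.1 v.1
          map_add' := fun v w => h.B_add_right _ _ _
          map_smul' := fun a v => h.B_smul_right _ _ _ }
      map_add' := fun u v => by
        ext w
        exact h.B_add_left _ _ _
      map_smul' := fun a v => by
        ext w
        exact h.B_smul_left _ _ _ }
  have hf : Function.Injective f := by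
    rw [← LinearMap.ker_eq_bot, LinearMap.ker_eq_bot']
    intro u hu
    apply Subtype.ext
    apply h.B_nondeg
    intro w
    have hw : w ∈ (⨆ d, W N ζ (fun k => h.σ (x k)) d) := by rw [htop]; trivial
    induction hw using Submodule.iSup_induction' with
    | mem d w hw =>
      by_cases hd : d = -c
      · subst hd
        rw [h.B_comm, neg_eq_zero]
        exact LinearMap.congr_fun hu ⟨w, hw⟩
      · refine h.B_eq_zero hζ ?_ hw u.2
        intro h0
        exact hd (eq_neg_of_add_eq_zero_left h0)
    | zero => exact h.B_zero_left _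
    | add a b _ _ ha hb => rw [B_add_left, ha, hb, add_zero]
  have h1 := LinearMap.finrank_le_finrank_of_injective hf
  rwa [Subspace.dual_finrank_eq] at h1

include hN hζ hc hx in
/-- **Self-duality of weights.** -/
theorem finrank_W_neg (c : κ → ZMod N) :
    finrank (AlgebraicClosure F) (W N ζ (fun k => h.σ (x k)) (-c)) =
      finrank (AlgebraicClosure F) (W N ζ (fun k => h.σ (x k)) c) := by
  refine le_antisymm ?_ (h.finrank_W_neg_le hN hζ hc hx c)
  have := h.finrank_W_neg_le hN hζ hc hx (-c)
  rwa [neg_neg] at this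

end weights

/-- The invariant form as a bilinear form. -/
noncomputable def Bf : LinearMap.BilinForm (AlgebraicClosure F) (Fin 10 → AlgebraicClosure F) :=
  LinearMap.mk₂ (AlgebraicClosure F) h.B h.B_add_left h.B_smul_left h.B_add_right h.B_smul_right

theorem Bf_apply (u v : Fin 10 → AlgebraicClosure F) : h.Bf u v = h.B u v := rfl

theorem Bf_alt : h.Bf.IsAlt := fun u => h.B_self u

theorem Bf_nondeg : h.Bf.Nondegenerate := by
  refine ⟨fun v hv => ?_, fun v hv => ?_⟩
  · exact h.B_nondeg fun u => by rw [h.B_comm, neg_eq_zero]; exact hv u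
  · exact h.B_nondeg hv

theorem finrank_orth (U : Submodule (AlgebraicClosure F) (Fin 10 → AlgebraicClosure F)) :
    finrank (AlgebraicClosure F) (h.Bf.orthogonal U) + finrank (AlgebraicClosure F) U = 10 := by
  have h1 := LinearMap.BilinForm.finrank_orthogonal h.Bf_nondeg U
  have h2 := Submodule.finrank_le U
  rw [Module.finrank_fin_fun] at h1 h2
  omega

/-- the range of `g - 1` -/
noncomputable def R (g : T) : Submodule (AlgebraicClosure F) (Fin 10 → AlgebraicClosure F) :=
  LinearMap.range (h.σ g - 1)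

theorem finrank_R (g : T) : finrank (AlgebraicClosure F) (h.R g) + finrank (AlgebraicClosure F) (Fix h.σ g) = 10 := by
  have h1 := LinearMap.finrank_range_add_finrank_ker (h.σ g - 1)
  rw [Module.finrank_fin_fun] at h1
  have h2 : Fix h.σ g = LinearMap.ker (h.σ g - 1) := by
    ext v
    rw [mem_Fix, LinearMap.mem_ker, LinearMap.sub_apply, Module.End.one_apply, sub_eq_zero]
  rw [h2]
  exact h1

/-- a vector orthogonal to `(g - 1) V` is fixed by `g` -/
theorem fixed_of_orth {g : T} {v : Fin 10 → AlgebraicClosure F} (hv : ∀ u, h.B (h.σ g u - u) v = 0) : h.σ g v = v := by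
  have h1 : h.σ g⁻¹ v = v := by
    rw [← sub_eq_zero]
    apply h.B_nondeg
    intro u
    have h2 := hv u
    rw [sub_eq_add_neg, h.B_add_left, ← neg_one_smul (AlgebraicClosure F) u, h.B_smul_left] at h2
    have h3 := h.B_inv g⁻¹ (h.σ g u) v
    rw [← mul_apply', inv_mul_cancel, map_one, Module.End.one_apply] at h3
    rw [sub_eq_add_neg, h.B_add_right, ← neg_one_smul (AlgebraicClosure F) v, h.B_smul_right, h3]
    linear_combination h2
  have h2 := congrArg (h.σ g) h1
  rw [← mul_apply', mul_inv_cancel, map_one, Module.End.one_apply] at h2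
  exact h2.symm

/-- **Scott's lemma.** -/
theorem scott {x y : T} (hxy : ∀ v, h.σ x v = v → h.σ y v = v → v = 0) :
    finrank (AlgebraicClosure F) (Fix h.σ x) + finrank (AlgebraicClosure F) (Fix h.σ y) +
      finrank (AlgebraicClosure F) (Fix h.σ (x * y)) ≤ 10 := by
  have hx := h.finrank_R x
  have hy := h.finrank_R y
  have hz := h.finrank_R (x * y)
  -- `R x ⊔ R y = ⊤`
  have htop : h.R x ⊔ h.R y = ⊤ := by
    have h1 := h.finrank_orth (h.R x ⊔ h.R y)
    have h2 : h.Bf.orthogonal (h.R x ⊔ h.R y) = ⊥ := by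
      rw [eq_bot_iff]
      intro v hv
      rw [LinearMap.BilinForm.mem_orthogonal_iff] at hv
      rw [Submodule.mem_bot]
      refine hxy v (h.fixed_of_orth fun u => ?_) (h.fixed_of_orth fun u => ?_)
      · exact hv _ (Submodule.mem_sup_left ⟨u, rfl⟩)
      · exact hv _ (Submodule.mem_sup_right ⟨u, rfl⟩)
    rw [h2, finrank_bot, zero_add] at h1
    exact Submodule.eq_top_of_finrank_eq (by rw [h1, Module.finrank_fin_fun])
  let δ : (h.R x × h.R y) × h.R (x * y) →ₗ[AlgebraicClosure F] (Fin 10 → AlgebraicClosure F) :=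
    ((h.R x).subtype.coprod (h.R y).subtype).coprod (h.R (x * y)).subtype
  have hδ : LinearMap.range δ = ⊤ := by
    rw [eq_top_iff, ← htop]
    intro v hv
    obtain ⟨a, ha, b, hb, rfl⟩ := Submodule.mem_sup.1 hv
    exact ⟨((⟨a, ha⟩, ⟨b, hb⟩), 0), by simp [δ]⟩
  let β : (Fin 10 → AlgebraicClosure F) →ₗ[AlgebraicClosure F] LinearMap.ker δ :=
    { toFun := fun v => ⟨((⟨h.σ x (h.σ y v) - h.σ y v, ⟨h.σ y v, rfl⟩⟩, ⟨h.σ y v - v, ⟨v, rfl⟩⟩),
        ⟨-(h.σ (x * y) v - v), neg_mem ⟨v, rfl⟩⟩), by
          rw [LinearMap.mem_ker]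
          simp only [δ, LinearMap.coprod_apply, Submodule.subtype_apply, mul_apply']
          abel⟩
      map_add' := fun u v => by
        apply Subtype.ext
        refine Prod.ext (Prod.ext (Subtype.ext ?_) (Subtype.ext ?_)) (Subtype.ext ?_) <;>
          simp only [map_add, Prod.fst_add, Prod.snd_add, Submodule.coe_add] <;> abel
      map_smul' := fun c v => by
        apply Subtype.ext
        refine Prod.ext (Prod.ext (Subtype.ext ?_) (Subtype.ext ?_)) (Subtype.ext ?_) <;>
          simp only [map_smul, Prod.smul_fst, Prod.smul_snd, Submodule.coe_smul, RingHom.id_apply, smul_sub, smul_neg] }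
  have hβ : Function.Injective β := by
    refine (injective_iff_map_eq_zero β).2 fun v hv => ?_
    have h1 := congrArg Subtype.val hv
    have h2 : h.σ y v - v = 0 := congrArg (fun z => ((z.1.2 : h.R y) : Fin 10 → AlgebraicClosure F)) h1
    have h3 : h.σ x (h.σ y v) - h.σ y v = 0 := congrArg (fun z => ((z.1.1 : h.R x) : Fin 10 → AlgebraicClosure F)) h1
    rw [sub_eq_zero] at h2
    rw [h2, sub_eq_zero] at h3
    exact hxy v h3 h2
  have h1 := LinearMap.finrank_le_finrank_of_injective hβ
  have h2 := LinearMap.finrank_range_add_finrank_ker δ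
  rw [hδ, finrank_top, Module.finrank_fin_fun, Module.finrank_prod, Module.finrank_prod] at h2
  rw [Module.finrank_fin_fun] at h1
  omega


end AT

end Cfsg.Agent.H908.SpTen
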