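import Cfsg.Agent.H908.SpTenBase
import Cfsg.Agent.H908.TenQuat

/-!
# Representations in `Sp₁₀(q)`: dimensions of fixed spaces (helper908, after `TenDim`)
-/

set_option autoImplicit false
set_option linter.unusedSectionVars false

namespace Cfsg.Agent.H908.SpTen

open Cfsg Cfsg.Geo Module
open Matrix hiding mul_apply'
open Cfsg.Agent.H637.JW Cfsg.Agent.H917.Om Cfsg.Agent.H908.Ten

universe u v

namespace AT

variable {F : Type u} [Field F] {T : Type v} [Group T] (h : AT F T)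

/-- the dimension of the fixed space -/
noncomputable def d (g : T) : ℕ := finrank (AlgebraicClosure F) (Fix h.σ g)

theorem d_conj {g g' : T} (hc : IsConj g g') : h.d g = h.d g' := finrank_Fix_of_isConj hc

/-- **The joint fixed space of a commuting family of order prime to the characteristic is even-dimensional.** -/
theorem even_W {κ : Type*} [Fintype κ] {N : ℕ} [NeZero N] (hN : (N : AlgebraicClosure F) ≠ 0) {x : κ → T}
    (hc : ∀ j k, x j * x k = x k * x j) (hx : ∀ k, x k ^ N = 1) :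
    Even (finrank (AlgebraicClosure F) (⨅ k, Fix h.σ (x k) : Submodule _ _)) := by
  classical
  obtain ⟨ζ, hζ⟩ := exists_root (K := AlgebraicClosure F) (N := N) hN
  have hcomm : ∀ j k, h.σ (x j) * h.σ (x k) = h.σ (x k) * h.σ (x j) := fun j k => by
    rw [← map_mul, ← map_mul, hc]
  have hpow : ∀ k, h.σ (x k) ^ N = 1 := fun k => by rw [← map_pow, hx, map_one]
  have htop := iSup_W hN hζ hcomm hpow
  have hW : (⨅ k, Fix h.σ (x k) : Submodule _ _) = W N ζ (fun k => h.σ (x k)) 0 := by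
    ext v
    rw [Submodule.mem_iInf, mem_W]
    refine forall_congr' fun k => ?_
    rw [mem_Fix, Pi.zero_apply, ZMod.val_zero, pow_zero, one_smul]
  rw [hW]
  let C : LinearMap.BilinForm (AlgebraicClosure F) (W N ζ (fun k => h.σ (x k)) 0) :=
    LinearMap.mk₂ (AlgebraicClosure F) (fun u v => h.B u.1 v.1)
      (fun u u' v => h.B_add_left _ _ _) (fun c u v => h.B_smul_left _ _ _)
      (fun u v v' => h.B_add_right _ _ _) (fun c u v => h.B_smul_right _ _ _)
  refine even_of_alt C (fun v => h.B_self _) fun u hu => ?_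
  apply Subtype.ext
  apply h.B_nondeg
  intro w
  rw [h.B_comm, neg_eq_zero]
  have hw : w ∈ (⨆ d, W N ζ (fun k => h.σ (x k)) d) := by rw [htop]; trivial
  induction hw using Submodule.iSup_induction' with
  | mem d w hw =>
    by_cases hd : d = 0
    · subst hd
      exact hu ⟨w, hw⟩
    · refine h.B_eq_zero hζ ?_ u.2 hw
      rw [zero_add]
      exact hd
  | zero => exact h.B_zero _
  | add a b _ _ ha hb => rw [B_add_right, ha, hb, add_zero]

theorem d_even {N : ℕ} [NeZero N] (hN : (N : AlgebraicClosure F) ≠ 0) {g : T} (hg : g ^ N = 1) : Even (h.d g) := by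
  have h1 := h.even_W (κ := Unit) hN (x := fun _ => g) (fun _ _ => rfl) (fun _ => hg)
  rwa [iInf_const] at h1

theorem even_two {N : ℕ} [NeZero N] (hN : (N : AlgebraicClosure F) ≠ 0) {g k : T} (hg : g ^ N = 1) (hk : k ^ N = 1)
    (hgk : g * k = k * g) : Even (finrank (AlgebraicClosure F) (Fix h.σ g ⊓ Fix h.σ k : Submodule _ _)) := by
  have h1 := h.even_W (κ := Bool) hN (x := fun b => if b then g else k) (by
    intro a b
    cases a <;> cases b <;> simp [hgk]) (by
    intro a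
    cases a <;> simp [hg, hk])
  rw [iInf_bool_eq] at h1
  exact h1

theorem d_le (g : T) : h.d g ≤ 10 := by
  have := Submodule.finrank_le (Fix h.σ g)
  rwa [Module.finrank_fin_fun] at this

theorem d_ne {g : T} (hg : g ≠ 1) : h.d g ≠ 10 := by
  intro h10
  apply hg
  apply h.σ_injective
  have h1 : Fix h.σ g = ⊤ := Submodule.eq_top_of_finrank_eq (by rw [Module.finrank_fin_fun]; exact h10)
  refine LinearMap.ext fun v => ?_
  have h2 : v ∈ Fix h.σ g := by rw [h1]; trivial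
  rw [map_one, Module.End.one_apply]
  exact mem_Fix.1 h2

theorem sum_eig {N : ℕ} [NeZero N] (hN : (N : AlgebraicClosure F) ≠ 0) {ζ : AlgebraicClosure F}
    (hζ : IsPrimitiveRoot ζ N) {x : T} (hx : x ^ N = 1) :
    ∑ i : ZMod N, finrank (AlgebraicClosure F) ((h.σ x).eigenspace (ζ ^ i.val)) = 10 := by
  have h1 := sum_inf_eigen hN hζ (A := h.σ x) (by rw [← map_pow, hx, map_one]) (U := ⊤) (fun v _ => trivial)
  rw [finrank_top, Module.finrank_fin_fun] at h1
  refine Eq.trans (Finset.sum_congr rfl fun i _ => ?_) h1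
  have h2 : (⊤ ⊓ (h.σ x).eigenspace (ζ ^ i.val) : Submodule (AlgebraicClosure F) _) = (h.σ x).eigenspace (ζ ^ i.val) :=
    top_inf_eq _
  rw [h2]

theorem eig_neg {N : ℕ} [NeZero N] (hN : (N : AlgebraicClosure F) ≠ 0) {ζ : AlgebraicClosure F}
    (hζ : IsPrimitiveRoot ζ N) {x : T} (hx : x ^ N = 1) (i : ZMod N) :
    finrank (AlgebraicClosure F) ((h.σ x).eigenspace (ζ ^ (-i).val)) =
      finrank (AlgebraicClosure F) ((h.σ x).eigenspace (ζ ^ i.val)) := by
  have h1 := h.finrank_W_neg (κ := Unit) hN hζ (x := fun _ => x) (fun _ _ => rfl) (fun _ => hx) (fun _ => i)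
  have h2 : ∀ j : ZMod N, W N ζ (fun _ : Unit => h.σ x) (fun _ => j) = (h.σ x).eigenspace (ζ ^ j.val) := fun j => iInf_const
  have h3 : (-fun _ : Unit => i) = fun _ => -i := rfl
  rw [h3, h2, h2] at h1
  exact h1

theorem eig_zero {ζ : AlgebraicClosure F} (N : ℕ) [NeZero N] (x : T) :
    finrank (AlgebraicClosure F) ((h.σ x).eigenspace (ζ ^ (0 : ZMod N).val)) = h.d x := by
  rw [ZMod.val_zero, pow_zero]
  rfl

/-- **Elements of order five.** -/
theorem dim5 (h5 : (5 : AlgebraicClosure F) ≠ 0) {x d : T} (hx : x ^ 5 = 1) (hx1 : x ≠ 1) (hd : d⁻¹ * x * d = x ^ 2) :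
    h.d x = 2 ∨ h.d x = 6 := by
  have h5' : ((5 : ℕ) : AlgebraicClosure F) ≠ 0 := by exact_mod_cast h5
  obtain ⟨ζ, hζ⟩ := exists_root (K := AlgebraicClosure F) (N := 5) h5'
  have hsum := h.sum_eig h5' hζ hx
  have hconj := fun i : ZMod 5 => eig_conj (σ := h.σ) hζ hd i
  have h0 := h.eig_zero (ζ := ζ) 5 x
  set D : ZMod 5 → ℕ := fun i => finrank (AlgebraicClosure F) ((h.σ x).eigenspace (ζ ^ i.val)) with hD
  have e1 : D 1 ≤ D 2 := hconj 1
  have e2 : D 2 ≤ D 4 := hconj 2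
  have e3 : D 4 ≤ D 3 := hconj 4
  have e4 : D 3 ≤ D 1 := hconj 3
  have e0 : D 0 = h.d x := h0
  have hs : D 0 + D 1 + D 2 + D 3 + D 4 = 10 := by
    rw [← hsum]
    exact (Fin.sum_univ_five (fun i : Fin 5 => D i)).symm
  have hne := h.d_ne hx1
  omega

/-- **Elements of order three.** -/
theorem dim3 (h3 : (3 : AlgebraicClosure F) ≠ 0) {ζ : AlgebraicClosure F} (hζ : IsPrimitiveRoot ζ 3) {x : T} (hx : x ^ 3 = 1) :
    h.d x + 2 * finrank (AlgebraicClosure F) ((h.σ x).eigenspace ζ) = 10 ∧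
      finrank (AlgebraicClosure F) ((h.σ x).eigenspace (ζ ^ 2)) = finrank (AlgebraicClosure F) ((h.σ x).eigenspace ζ) := by
  have h3' : ((3 : ℕ) : AlgebraicClosure F) ≠ 0 := by exact_mod_cast h3
  have hsum := h.sum_eig h3' hζ hx
  have hneg := h.eig_neg h3' hζ hx
  have h0 := h.eig_zero (ζ := ζ) 3 x
  set D : ZMod 3 → ℕ := fun i => finrank (AlgebraicClosure F) ((h.σ x).eigenspace (ζ ^ i.val)) with hD
  have e1 : D 2 = D 1 := hneg 1
  have e0 : D 0 = h.d x := h0
  have hs : D 0 + D 1 + D 2 = 10 := by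
    rw [← hsum]
    exact (Fin.sum_univ_three (fun i : Fin 3 => D i)).symm
  have f1 : D 1 = finrank (AlgebraicClosure F) ((h.σ x).eigenspace ζ) := by
    change finrank (AlgebraicClosure F) ((h.σ x).eigenspace (ζ ^ 1)) = _
    rw [pow_one]
  have f2 : D 2 = finrank (AlgebraicClosure F) ((h.σ x).eigenspace (ζ ^ 2)) := rfl
  omega

/-- **Elementary abelian groups of order nine.** -/
theorem dimE (h3 : (3 : AlgebraicClosure F) ≠ 0) {a b g : T} (ha : a ^ 3 = 1) (hb : b ^ 3 = 1) (hab : a * b = b * a)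
    (hga : g⁻¹ * a * g = b) (hgb : g⁻¹ * b * g = a * a) :
    ∃ x y : ℕ, finrank (AlgebraicClosure F) (Fix h.σ a ⊓ Fix h.σ b : Submodule _ _) + 4 * x + 4 * y = 10 ∧
      h.d a = finrank (AlgebraicClosure F) (Fix h.σ a ⊓ Fix h.σ b : Submodule _ _) + 2 * x ∧
      h.d (a * b) = finrank (AlgebraicClosure F) (Fix h.σ a ⊓ Fix h.σ b : Submodule _ _) + 2 * y := by
  have h3' : ((3 : ℕ) : AlgebraicClosure F) ≠ 0 := by exact_mod_cast h3
  obtain ⟨ζ, hζ⟩ := exists_root (K := AlgebraicClosure F) (N := 3) h3'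
  have hζ3 := hζ.pow_eq_one
  have hsum := h.sum_eig h3' hζ ha
  have hcomm : ∀ v, h.σ a (h.σ b v) = h.σ b (h.σ a v) := fun v => by rw [← mul_apply', ← mul_apply', hab]
  set D : ZMod 3 → ZMod 3 → ℕ := fun i j => finrank (AlgebraicClosure F)
    ((h.σ a).eigenspace (ζ ^ i.val) ⊓ (h.σ b).eigenspace (ζ ^ j.val) : Submodule _ _) with hD
  have hrow : ∀ i, ∑ j, D i j = finrank (AlgebraicClosure F) ((h.σ a).eigenspace (ζ ^ i.val)) := by
    intro i
    refine sum_inf_eigen h3' hζ (A := h.σ b) (by rw [← map_pow, hb, map_one]) (fun v hv => ?_)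
    rw [Module.End.mem_eigenspace_iff] at hv ⊢
    rw [hcomm, hv, map_smul]
  have hdiag : ∑ i, D i (-i) = h.d (a * b) := by
    have h1 := sum_inf_eigen h3' hζ (A := h.σ a) (by rw [← map_pow, ha, map_one]) (U := Fix h.σ (a * b)) (fun v hv => by
      rw [mem_Fix] at hv ⊢
      rw [mul_apply', ← hcomm, ← mul_apply' a b, hv])
    rw [d, ← h1]
    refine Finset.sum_congr rfl fun i _ => ?_
    have h2 : (Fix h.σ (a * b) ⊓ (h.σ a).eigenspace (ζ ^ i.val) : Submodule (AlgebraicClosure F) _) =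
        (h.σ a).eigenspace (ζ ^ i.val) ⊓ (h.σ b).eigenspace (ζ ^ (-i).val) := by
      ext v
      simp only [Submodule.mem_inf, Module.End.mem_eigenspace_iff, mem_Fix, mul_apply']
      have h4 : ζ ^ (-i).val * ζ ^ i.val = 1 := by
        rw [← pow_val_add hζ3, neg_add_cancel, ZMod.val_zero, pow_zero]
      constructor
      · rintro ⟨h5, h6⟩
        refine ⟨h6, ?_⟩
        rw [hcomm, h6, map_smul] at h5
        have h7 := congrArg (fun z => ζ ^ (-i).val • z) h5
        simp only [smul_smul, h4, one_smul] at h7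
        exact h7
      · rintro ⟨h5, h6⟩
        refine ⟨?_, h5⟩
        rw [h6, map_smul, h5, smul_smul, h4, one_smul]
    rw [h2]
  have hDle : ∀ i j, D i j ≤ D j (i + i) := by
    intro i j
    refine finrank_le_of_map (σ := h.σ) g fun v hv => ?_
    rw [Submodule.mem_inf, Module.End.mem_eigenspace_iff, Module.End.mem_eigenspace_iff] at hv ⊢
    have e1 : ∀ z : T, h.σ z (h.σ g v) = h.σ g (h.σ (g⁻¹ * z * g) v) := by
      intro z
      rw [← mul_apply', ← mul_apply']
      congr 2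
      group
    refine ⟨?_, ?_⟩
    · rw [e1, hga, hv.2, map_smul]
    · rw [e1, hgb, act_mul hv.1 hv.1, ← pow_val_add hζ3, map_smul]
  have r : ∀ f : ZMod 3 → ℕ, ∑ i, f i = f 0 + f 1 + f 2 := fun f => Fin.sum_univ_three (fun i : Fin 3 => f i)
  have r0 := hrow 0
  have r1 := hrow 1
  have r2 := hrow 2
  rw [r] at r0 r1 r2
  rw [r] at hsum hdiag
  have hz := h.eig_zero (ζ := ζ) 3 a
  rw [hz] at r0 hsum
  have e1 : D 1 0 ≤ D 0 2 := hDle 1 0
  have e2 : D 0 2 ≤ D 2 0 := hDle 0 2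
  have e3 : D 2 0 ≤ D 0 1 := hDle 2 0
  have e4 : D 0 1 ≤ D 1 0 := hDle 0 1
  have f1 : D 1 1 ≤ D 1 2 := hDle 1 1
  have f2 : D 1 2 ≤ D 2 2 := hDle 1 2
  have f3 : D 2 2 ≤ D 2 1 := hDle 2 2
  have f4 : D 2 1 ≤ D 1 1 := hDle 2 1
  have hdiag' : D 0 0 + D 1 2 + D 2 1 = h.d (a * b) := hdiag
  have h00 : D 0 0 = finrank (AlgebraicClosure F) (Fix h.σ a ⊓ Fix h.σ b : Submodule _ _) := by
    change finrank (AlgebraicClosure F) ((h.σ a).eigenspace (ζ ^ 0) ⊓ (h.σ b).eigenspace (ζ ^ 0) : Submodule _ _) = _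
    rw [pow_zero]
    rfl
  refine ⟨D 1 0, D 1 1, ?_, ?_, ?_⟩ <;> rw [← h00] <;> omega

/-- **Traces.** -/
theorem sum_tr {N : ℕ} (hN : (N : F) ≠ 0) {x : T} (hx : x ^ N = 1) :
    ∑ k ∈ Finset.range N, ((h.ρ (x ^ k) : Matrix (Fin 10) (Fin 10) F)).trace = N * (h.d x : F) := by
  have hN' : (N : AlgebraicClosure F) ≠ 0 := by
    have := (map_ne_zero (algebraMap F (AlgebraicClosure F))).2 hN
    rwa [map_natCast] at this
  have h1 := sum_trace (σ := h.σ) hN' hx
  apply (algebraMap F (AlgebraicClosure F)).injective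
  rw [map_sum, map_mul, map_natCast, map_natCast]
  refine Eq.trans (Finset.sum_congr rfl fun k _ => ?_) h1
  have h2 : h.σ (x ^ k) = Matrix.toLin' ((h.ρ (x ^ k) : Matrix (Fin 10) (Fin 10) F).map (algebraMap F (AlgebraicClosure F))) := by
    refine LinearMap.ext fun v => ?_
    rw [σ_apply, Matrix.toLin'_apply]
  rw [h2, Matrix.trace_toLin'_eq]
  simp [Matrix.trace]

end AT

end Cfsg.Agent.H908.SpTen
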