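import Cfsg.Agent.H908.TenDim
import Cfsg.Agent.H637.SevenA7

/-!
# `A₇` in `Ω₁₀(q)`: dimensions of the fixed spaces (helper908)

* `char_seven` : the characteristic is seven;
* `dims` : in characteristic seven, the dimensions of the fixed spaces are those of `Λ²` of the heart, or those of twice
  the heart.
-/

set_option autoImplicit false
set_option linter.unusedSectionVars false

namespace Cfsg.Agent.H908.Ten

open Cfsg Cfsg.Geo Module Equiv Equiv.Perm
open Matrix hiding mul_apply'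
open Cfsg.Agent.H637.JW Cfsg.Agent.H637.SevenA7

universe u

/-- the alternating group of degree seven -/
abbrev A7 := alternatingGroup (Fin 7)

/-- generation -/
def Gen (x y : A7) : Prop := ∀ S : Subgroup A7, x ∈ S → y ∈ S → S = ⊤

theorem three_of {d : A7} (h : ((d : Perm (Fin 7)).support).card = 3) : (d : Perm (Fin 7)).IsThreeCycle :=
  card_support_eq_three_iff.1 h

theorem isConj_of_eq {x y : A7} (g : A7) (h : g * x * g⁻¹ = y) : IsConj x y := isConj_iff.2 ⟨g, h⟩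

/-- (2A, 7, 7) -/
def x1 : A7 := mk (swap 3 4 * swap 5 6)
def y1 : A7 := mk (swap 0 3 * swap 3 2 * swap 2 5 * swap 5 1 * swap 1 4 * swap 4 6)
def d1 : A7 := mk (swap 1 2 * swap 2 3 * (swap 4 6 * swap 6 5))
def e1 : A7 := mk (swap 1 2 * swap 2 6 * (swap 3 5 * swap 5 4))

theorem gen1 : Gen x1 y1 := fun S hx hy =>
  eq_top_of S y1 (x1 * y1 * x1 * y1 * y1 * y1) hy
    (mul_mem (mul_mem (mul_mem (mul_mem (mul_mem hx hy) hx) hy) hy) hy) (by decide +kernel) (three_of (by decide +kernel))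

/-- (3A, 7, 7) -/
def x2 : A7 := mk (swap 4 5 * swap 5 6)
def y2 : A7 := mk (swap 0 1 * swap 1 2 * swap 2 3 * swap 3 4 * swap 4 5 * swap 5 6)
def d2 : A7 := mk (swap 1 4 * swap 4 2 * (swap 3 5 * swap 5 6))
def e2 : A7 := mk (swap 1 5 * swap 5 2 * (swap 3 4 * swap 4 6))

theorem gen2 : Gen x2 y2 := fun S hx hy =>
  eq_top_of S y2 x2 hy hx (by decide +kernel) (three_of (by decide +kernel))

/-- (3B, 7, 7) -/
def x3 : A7 := mk (swap 1 2 * swap 2 3 * (swap 4 5 * swap 5 6))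
def e3 : A7 := mk (swap 1 2 * swap 2 5 * (swap 3 4 * swap 4 6))

theorem gen3 : Gen x3 y2 := fun S hx hy =>
  eq_top_of S y2 (x3 * x3 * y2) hy (mul_mem (mul_mem hx hx) hy) (by decide +kernel) (three_of (by decide +kernel))

/-- (3A, 3B, 7) -/
def y4 : A7 := mk (swap 0 1 * swap 1 4 * (swap 2 3 * swap 3 5))

theorem gen4 : Gen x2 y4 := fun S hx hy =>
  eq_top_of S (x2 * y4) x2 (mul_mem hx hy) hx (by decide +kernel) (three_of (by decide +kernel))

/-- (3A, 5A, 7) -/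
def y5 : A7 := mk (swap 0 1 * swap 1 2 * swap 2 3 * swap 3 4)
def d5 : A7 := mk (swap 1 3 * swap 3 4 * swap 4 2 * swap 5 6)

theorem gen5 : Gen x2 y5 := fun S hx hy =>
  eq_top_of S (x2 * y5) x2 (mul_mem hx hy) hx (by decide +kernel) (three_of (by decide +kernel))

/-- (3B, 3B, 6A) -/
def x6 : A7 := mk (swap 0 1 * swap 1 2 * (swap 3 4 * swap 4 5))

theorem gen6 : Gen x6 x3 := fun S hx hy =>
  eq_top_of S (x6 * x6 * x3 * x6 * x3 * x3) ((x6 * x3) * (x6 * x3))
    (mul_mem (mul_mem (mul_mem (mul_mem (mul_mem hx hx) hy) hx) hy) hy)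
    (mul_mem (mul_mem hx hy) (mul_mem hx hy)) (by decide +kernel) (three_of (by decide +kernel))

/-- (4A, 4A, 4A) -/
def x7 : A7 := mk (swap 1 2 * (swap 3 4 * swap 4 5 * swap 5 6))
def y7 : A7 := mk (swap 0 1 * swap 1 2 * swap 2 3 * swap 4 6)

theorem gen7 : Gen x7 y7 := fun S hx hy =>
  eq_top_of S (x7 * y7 * y7) ((x7 * x7 * y7 * y7) * (x7 * x7 * y7 * y7))
    (mul_mem (mul_mem hx hy) hy)
    (mul_mem (mul_mem (mul_mem (mul_mem hx hx) hy) hy) (mul_mem (mul_mem (mul_mem hx hx) hy) hy))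
    (by decide +kernel) (three_of (by decide +kernel))

/-- an involution inverting `c` and normalising `⟨s, t⟩` -/
def τ : A7 := mk (swap 0 2 * swap 4 5)
/-- an element of order four with square `t` -/
def r : A7 := s * τ

/-- case B -/
def g1 : A7 := mk (swap 0 3 * swap 3 6 * swap 6 2 * swap 2 5 * swap 5 1 * swap 1 4)
def g2 : A7 := mk (swap 2 6 * swap 6 5 * swap 5 4 * swap 4 3)
def z2 : A7 := mk (swap 0 1 * swap 2 6)

theorem g1_c : g1⁻¹ * a * g1 = c := by decide +kernel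
theorem g1_s : g1⁻¹ * x1 * g1 = s := by decide +kernel
theorem g2_c : g2⁻¹ * b * g2 = c := by decide +kernel
theorem g2_s : g2⁻¹ * z2 * g2 = s := by decide +kernel

theorem genB (S : Subgroup A7) (ha : a ∈ S) (hb : b ∈ S) (hx : x1 ∈ S) (hz : z2 ∈ S) : S = ⊤ :=
  eq_top_of S (z2 * a * x1 * b * z2 * x1) a (mul_mem (mul_mem (mul_mem (mul_mem (mul_mem hz ha) hx) hb) hz) hx) ha
    (by decide +kernel) (three_of (by decide +kernel))

theorem cj_t : IsConj s t := isConj_of_eq (mk ((swap 1 2 * swap 2 3))) (by decide +kernel)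
theorem cj_s_t : IsConj s (s * t) := isConj_of_eq (mk ((swap 1 3 * swap 3 2))) (by decide +kernel)
theorem cj_τ : IsConj s τ := isConj_of_eq (mk ((swap 1 2 * swap 2 4 * swap 4 3 * swap 3 5))) (by decide +kernel)
theorem cj_t_τ : IsConj s (t * τ) := isConj_of_eq (mk ((swap 0 3 * swap 3 5 * swap 5 2 * swap 2 4))) (by decide +kernel)
theorem cj_x1 : IsConj s x1 := isConj_of_eq (mk ((swap 0 5 * swap 5 2 * swap 2 4) * swap 1 6)) (by decide +kernel)
theorem cj_c : IsConj a c := isConj_of_eq (mk (swap 0 4 * (swap 1 5 * swap 5 2 * swap 2 6))) (by decide +kernel)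
theorem cj_x2 : IsConj a x2 := isConj_of_eq (mk (swap 0 4 * (swap 1 5 * swap 5 2 * swap 2 6))) (by decide +kernel)
theorem cj_x3 : IsConj (a * b) x3 := isConj_of_eq (mk ((swap 0 3 * swap 3 6))) (by decide +kernel)
theorem cj_y4 : IsConj (a * b) y4 := isConj_of_eq (mk ((swap 2 4 * swap 4 3))) (by decide +kernel)
theorem cj_x6 : IsConj (a * b) x6 := isConj_of_eq 1 (by decide +kernel)
theorem cj_x7 : IsConj r x7 := isConj_of_eq (mk (swap 0 6 * (swap 1 5 * swap 5 2 * swap 2 4))) (by decide +kernel)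
theorem cj_y7 : IsConj r y7 := isConj_of_eq (mk (swap 1 3 * swap 5 6)) (by decide +kernel)
theorem cj_x7_y7 : IsConj r (x7 * y7) := isConj_of_eq (mk ((swap 1 3 * swap 3 2 * swap 2 4 * swap 4 6))) (by decide +kernel)

theorem s_sq : s * s = 1 := by decide +kernel
theorem t_sq : t * t = 1 := by decide +kernel
theorem τ_sq : τ * τ = 1 := by decide +kernel
theorem s_t : s * t = t * s := by decide +kernel
theorem a_s' : a⁻¹ * s * a⁻¹⁻¹ = t := by decide +kernel
theorem a_t' : a⁻¹ * t * a⁻¹⁻¹ = s * t := by decide +kernel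
theorem c_s' : c * s = s * c := by decide +kernel
theorem c_t' : c * t = t * c := by decide +kernel
theorem c_a' : c * a = a * c := by decide +kernel
theorem c_pow : c ^ 3 = 1 := by decide +kernel
theorem t_τ : t * τ = τ * t := by decide +kernel
theorem τ_s : τ⁻¹ * s * τ = s * t := by decide +kernel
theorem τ_t : τ⁻¹ * t * τ = t := by decide +kernel
theorem τ_c : τ⁻¹ * c * τ = c * c := by decide +kernel
theorem s_τ : s * τ = τ * (s * t) := by decide +kernel
theorem r_sq : r * r = t := by decide +kernel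
theorem cs3 : (c * s) ^ 3 = s := by decide +kernel
theorem cs4 : (c * s) ^ 4 = c := by decide +kernel

/-! ### arithmetic -/

theorem ar1 {f ds p1 : ℕ} (k0' : 10 + 2 * f = 3 * ds) (F1 : ds ≤ 6) (P1 : ds = p1 + p1) :
    (ds = 4 ∧ f = 1) ∨ (ds = 6 ∧ f = 4) := by
  interval_cases ds <;> omega

theorem ar2 {e x y da dab dc u p2 p3 : ℕ} (E1 : e + 4 * x + 4 * y = 10) (E2 : da = e + 2 * x) (E3 : dab = e + 2 * y)
    (C1 : dc + 2 * u = 10) (F2 : da + dab ≤ 8) (F3 : 2 * dab ≤ 10) (v : da = dc) (P2 : da = p2 + p2) (P3 : dab = p3 + p3) :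
    (da = 4 ∧ dab = 4 ∧ e = 2 ∧ u = 3) ∨ (da = 6 ∧ dab = 2 ∧ e = 2 ∧ u = 2) := by
  have hx : x ≤ 2 := by omega
  have hy : y ≤ 2 := by omega
  interval_cases x <;> interval_cases y <;> omega

theorem ar3 {f u dc n0 n1 n2 k0 k1 : ℕ} (hf : f = 1 ∨ f = 4) (hu : (dc = 4 ∧ u = 3) ∨ (dc = 6 ∧ u = 2))
    (K0 : dc + 2 * n0 = 3 * k0) (K1 : u + 2 * n1 = 3 * k1) (hL : n0 + n1 + n2 = f) (m1 : n1 = n2) (b1 : n1 ≤ u)
    (hn : n0 ≠ dc) : (f = 1 ∧ dc = 4 ∧ n1 = 0 ∧ k0 = 2) ∨ (f = 4 ∧ dc = 6 ∧ n1 = 2 ∧ k0 = 2) := by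
  subst m1
  have h1 : n1 ≤ 2 := by omega
  interval_cases n1 <;> omega

theorem arith {e x y da dab dc u f ds n0 k0 k1 n1 n2 g g' dr dy p1 p2 p3 p4 : ℕ}
    (E1 : e + 4 * x + 4 * y = 10) (E2 : da = e + 2 * x) (E3 : dab = e + 2 * y) (C1 : dc + 2 * u = 10)
    (k0' : 10 + 2 * f = 3 * ds) (F1 : ds ≤ 6) (F2 : da + dab ≤ 8) (F3 : 2 * dab ≤ 10) (F4 : da + dy ≤ 8) (F5 : 3 * dr ≤ 10)
    (v : da = dc) (w5 : dy = 2 ∨ dy = 6) (P1 : ds = p1 + p1) (P2 : da = p2 + p2) (P3 : dab = p3 + p3) (P4 : dr = p4 + p4)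
    (K0 : dc + 2 * n0 = 3 * k0) (K1 : u + 2 * n1 = 3 * k1) (hL : n0 + n1 + n2 = f) (m1 : n1 ≤ n2) (m2 : n2 ≤ n1)
    (b1 : n1 ≤ u) (D1 : ds + 2 * g = f + g' + dr) (D2 : 10 + 2 * g' = 3 * ds) (D5 : g ≤ f) (D6 : n1 ≤ g)
    (hB : n0 ≠ dc ∨ e = 0) :
    (ds = 4 ∧ da = 4 ∧ dab = 4 ∧ dr = 2 ∧ dy = 2 ∧ k0 = 2) ∨ (ds = 6 ∧ da = 6 ∧ dab = 2 ∧ dr = 2 ∧ dy = 2 ∧ k0 = 2) := by
  have h1 := ar1 k0' F1 P1
  have h2 := ar2 E1 E2 E3 C1 F2 F3 v P2 P3
  have he : e = 2 := by rcases h2 with h | h <;> exact h.2.2.1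
  have h3 := ar3 (f := f) (u := u) (dc := dc) (by rcases h1 with h | h <;> simp [h.2])
    (by rw [← v]; rcases h2 with h | h
        · exact Or.inl ⟨h.1, h.2.2.2⟩
        · exact Or.inr ⟨h.1, h.2.2.2⟩) K0 K1 hL (le_antisymm m1 m2) b1 (by
      rcases hB with h | h
      · exact h
      · omega)
  clear E1 E2 E3 K0 K1 hL hB C1 k0' m1 m2
  rcases h3 with ⟨a1, a2, a3, a4⟩ | ⟨a1, a2, a3, a4⟩
  · left
    have b2 : ds = 4 := by omega
    have b3 : dab = 4 := by omega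
    have b4 : g' = 1 := by omega
    have b5 : dy = 2 := by omega
    refine ⟨b2, by omega, b3, ?_, b5, a4⟩
    clear h1 h2 w5 P1 P2 P3 F2 F3 F4
    omega
  · right
    have b2 : ds = 6 := by omega
    have b3 : dab = 2 := by omega
    have b4 : g' = 4 := by omega
    have b5 : dy = 2 := by omega
    refine ⟨b2, by omega, b3, ?_, b5, a4⟩
    clear h1 h2 w5 P1 P2 P3 F2 F3 F4
    omega

variable {F : Type u} [Field F]

namespace OT

variable (h : OT F A7)

/-- the intersection of the fixed spaces of commuting elements of coprime order -/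
theorem fix_cs : Fix h.σ (c * s) = Fix h.σ c ⊓ Fix h.σ s := by
  ext v
  rw [Submodule.mem_inf, mem_Fix, mem_Fix, mem_Fix]
  constructor
  · intro hv
    have hp : ∀ k : ℕ, h.σ ((c * s) ^ k) v = v := by
      intro k
      induction k with
      | zero => rw [pow_zero, map_one]; rfl
      | succ k ih => rw [pow_succ', mul_apply', ih, hv]
    exact ⟨by rw [← cs4]; exact hp 4, by rw [← cs3]; exact hp 3⟩
  · rintro ⟨h1, h2⟩
    rw [mul_apply', h2, h1]

/-- elements of order seven in characteristic seven -/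
theorem two_le_d [CharP F 7] {x : A7} (hx : x ^ 7 = 1) : 2 ≤ h.d x := by
  have hF : Fact (Nat.Prime 7) := ⟨by norm_num⟩
  have hK : CharP (AlgebraicClosure F) 7 := charP_of_injective_algebraMap (algebraMap F (AlgebraicClosure F)).injective 7
  have hE : CharP (Module.End (AlgebraicClosure F) (Fin 10 → AlgebraicClosure F)) 7 :=
    charP_of_injective_algebraMap (FaithfulSMul.algebraMap_injective (AlgebraicClosure F) _) 7
  have h1 : (h.σ x - 1) ^ 7 = 0 := by
    rw [sub_pow_char_of_commute 7 (Commute.one_right (h.σ x)), ← map_pow, hx, map_one, one_pow, sub_self]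
  have h2 : h.d x ≠ 0 := by
    intro h0
    have h3 : Fix h.σ x = ⊥ := Submodule.finrank_eq_zero.1 h0
    have h4 : Function.Injective (h.σ x - 1 : Module.End (AlgebraicClosure F) (Fin 10 → AlgebraicClosure F)) := by
      rw [← LinearMap.ker_eq_bot, LinearMap.ker_eq_bot']
      intro v hv
      have : v ∈ Fix h.σ x := by
        rw [mem_Fix]
        rw [LinearMap.sub_apply, Module.End.one_apply, sub_eq_zero] at hv
        exact hv
      rwa [h3, Submodule.mem_bot] at this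
    have h5 : ∀ k : ℕ, Function.Injective ((h.σ x - 1 : Module.End (AlgebraicClosure F) (Fin 10 → AlgebraicClosure F)) ^ k) := by
      intro k
      induction k with
      | zero => rw [pow_zero]; exact fun _ _ h => h
      | succ k ih => rw [pow_succ]; exact ih.comp h4
    have h6 := h5 7
    rw [h1] at h6
    have h7 : (Pi.single 0 1 : Fin 10 → AlgebraicClosure F) = 0 := h6 rfl
    have h8 := congrFun h7 0
    simp at h8
  obtain ⟨k, hk⟩ := h.d_even x
  omega

/-- Case B is impossible. -/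
theorem caseB (hn : finrank (AlgebraicClosure F) (Fix h.σ c ⊓ Fix h.σ s ⊓ Fix h.σ t : Submodule _ _) = h.d c) :
    finrank (AlgebraicClosure F) (Fix h.σ a ⊓ Fix h.σ b : Submodule _ _) = 0 := by
  have h1 : Fix h.σ c ⊓ Fix h.σ s ⊓ Fix h.σ t = Fix h.σ c :=
    Submodule.eq_of_le_of_finrank_eq (inf_le_left.trans inf_le_left) hn
  have h2 : ∀ v, h.σ c v = v → h.σ s v = v := by
    intro v hv
    have h3 : v ∈ Fix h.σ c ⊓ Fix h.σ s ⊓ Fix h.σ t := by rw [h1]; exact mem_Fix.2 hv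
    exact mem_Fix.1 h3.1.2
  have key : ∀ (g x z : A7) (v : Fin 10 → AlgebraicClosure F), g⁻¹ * x * g = c → g⁻¹ * z * g = s →
      h.σ x v = v → h.σ z v = v := by
    intro g x z v e1 e2 hv
    have h3 : h.σ c (h.σ g⁻¹ v) = h.σ g⁻¹ v := by
      rw [← e1, ← mul_apply', mul_assoc, mul_inv_cancel, mul_one, mul_apply', hv]
    have h4 := h2 _ h3
    have h5 := congrArg (h.σ g) h4
    rw [← mul_apply', ← mul_apply', ← mul_apply', mul_inv_cancel, map_one, Module.End.one_apply, ← e2] at h5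
    have h6 : g * (g⁻¹ * z * g) * g⁻¹ = z := by group
    rwa [h6] at h5
  rw [Submodule.finrank_eq_zero, eq_bot_iff]
  rintro v ⟨ha, hb⟩
  rw [SetLike.mem_coe, mem_Fix] at ha hb
  rw [Submodule.mem_bot]
  refine h.eq_zero_of_fixed fun g => ?_
  have h3 := genB (stab h.σ v) ha hb (key g1 a x1 v g1_c g1_s ha) (key g2 b z2 v g2_c g2_s hb)
  have h4 : g ∈ stab h.σ v := by rw [h3]; trivial
  exact h4

theorem scott_gen {x y : A7} (hg : Gen x y) : h.d x + h.d y + h.d (x * y) ≤ 10 := by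
  refine h.scott fun v hx hy => h.eq_zero_of_fixed fun g => ?_
  have h1 := hg (stab h.σ v) hx hy
  have h2 : g ∈ stab h.σ v := by rw [h1]; trivial
  exact h2

/-- Klein four group on the whole space -/
theorem klein_top (h2 : (2 : AlgebraicClosure F) ≠ 0) :
    10 + 2 * finrank (AlgebraicClosure F) (Fix h.σ s ⊓ Fix h.σ t : Submodule _ _) = 3 * h.d s := by
  have h1 := klein3 (σ := h.σ) h2 s_sq t_sq s_t a_s' a_t' (U := ⊤) (fun _ _ => trivial) (fun _ _ => trivial)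
    (fun _ _ => trivial)
  rw [top_inf_eq, finrank_top, Module.finrank_fin_fun] at h1
  exact h1

include h in
/-- **The characteristic is seven.** -/
theorem seven_eq_zero : (7 : F) = 0 := by
  by_contra h7F
  have hc : ∀ n : ℕ, (n : F) ≠ 0 → (n : AlgebraicClosure F) ≠ 0 := by
    intro n hn h0
    apply hn
    apply (algebraMap F (AlgebraicClosure F)).injective
    rw [map_natCast, h0, map_zero]
  have h7 : (7 : AlgebraicClosure F) ≠ 0 := by exact_mod_cast hc 7 (by exact_mod_cast h7F)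
  by_cases h2F : (2 : F) = 0
  · have h3F : (3 : F) ≠ 0 := by
      intro h3
      exact one_ne_zero (α := F) (by linear_combination h3 - h2F)
    have h3 : (3 : AlgebraicClosure F) ≠ 0 := by exact_mod_cast hc 3 (by exact_mod_cast h3F)
    obtain ⟨x, y, e1, e2, e3⟩ := h.dimE h3 a_pow b_pow ab_comm g_a g_b
    have s1 := h.scott_gen gen2
    have s2 := h.scott_gen gen3
    have f1 := h.dim7 h7 (x := y2) (d := H908.Ten.d2) (by decide +kernel) (by decide +kernel) (by decide +kernel)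
    have f2 := h.dim7 h7 (x := x2 * y2) (d := H908.Ten.e2) (by decide +kernel) (by decide +kernel) (by decide +kernel)
    have f3 := h.dim7 h7 (x := x3 * y2) (d := H908.Ten.e3) (by decide +kernel) (by decide +kernel) (by decide +kernel)
    have g1 := h.d_conj cj_x2
    have g2 := h.d_conj cj_x3
    omega
  · have h2 : (2 : AlgebraicClosure F) ≠ 0 := by exact_mod_cast hc 2 (by exact_mod_cast h2F)
    have k := h.klein_top h2
    have s1 := h.scott_gen gen1
    have f1 := h.dim7 h7 (x := y1) (d := H908.Ten.d1) (by decide +kernel) (by decide +kernel) (by decide +kernel)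
    have f2 := h.dim7 h7 (x := x1 * y1) (d := H908.Ten.e1) (by decide +kernel) (by decide +kernel) (by decide +kernel)
    have g1 := h.d_conj cj_x1
    omega

set_option maxHeartbeats 4000000 in
/-- **The dimensions of the fixed spaces** in characteristic seven. -/
theorem dims [CharP F 7] :
    (h.d s = 4 ∧ h.d a = 4 ∧ h.d (a * b) = 4 ∧ h.d r = 2 ∧ h.d y5 = 2 ∧ h.d (c * s) = 2) ∨
    (h.d s = 6 ∧ h.d a = 6 ∧ h.d (a * b) = 2 ∧ h.d r = 2 ∧ h.d y5 = 2 ∧ h.d (c * s) = 2) := by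
  have hK : CharP (AlgebraicClosure F) 7 := charP_of_injective_algebraMap (algebraMap F (AlgebraicClosure F)).injective 7
  have hc : ∀ n : ℕ, ¬ 7 ∣ n → (n : AlgebraicClosure F) ≠ 0 := by
    intro n hn h0
    exact hn ((CharP.cast_eq_zero_iff (AlgebraicClosure F) 7 n).1 h0)
  have h2 : (2 : AlgebraicClosure F) ≠ 0 := by exact_mod_cast hc 2 (by norm_num)
  have h3 : (3 : AlgebraicClosure F) ≠ 0 := by exact_mod_cast hc 3 (by norm_num)
  have h3' : ((3 : ℕ) : AlgebraicClosure F) ≠ 0 := hc 3 (by norm_num)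
  have h5 : (5 : AlgebraicClosure F) ≠ 0 := by exact_mod_cast hc 5 (by norm_num)
  obtain ⟨ζ, hζ⟩ := exists_root (K := AlgebraicClosure F) (N := 3) h3'
  have hζ3 := hζ.pow_eq_one
  -- elements of order three
  obtain ⟨x, y, E1, E2, E3⟩ := h.dimE h3 a_pow b_pow ab_comm g_a g_b
  obtain ⟨C1, C2⟩ := h.dim3 h3 hζ c_pow
  -- Klein four groups
  have k0 := h.klein_top h2
  -- Scott
  have S1 := h.scott_gen gen1
  have S4 := h.scott_gen gen4
  have S5 := h.scott_gen gen5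
  have S6 := h.scott_gen gen6
  have S7 := h.scott_gen gen7
  have u1 := h.two_le_d (x := y1) (by decide +kernel)
  have u2 := h.two_le_d (x := x1 * y1) (by decide +kernel)
  have u4 := h.two_le_d (x := x2 * y4) (by decide +kernel)
  have u5 := h.two_le_d (x := x2 * y5) (by decide +kernel)
  have v1 := h.d_conj cj_x1
  have v2 := h.d_conj cj_x2
  have v3 := h.d_conj cj_x3
  have v4 := h.d_conj cj_y4
  have v6 := h.d_conj cj_x6
  have v7 := h.d_conj cj_x7
  have v8 := h.d_conj cj_y7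
  have v9 := h.d_conj cj_x7_y7
  have v10 := h.d_conj cj_c
  have v11 := h.d_conj cj_t
  have v12 := h.d_conj cj_τ
  have v13 := h.d_conj cj_t_τ
  have w5 := h.dim5 h5 (x := y5) (d := H908.Ten.d5) (by decide +kernel) (by decide +kernel) (by decide +kernel)
  -- parity
  obtain ⟨p1, P1⟩ := h.d_even s
  obtain ⟨p2, P2⟩ := h.d_even a
  obtain ⟨p3, P3⟩ := h.d_even (a * b)
  obtain ⟨p4, P4⟩ := h.d_even r
  -- `c` and the Klein four group
  have inv : ∀ (g k : A7) (i : AlgebraicClosure F), g * k = k * g → ∀ v ∈ (h.σ g).eigenspace i, h.σ k v ∈ (h.σ g).eigenspace i := by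
    intro g k i hgk v hv
    rw [Module.End.mem_eigenspace_iff] at hv ⊢
    rw [← mul_apply', hgk, mul_apply', hv, map_smul]
  have hca : c * a⁻¹ = a⁻¹ * c := by decide +kernel
  have K0 := klein3 (σ := h.σ) h2 s_sq t_sq s_t a_s' a_t' (U := Fix h.σ c) (inv c s 1 c_s') (inv c t 1 c_t') (inv c a⁻¹ 1 hca)
  have K1 := klein3 (σ := h.σ) h2 s_sq t_sq s_t a_s' a_t' (U := (h.σ c).eigenspace ζ) (inv c s ζ c_s') (inv c t ζ c_t')
    (inv c a⁻¹ ζ hca)
  have K2 : finrank (AlgebraicClosure F) (Fix h.σ c ⊓ Fix h.σ s : Submodule _ _) = h.d (c * s) := by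
    rw [← h.fix_cs]; rfl
  -- decomposition of the fixed space of the Klein four group under `c`
  have hL := sum_inf_eigen h3' hζ (A := h.σ c) (by rw [← map_pow, c_pow, map_one]) (U := Fix h.σ s ⊓ Fix h.σ t) (by
    rintro v ⟨hv1, hv2⟩
    rw [SetLike.mem_coe, mem_Fix] at hv1 hv2
    refine ⟨?_, ?_⟩
    · rw [SetLike.mem_coe, mem_Fix, ← mul_apply', ← c_s', mul_apply', hv1]
    · rw [SetLike.mem_coe, mem_Fix, ← mul_apply', ← c_t', mul_apply', hv2])
  have hL' : finrank (AlgebraicClosure F) ((Fix h.σ s ⊓ Fix h.σ t) ⊓ (h.σ c).eigenspace (ζ ^ (0 : ZMod 3).val) : Submodule _ _) +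
      finrank (AlgebraicClosure F) ((Fix h.σ s ⊓ Fix h.σ t) ⊓ (h.σ c).eigenspace (ζ ^ (1 : ZMod 3).val) : Submodule _ _) +
      finrank (AlgebraicClosure F) ((Fix h.σ s ⊓ Fix h.σ t) ⊓ (h.σ c).eigenspace (ζ ^ (2 : ZMod 3).val) : Submodule _ _) =
      finrank (AlgebraicClosure F) (Fix h.σ s ⊓ Fix h.σ t : Submodule _ _) := by
    rw [← hL]
    exact (Fin.sum_univ_three (fun i : Fin 3 => finrank (AlgebraicClosure F)
      ((Fix h.σ s ⊓ Fix h.σ t) ⊓ (h.σ c).eigenspace (ζ ^ (i : ZMod 3).val) : Submodule _ _))).symm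
  have q0 : ((Fix h.σ s ⊓ Fix h.σ t) ⊓ (h.σ c).eigenspace (ζ ^ (0 : ZMod 3).val) : Submodule (AlgebraicClosure F) _) =
      Fix h.σ c ⊓ Fix h.σ s ⊓ Fix h.σ t := by
    rw [ZMod.val_zero, pow_zero, inf_comm, inf_assoc]
    rfl
  have q1 : ((Fix h.σ s ⊓ Fix h.σ t) ⊓ (h.σ c).eigenspace (ζ ^ (1 : ZMod 3).val) : Submodule (AlgebraicClosure F) _) =
      (h.σ c).eigenspace ζ ⊓ Fix h.σ s ⊓ Fix h.σ t := by
    have : (1 : ZMod 3).val = 1 := rfl
    rw [this, pow_one, inf_comm, inf_assoc]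
  have q2 : ((Fix h.σ s ⊓ Fix h.σ t) ⊓ (h.σ c).eigenspace (ζ ^ (2 : ZMod 3).val) : Submodule (AlgebraicClosure F) _) =
      (h.σ c).eigenspace (ζ ^ 2) ⊓ Fix h.σ s ⊓ Fix h.σ t := by
    have : (2 : ZMod 3).val = 2 := rfl
    rw [this, inf_comm, inf_assoc]
  rw [q0, q1, q2] at hL'
  -- the involution `τ` swaps the two eigenspaces
  have hτ : ∀ (ω : AlgebraicClosure F) (v : Fin 10 → AlgebraicClosure F),
      v ∈ (h.σ c).eigenspace ω ⊓ Fix h.σ s ⊓ Fix h.σ t →
      h.σ τ v ∈ (h.σ c).eigenspace (ω ^ 2) ⊓ Fix h.σ s ⊓ Fix h.σ t := by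
    rintro ω v ⟨⟨hv1, hv2⟩, hv3⟩
    rw [SetLike.mem_coe, Module.End.mem_eigenspace_iff] at hv1
    rw [SetLike.mem_coe, mem_Fix] at hv2 hv3
    have e1 : ∀ z : A7, h.σ z (h.σ τ v) = h.σ τ (h.σ (τ⁻¹ * z * τ) v) := by
      intro z
      rw [← mul_apply', ← mul_apply']
      congr 2
      group
    refine ⟨⟨?_, ?_⟩, ?_⟩
    · rw [SetLike.mem_coe, Module.End.mem_eigenspace_iff, e1, τ_c, mul_apply', hv1, map_smul, hv1, smul_smul, map_smul, pow_two]
    · rw [SetLike.mem_coe, mem_Fix, e1, τ_s, mul_apply', hv3, hv2]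
    · rw [SetLike.mem_coe, mem_Fix, e1, τ_t, hv3]
  have m1 : finrank (AlgebraicClosure F) ((h.σ c).eigenspace ζ ⊓ Fix h.σ s ⊓ Fix h.σ t : Submodule _ _) ≤
      finrank (AlgebraicClosure F) ((h.σ c).eigenspace (ζ ^ 2) ⊓ Fix h.σ s ⊓ Fix h.σ t : Submodule _ _) :=
    finrank_le_of_map (σ := h.σ) τ (hτ ζ)
  have m2 : finrank (AlgebraicClosure F) ((h.σ c).eigenspace (ζ ^ 2) ⊓ Fix h.σ s ⊓ Fix h.σ t : Submodule _ _) ≤
      finrank (AlgebraicClosure F) ((h.σ c).eigenspace ζ ⊓ Fix h.σ s ⊓ Fix h.σ t : Submodule _ _) := by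
    refine finrank_le_of_map (σ := h.σ) τ fun v hv => ?_
    have := hτ _ v hv
    rwa [show (ζ ^ 2) ^ 2 = ζ by rw [← pow_mul]; calc ζ ^ (2 * 2) = ζ ^ 3 * ζ := by ring
        _ = ζ := by rw [hζ3, one_mul]] at this
  -- bounds
  have b1 : finrank (AlgebraicClosure F) ((h.σ c).eigenspace ζ ⊓ Fix h.σ s ⊓ Fix h.σ t : Submodule _ _) ≤
      finrank (AlgebraicClosure F) ((h.σ c).eigenspace ζ) := Submodule.finrank_mono (inf_le_left.trans inf_le_left)
  -- dihedral group of order eight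
  have D1 := klein (σ := h.σ) h2 (a := s) (b := τ) (U := Fix h.σ t)
    (fun v _ => by rw [← mul_apply', s_sq, map_one]; rfl) (fun v _ => by rw [← mul_apply', τ_sq, map_one]; rfl)
    (fun v hv => by
      rw [mem_Fix] at hv
      rw [← mul_apply', s_τ, mul_apply', mul_apply', hv])
    (inv t s 1 s_t.symm) (inv t τ 1 t_τ)
  have D2 := klein (σ := h.σ) h2 (a := t) (b := τ) (U := ⊤)
    (fun v _ => by rw [← mul_apply', t_sq, map_one]; rfl) (fun v _ => by rw [← mul_apply', τ_sq, map_one]; rfl)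
    (fun v _ => by rw [← mul_apply', ← mul_apply', t_τ]) (fun _ _ => trivial) (fun _ _ => trivial)
  rw [top_inf_eq, top_inf_eq, top_inf_eq, finrank_top, Module.finrank_fin_fun] at D2
  have D3 : (Fix h.σ t ⊓ Fix h.σ (s * τ) : Submodule (AlgebraicClosure F) _) = Fix h.σ r := by
    refine le_antisymm inf_le_right (le_inf (fun v hv => ?_) le_rfl)
    rw [mem_Fix] at hv ⊢
    rw [← r_sq, mul_apply', hv, hv]
  have D4 : (Fix h.σ t ⊓ Fix h.σ s : Submodule (AlgebraicClosure F) _) = Fix h.σ s ⊓ Fix h.σ t := inf_comm _ _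
  rw [D3, D4] at D1
  have D5 : finrank (AlgebraicClosure F) (Fix h.σ s ⊓ Fix h.σ t ⊓ Fix h.σ τ : Submodule _ _) ≤
      finrank (AlgebraicClosure F) (Fix h.σ s ⊓ Fix h.σ t : Submodule _ _) := Submodule.finrank_mono inf_le_left
  have D6 : finrank (AlgebraicClosure F) ((h.σ c).eigenspace ζ ⊓ Fix h.σ s ⊓ Fix h.σ t : Submodule _ _) ≤
      finrank (AlgebraicClosure F) (Fix h.σ s ⊓ Fix h.σ t ⊓ Fix h.σ τ : Submodule _ _) := by
    set W := ((h.σ c).eigenspace ζ ⊓ Fix h.σ s ⊓ Fix h.σ t : Submodule (AlgebraicClosure F) _) with hW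
    have hinj : Function.Injective ((1 + h.σ τ : Module.End (AlgebraicClosure F) (Fin 10 → AlgebraicClosure F)).domRestrict W) := by
      rw [← LinearMap.ker_eq_bot, LinearMap.ker_eq_bot']
      rintro ⟨v, hv⟩ h0
      apply Subtype.ext
      have h1 : v + h.σ τ v = 0 := h0
      have e2 := (hτ ζ v hv).1.1
      have e1 := hv.1.1
      rw [SetLike.mem_coe, Module.End.mem_eigenspace_iff] at e1 e2
      have e3 : h.σ τ v = -v := (neg_eq_of_add_eq_zero_right h1).symm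
      rw [e3, map_neg, e1, smul_neg, neg_inj] at e2
      have e4 : (ζ - ζ ^ 2) • v = 0 := by rw [sub_smul, e2, sub_self]
      have e5 : ζ - ζ ^ 2 ≠ 0 := by
        intro h6
        have h7 : ζ * (1 - ζ) = 0 := by linear_combination h6
        rcases mul_eq_zero.1 h7 with h8 | h8
        · exact hζ.ne_zero (by norm_num) h8
        · exact hζ.ne_one (by norm_num) (sub_eq_zero.1 h8).symm
      exact (smul_eq_zero.1 e4).resolve_left e5
    have h1 := LinearMap.finrank_range_of_inj hinj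
    rw [← h1]
    refine Submodule.finrank_mono ?_
    rintro _ ⟨⟨v, hv⟩, rfl⟩
    have h4 := hτ ζ v hv
    change v + h.σ τ v ∈ _
    refine ⟨⟨?_, ?_⟩, ?_⟩
    · exact Submodule.add_mem _ hv.1.2 h4.1.2
    · exact Submodule.add_mem _ hv.2 h4.2
    · rw [SetLike.mem_coe, mem_Fix, map_add, ← mul_apply', τ_sq, map_one, Module.End.one_apply, add_comm]
  -- case B
  have hB : finrank (AlgebraicClosure F) (Fix h.σ c ⊓ Fix h.σ s ⊓ Fix h.σ t : Submodule _ _) ≠ h.d c ∨
      finrank (AlgebraicClosure F) (Fix h.σ a ⊓ Fix h.σ b : Submodule _ _) = 0 := by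
    by_cases hn : finrank (AlgebraicClosure F) (Fix h.σ c ⊓ Fix h.σ s ⊓ Fix h.σ t : Submodule _ _) = h.d c
    · exact Or.inr (h.caseB hn)
    · exact Or.inl hn
  have z1 : finrank (AlgebraicClosure F) (Fix h.σ c) = h.d c := rfl
  have z2 : finrank (AlgebraicClosure F) (Fix h.σ t) = h.d s := v11.symm
  have z3 : finrank (AlgebraicClosure F) (Fix h.σ r) = h.d r := rfl
  have z5 : finrank (AlgebraicClosure F) (Fix h.σ τ) = h.d s := v12.symm
  have z6 : finrank (AlgebraicClosure F) (Fix h.σ (t * τ)) = h.d s := v13.symm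
  rw [z1, K2] at K0
  rw [z2, z5, z6] at D2
  rw [z2, z3] at D1
  have F1 : h.d s ≤ 6 := by clear K0 K1 D1 D2 hL' S4 S5 S6 S7; omega
  have F2 : h.d a + h.d (a * b) ≤ 8 := by clear K0 K1 D1 D2 hL' S1 S5 S6 S7; omega
  have F3 : 2 * h.d (a * b) ≤ 10 := by clear K0 K1 D1 D2 hL' S1 S5 S4 S7; omega
  have F4 : h.d a + h.d y5 ≤ 8 := by clear K0 K1 D1 D2 hL' S1 S4 S6 S7; omega
  have F5 : 3 * h.d r ≤ 10 := by clear K0 K1 D1 D2 hL' S1 S5 S6 S4; omega
  exact arith E1 E2 E3 C1 k0 F1 F2 F3 F4 F5 v10 w5 P1 P2 P3 P4 K0 K1 hL' m1 m2 b1 D1 (by rw [D2]; ring) D5 D6 hB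

end OT

end Cfsg.Agent.H908.Ten
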