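import Cfsg.Agent.H908.SpTenDim
import Cfsg.Agent.H908.TenSeven

/-!
# `A₇` in `Sp₁₀(q)`, `q` a power of seven: dimensions of the fixed spaces (helper908, after `TenSeven`)
-/

set_option autoImplicit false
set_option linter.unusedSectionVars false

namespace Cfsg.Agent.H908.SpTen

open Cfsg Cfsg.Geo Module Equiv Equiv.Perm
open Matrix hiding mul_apply'
open Cfsg.Agent.H637.JW Cfsg.Agent.H637.SevenA7 Cfsg.Agent.H908.Ten

universe u

theorem finrank_ker_mul_le {K V : Type*} [Field K] [AddCommGroup V] [Module K V] [FiniteDimensional K V]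
    (f g : Module.End K V) : finrank K (LinearMap.ker (f * g)) ≤ finrank K (LinearMap.ker f) + finrank K (LinearMap.ker g) := by
  have h1 := LinearMap.finrank_range_add_finrank_ker (g.domRestrict (LinearMap.ker (f * g)))
  have h2 : finrank K (LinearMap.range (g.domRestrict (LinearMap.ker (f * g)))) ≤ finrank K (LinearMap.ker f) := by
    refine Submodule.finrank_mono ?_
    rintro _ ⟨⟨v, hv⟩, rfl⟩
    exact hv
  have h3 : finrank K (LinearMap.ker (g.domRestrict (LinearMap.ker (f * g)))) ≤ finrank K (LinearMap.ker g) := by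
    have h4 : ((LinearMap.ker (g.domRestrict (LinearMap.ker (f * g)))).map (LinearMap.ker (f * g)).subtype) ≤ LinearMap.ker g := by
      rintro _ ⟨v, hv, rfl⟩
      exact hv
    rw [← Submodule.finrank_map_subtype_eq]
    exact Submodule.finrank_mono h4
  omega

theorem finrank_ker_pow_le {K V : Type*} [Field K] [AddCommGroup V] [Module K V] [FiniteDimensional K V]
    (f : Module.End K V) (n : ℕ) : finrank K (LinearMap.ker (f ^ n)) ≤ n * finrank K (LinearMap.ker f) := by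
  induction n with
  | zero =>
    rw [pow_zero, zero_mul]
    have : LinearMap.ker (1 : Module.End K V) = ⊥ := LinearMap.ker_id
    rw [this, finrank_bot]
  | succ n ih =>
    rw [pow_succ]
    have h1 := finrank_ker_mul_le (f ^ n) f
    rw [add_mul, one_mul]
    omega

variable {F : Type u} [Field F]

namespace AT

variable (h : AT F A7)

/-- the intersection of the fixed spaces of commuting elements of coprime order -/
theorem fix_cs : Fix h.σ (c * s) = Fix h.σ c ⊓ Fix h.σ s := by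
  ext v
  rw [Submodule.mem_inf, mem_Fix, mem_Fix, mem_Fix]
  constructor
  · intro hv
    have hp : ∀ k : ℕ, h.σ ((c * s) ^ k) v = v := by
      intro k
      induction k with
      | zero => rw [pow_zero, map_one]; rfl
      | succ k ih => rw [pow_succ', mul_apply', ih, hv]
    exact ⟨by rw [← cs4]; exact hp 4, by rw [← cs3]; exact hp 3⟩
  · rintro ⟨h1, h2⟩
    rw [mul_apply', h2, h1]

/-- elements of order seven in characteristic seven -/
theorem two_le_d [CharP F 7] {x : A7} (hx : x ^ 7 = 1) : 2 ≤ h.d x := by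
  have hF : Fact (Nat.Prime 7) := ⟨by norm_num⟩
  have hK : CharP (AlgebraicClosure F) 7 := charP_of_injective_algebraMap (algebraMap F (AlgebraicClosure F)).injective 7
  have hE : CharP (Module.End (AlgebraicClosure F) (Fin 10 → AlgebraicClosure F)) 7 :=
    charP_of_injective_algebraMap (FaithfulSMul.algebraMap_injective (AlgebraicClosure F) _) 7
  have h1 : (h.σ x - 1) ^ 7 = 0 := by
    rw [sub_pow_char_of_commute 7 (Commute.one_right (h.σ x)), ← map_pow, hx, map_one, one_pow, sub_self]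
  have h2 : Fix h.σ x = LinearMap.ker (h.σ x - 1) := by
    ext v
    rw [mem_Fix, LinearMap.mem_ker, LinearMap.sub_apply, Module.End.one_apply, sub_eq_zero]
  have h3 := finrank_ker_pow_le (h.σ x - 1) 7
  rw [h1, LinearMap.ker_zero, finrank_top, Module.finrank_fin_fun, ← h2] at h3
  change 10 ≤ 7 * h.d x at h3
  omega

/-- Case B is impossible. -/
theorem caseB (hn : finrank (AlgebraicClosure F) (Fix h.σ c ⊓ Fix h.σ s ⊓ Fix h.σ t : Submodule _ _) = h.d c) :
    finrank (AlgebraicClosure F) (Fix h.σ a ⊓ Fix h.σ b : Submodule _ _) = 0 := by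
  have h1 : Fix h.σ c ⊓ Fix h.σ s ⊓ Fix h.σ t = Fix h.σ c :=
    Submodule.eq_of_le_of_finrank_eq (inf_le_left.trans inf_le_left) hn
  have h2 : ∀ v, h.σ c v = v → h.σ s v = v := by
    intro v hv
    have h3 : v ∈ Fix h.σ c ⊓ Fix h.σ s ⊓ Fix h.σ t := by rw [h1]; exact mem_Fix.2 hv
    exact mem_Fix.1 h3.1.2
  have key : ∀ (g x z : A7) (v : Fin 10 → AlgebraicClosure F), g⁻¹ * x * g = c → g⁻¹ * z * g = s →
      h.σ x v = v → h.σ z v = v := by
    intro g x z v e1 e2 hv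
    have h3 : h.σ c (h.σ g⁻¹ v) = h.σ g⁻¹ v := by
      rw [← e1, ← mul_apply', mul_assoc, mul_inv_cancel, mul_one, mul_apply', hv]
    have h4 := h2 _ h3
    have h5 := congrArg (h.σ g) h4
    rw [← mul_apply', ← mul_apply', ← mul_apply', mul_inv_cancel, map_one, Module.End.one_apply, ← e2] at h5
    have h6 : g * (g⁻¹ * z * g) * g⁻¹ = z := by group
    rwa [h6] at h5
  rw [Submodule.finrank_eq_zero, eq_bot_iff]
  rintro v ⟨ha, hb⟩
  rw [SetLike.mem_coe, mem_Fix] at ha hb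
  rw [Submodule.mem_bot]
  refine h.eq_zero_of_fixed fun g => ?_
  have h3 := genB (stab h.σ v) ha hb (key g1 a x1 v g1_c g1_s ha) (key g2 b z2 v g2_c g2_s hb)
  have h4 : g ∈ stab h.σ v := by rw [h3]; trivial
  exact h4

theorem scott_gen {x y : A7} (hg : Gen x y) : h.d x + h.d y + h.d (x * y) ≤ 10 := by
  refine h.scott fun v hx hy => h.eq_zero_of_fixed fun g => ?_
  have h1 := hg (stab h.σ v) hx hy
  have h2 : g ∈ stab h.σ v := by rw [h1]; trivial
  exact h2

/-- Klein four group on the whole space -/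
theorem klein_top (h2 : (2 : AlgebraicClosure F) ≠ 0) :
    10 + 2 * finrank (AlgebraicClosure F) (Fix h.σ s ⊓ Fix h.σ t : Submodule _ _) = 3 * h.d s := by
  have h1 := klein3 (σ := h.σ) h2 s_sq t_sq s_t a_s' a_t' (U := ⊤) (fun _ _ => trivial) (fun _ _ => trivial)
    (fun _ _ => trivial)
  rw [top_inf_eq, finrank_top, Module.finrank_fin_fun] at h1
  exact h1

set_option maxHeartbeats 4000000 in
/-- **The dimensions of the fixed spaces** in characteristic seven. -/
theorem dims [CharP F 7] :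
    (h.d s = 6 ∧ h.d a = 6 ∧ h.d (a * b) = 2 ∧ h.d r = 2 ∧ h.d y5 = 2 ∧ h.d (c * s) = 2) := by
  have hK : CharP (AlgebraicClosure F) 7 := charP_of_injective_algebraMap (algebraMap F (AlgebraicClosure F)).injective 7
  have hc : ∀ n : ℕ, ¬ 7 ∣ n → (n : AlgebraicClosure F) ≠ 0 := by
    intro n hn h0
    exact hn ((CharP.cast_eq_zero_iff (AlgebraicClosure F) 7 n).1 h0)
  have h2 : (2 : AlgebraicClosure F) ≠ 0 := by exact_mod_cast hc 2 (by norm_num)
  have h3 : (3 : AlgebraicClosure F) ≠ 0 := by exact_mod_cast hc 3 (by norm_num)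
  have h3' : ((3 : ℕ) : AlgebraicClosure F) ≠ 0 := hc 3 (by norm_num)
  have h5 : (5 : AlgebraicClosure F) ≠ 0 := by exact_mod_cast hc 5 (by norm_num)
  obtain ⟨ζ, hζ⟩ := exists_root (K := AlgebraicClosure F) (N := 3) h3'
  have hζ3 := hζ.pow_eq_one
  -- elements of order three
  obtain ⟨x, y, E1, E2, E3⟩ := h.dimE h3 a_pow b_pow ab_comm g_a g_b
  obtain ⟨C1, C2⟩ := h.dim3 h3 hζ c_pow
  -- Klein four groups
  have k0 := h.klein_top h2
  -- Scott
  have S1 := h.scott_gen gen1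
  have S4 := h.scott_gen gen4
  have S5 := h.scott_gen gen5
  have S6 := h.scott_gen gen6
  have S7 := h.scott_gen gen7
  have u1 := h.two_le_d (x := y1) (by decide +kernel)
  have u2 := h.two_le_d (x := x1 * y1) (by decide +kernel)
  have u4 := h.two_le_d (x := x2 * y4) (by decide +kernel)
  have u5 := h.two_le_d (x := x2 * y5) (by decide +kernel)
  have v1 := h.d_conj cj_x1
  have v2 := h.d_conj cj_x2
  have v3 := h.d_conj cj_x3
  have v4 := h.d_conj cj_y4
  have v6 := h.d_conj cj_x6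
  have v7 := h.d_conj cj_x7
  have v8 := h.d_conj cj_y7
  have v9 := h.d_conj cj_x7_y7
  have v10 := h.d_conj cj_c
  have v11 := h.d_conj cj_t
  have v12 := h.d_conj cj_τ
  have v13 := h.d_conj cj_t_τ
  have w5 := h.dim5 h5 (x := y5) (d := H908.Ten.d5) (by decide +kernel) (by decide +kernel) (by decide +kernel)
  -- parity
  obtain ⟨p1, P1⟩ := h.d_even (N := 2) (hc 2 (by norm_num)) (g := s) (by decide +kernel)
  obtain ⟨p2, P2⟩ := h.d_even (N := 3) (hc 3 (by norm_num)) (g := a) (by decide +kernel)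
  obtain ⟨p3, P3⟩ := h.d_even (N := 3) (hc 3 (by norm_num)) (g := a * b) (by decide +kernel)
  obtain ⟨p4, P4⟩ := h.d_even (N := 4) (hc 4 (by norm_num)) (g := r) (by decide +kernel)
  obtain ⟨p5, P5⟩ := h.even_two (N := 2) (hc 2 (by norm_num)) (g := s) (k := t) (by decide +kernel) (by decide +kernel) s_t
  -- `c` and the Klein four group
  have inv : ∀ (g k : A7) (i : AlgebraicClosure F), g * k = k * g → ∀ v ∈ (h.σ g).eigenspace i, h.σ k v ∈ (h.σ g).eigenspace i := by
    intro g k i hgk v hv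
    rw [Module.End.mem_eigenspace_iff] at hv ⊢
    rw [← mul_apply', hgk, mul_apply', hv, map_smul]
  have hca : c * a⁻¹ = a⁻¹ * c := by decide +kernel
  have K0 := klein3 (σ := h.σ) h2 s_sq t_sq s_t a_s' a_t' (U := Fix h.σ c) (inv c s 1 c_s') (inv c t 1 c_t') (inv c a⁻¹ 1 hca)
  have K1 := klein3 (σ := h.σ) h2 s_sq t_sq s_t a_s' a_t' (U := (h.σ c).eigenspace ζ) (inv c s ζ c_s') (inv c t ζ c_t')
    (inv c a⁻¹ ζ hca)
  have K2 : finrank (AlgebraicClosure F) (Fix h.σ c ⊓ Fix h.σ s : Submodule _ _) = h.d (c * s) := by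
    rw [← h.fix_cs]; rfl
  -- decomposition of the fixed space of the Klein four group under `c`
  have hL := sum_inf_eigen h3' hζ (A := h.σ c) (by rw [← map_pow, c_pow, map_one]) (U := Fix h.σ s ⊓ Fix h.σ t) (by
    rintro v ⟨hv1, hv2⟩
    rw [SetLike.mem_coe, mem_Fix] at hv1 hv2
    refine ⟨?_, ?_⟩
    · rw [SetLike.mem_coe, mem_Fix, ← mul_apply', ← c_s', mul_apply', hv1]
    · rw [SetLike.mem_coe, mem_Fix, ← mul_apply', ← c_t', mul_apply', hv2])
  have hL' : finrank (AlgebraicClosure F) ((Fix h.σ s ⊓ Fix h.σ t) ⊓ (h.σ c).eigenspace (ζ ^ (0 : ZMod 3).val) : Submodule _ _) +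
      finrank (AlgebraicClosure F) ((Fix h.σ s ⊓ Fix h.σ t) ⊓ (h.σ c).eigenspace (ζ ^ (1 : ZMod 3).val) : Submodule _ _) +
      finrank (AlgebraicClosure F) ((Fix h.σ s ⊓ Fix h.σ t) ⊓ (h.σ c).eigenspace (ζ ^ (2 : ZMod 3).val) : Submodule _ _) =
      finrank (AlgebraicClosure F) (Fix h.σ s ⊓ Fix h.σ t : Submodule _ _) := by
    rw [← hL]
    exact (Fin.sum_univ_three (fun i : Fin 3 => finrank (AlgebraicClosure F)
      ((Fix h.σ s ⊓ Fix h.σ t) ⊓ (h.σ c).eigenspace (ζ ^ (i : ZMod 3).val) : Submodule _ _))).symm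
  have q0 : ((Fix h.σ s ⊓ Fix h.σ t) ⊓ (h.σ c).eigenspace (ζ ^ (0 : ZMod 3).val) : Submodule (AlgebraicClosure F) _) =
      Fix h.σ c ⊓ Fix h.σ s ⊓ Fix h.σ t := by
    rw [ZMod.val_zero, pow_zero, inf_comm, inf_assoc]
    rfl
  have q1 : ((Fix h.σ s ⊓ Fix h.σ t) ⊓ (h.σ c).eigenspace (ζ ^ (1 : ZMod 3).val) : Submodule (AlgebraicClosure F) _) =
      (h.σ c).eigenspace ζ ⊓ Fix h.σ s ⊓ Fix h.σ t := by
    have : (1 : ZMod 3).val = 1 := rfl
    rw [this, pow_one, inf_comm, inf_assoc]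
  have q2 : ((Fix h.σ s ⊓ Fix h.σ t) ⊓ (h.σ c).eigenspace (ζ ^ (2 : ZMod 3).val) : Submodule (AlgebraicClosure F) _) =
      (h.σ c).eigenspace (ζ ^ 2) ⊓ Fix h.σ s ⊓ Fix h.σ t := by
    have : (2 : ZMod 3).val = 2 := rfl
    rw [this, inf_comm, inf_assoc]
  rw [q0, q1, q2] at hL'
  -- the involution `τ` swaps the two eigenspaces
  have hτ : ∀ (ω : AlgebraicClosure F) (v : Fin 10 → AlgebraicClosure F),
      v ∈ (h.σ c).eigenspace ω ⊓ Fix h.σ s ⊓ Fix h.σ t →
      h.σ τ v ∈ (h.σ c).eigenspace (ω ^ 2) ⊓ Fix h.σ s ⊓ Fix h.σ t := by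
    rintro ω v ⟨⟨hv1, hv2⟩, hv3⟩
    rw [SetLike.mem_coe, Module.End.mem_eigenspace_iff] at hv1
    rw [SetLike.mem_coe, mem_Fix] at hv2 hv3
    have e1 : ∀ z : A7, h.σ z (h.σ τ v) = h.σ τ (h.σ (τ⁻¹ * z * τ) v) := by
      intro z
      rw [← mul_apply', ← mul_apply']
      congr 2
      group
    refine ⟨⟨?_, ?_⟩, ?_⟩
    · rw [SetLike.mem_coe, Module.End.mem_eigenspace_iff, e1, τ_c, mul_apply', hv1, map_smul, hv1, smul_smul, map_smul, pow_two]
    · rw [SetLike.mem_coe, mem_Fix, e1, τ_s, mul_apply', hv3, hv2]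
    · rw [SetLike.mem_coe, mem_Fix, e1, τ_t, hv3]
  have m1 : finrank (AlgebraicClosure F) ((h.σ c).eigenspace ζ ⊓ Fix h.σ s ⊓ Fix h.σ t : Submodule _ _) ≤
      finrank (AlgebraicClosure F) ((h.σ c).eigenspace (ζ ^ 2) ⊓ Fix h.σ s ⊓ Fix h.σ t : Submodule _ _) :=
    finrank_le_of_map (σ := h.σ) τ (hτ ζ)
  have m2 : finrank (AlgebraicClosure F) ((h.σ c).eigenspace (ζ ^ 2) ⊓ Fix h.σ s ⊓ Fix h.σ t : Submodule _ _) ≤
      finrank (AlgebraicClosure F) ((h.σ c).eigenspace ζ ⊓ Fix h.σ s ⊓ Fix h.σ t : Submodule _ _) := by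
    refine finrank_le_of_map (σ := h.σ) τ fun v hv => ?_
    have := hτ _ v hv
    rwa [show (ζ ^ 2) ^ 2 = ζ by rw [← pow_mul]; calc ζ ^ (2 * 2) = ζ ^ 3 * ζ := by ring
        _ = ζ := by rw [hζ3, one_mul]] at this
  -- bounds
  have b1 : finrank (AlgebraicClosure F) ((h.σ c).eigenspace ζ ⊓ Fix h.σ s ⊓ Fix h.σ t : Submodule _ _) ≤
      finrank (AlgebraicClosure F) ((h.σ c).eigenspace ζ) := Submodule.finrank_mono (inf_le_left.trans inf_le_left)
  -- dihedral group of order eight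
  have D1 := klein (σ := h.σ) h2 (a := s) (b := τ) (U := Fix h.σ t)
    (fun v _ => by rw [← mul_apply', s_sq, map_one]; rfl) (fun v _ => by rw [← mul_apply', τ_sq, map_one]; rfl)
    (fun v hv => by
      rw [mem_Fix] at hv
      rw [← mul_apply', s_τ, mul_apply', mul_apply', hv])
    (inv t s 1 s_t.symm) (inv t τ 1 t_τ)
  have D2 := klein (σ := h.σ) h2 (a := t) (b := τ) (U := ⊤)
    (fun v _ => by rw [← mul_apply', t_sq, map_one]; rfl) (fun v _ => by rw [← mul_apply', τ_sq, map_one]; rfl)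
    (fun v _ => by rw [← mul_apply', ← mul_apply', t_τ]) (fun _ _ => trivial) (fun _ _ => trivial)
  rw [top_inf_eq, top_inf_eq, top_inf_eq, finrank_top, Module.finrank_fin_fun] at D2
  have D3 : (Fix h.σ t ⊓ Fix h.σ (s * τ) : Submodule (AlgebraicClosure F) _) = Fix h.σ r := by
    refine le_antisymm inf_le_right (le_inf (fun v hv => ?_) le_rfl)
    rw [mem_Fix] at hv ⊢
    rw [← r_sq, mul_apply', hv, hv]
  have D4 : (Fix h.σ t ⊓ Fix h.σ s : Submodule (AlgebraicClosure F) _) = Fix h.σ s ⊓ Fix h.σ t := inf_comm _ _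
  rw [D3, D4] at D1
  have D5 : finrank (AlgebraicClosure F) (Fix h.σ s ⊓ Fix h.σ t ⊓ Fix h.σ τ : Submodule _ _) ≤
      finrank (AlgebraicClosure F) (Fix h.σ s ⊓ Fix h.σ t : Submodule _ _) := Submodule.finrank_mono inf_le_left
  have D6 : finrank (AlgebraicClosure F) ((h.σ c).eigenspace ζ ⊓ Fix h.σ s ⊓ Fix h.σ t : Submodule _ _) ≤
      finrank (AlgebraicClosure F) (Fix h.σ s ⊓ Fix h.σ t ⊓ Fix h.σ τ : Submodule _ _) := by
    set W := ((h.σ c).eigenspace ζ ⊓ Fix h.σ s ⊓ Fix h.σ t : Submodule (AlgebraicClosure F) _) with hW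
    have hinj : Function.Injective ((1 + h.σ τ : Module.End (AlgebraicClosure F) (Fin 10 → AlgebraicClosure F)).domRestrict W) := by
      rw [← LinearMap.ker_eq_bot, LinearMap.ker_eq_bot']
      rintro ⟨v, hv⟩ h0
      apply Subtype.ext
      have h1 : v + h.σ τ v = 0 := h0
      have e2 := (hτ ζ v hv).1.1
      have e1 := hv.1.1
      rw [SetLike.mem_coe, Module.End.mem_eigenspace_iff] at e1 e2
      have e3 : h.σ τ v = -v := (neg_eq_of_add_eq_zero_right h1).symm
      rw [e3, map_neg, e1, smul_neg, neg_inj] at e2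
      have e4 : (ζ - ζ ^ 2) • v = 0 := by rw [sub_smul, e2, sub_self]
      have e5 : ζ - ζ ^ 2 ≠ 0 := by
        intro h6
        have h7 : ζ * (1 - ζ) = 0 := by linear_combination h6
        rcases mul_eq_zero.1 h7 with h8 | h8
        · exact hζ.ne_zero (by norm_num) h8
        · exact hζ.ne_one (by norm_num) (sub_eq_zero.1 h8).symm
      exact (smul_eq_zero.1 e4).resolve_left e5
    have h1 := LinearMap.finrank_range_of_inj hinj
    rw [← h1]
    refine Submodule.finrank_mono ?_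
    rintro _ ⟨⟨v, hv⟩, rfl⟩
    have h4 := hτ ζ v hv
    change v + h.σ τ v ∈ _
    refine ⟨⟨?_, ?_⟩, ?_⟩
    · exact Submodule.add_mem _ hv.1.2 h4.1.2
    · exact Submodule.add_mem _ hv.2 h4.2
    · rw [SetLike.mem_coe, mem_Fix, map_add, ← mul_apply', τ_sq, map_one, Module.End.one_apply, add_comm]
  -- case B
  have hB : finrank (AlgebraicClosure F) (Fix h.σ c ⊓ Fix h.σ s ⊓ Fix h.σ t : Submodule _ _) ≠ h.d c ∨
      finrank (AlgebraicClosure F) (Fix h.σ a ⊓ Fix h.σ b : Submodule _ _) = 0 := by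
    by_cases hn : finrank (AlgebraicClosure F) (Fix h.σ c ⊓ Fix h.σ s ⊓ Fix h.σ t : Submodule _ _) = h.d c
    · exact Or.inr (h.caseB hn)
    · exact Or.inl hn
  have z1 : finrank (AlgebraicClosure F) (Fix h.σ c) = h.d c := rfl
  have z2 : finrank (AlgebraicClosure F) (Fix h.σ t) = h.d s := v11.symm
  have z3 : finrank (AlgebraicClosure F) (Fix h.σ r) = h.d r := rfl
  have z5 : finrank (AlgebraicClosure F) (Fix h.σ τ) = h.d s := v12.symm
  have z6 : finrank (AlgebraicClosure F) (Fix h.σ (t * τ)) = h.d s := v13.symm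
  rw [z1, K2] at K0
  rw [z2, z5, z6] at D2
  rw [z2, z3] at D1
  have F1 : h.d s ≤ 6 := by clear K0 K1 D1 D2 hL' S4 S5 S6 S7; omega
  have F2 : h.d a + h.d (a * b) ≤ 8 := by clear K0 K1 D1 D2 hL' S1 S5 S6 S7; omega
  have F3 : 2 * h.d (a * b) ≤ 10 := by clear K0 K1 D1 D2 hL' S1 S5 S4 S7; omega
  have F4 : h.d a + h.d y5 ≤ 8 := by clear K0 K1 D1 D2 hL' S1 S4 S6 S7; omega
  have F5 : 3 * h.d r ≤ 10 := by clear K0 K1 D1 D2 hL' S1 S5 S6 S4; omega
  rcases arith E1 E2 E3 C1 k0 F1 F2 F3 F4 F5 v10 w5 P1 P2 P3 P4 K0 K1 hL' m1 m2 b1 D1 (by rw [D2]; ring) D5 D6 hB with hA | hC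
  · exfalso
    have hA1 := hA.1
    clear K0 K1 D1 D2 hL' S1 S5 S6 S4 S7 hA
    omega
  · exact hC

end AT

end Cfsg.Agent.H908.SpTen
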