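import Cfsg.Agent.H908.TenSeven
import Cfsg.Agent.H908.LamPerm
import Cfsg.Agent.H908.AltFacts

/-!
# `A₇` in `Ω₁₀(q)`, `q` a power of seven: the traces (helper908)
-/

set_option autoImplicit false
set_option linter.unusedSectionVars false

namespace Cfsg.Agent.H908.Ten

open Cfsg Cfsg.Geo Module Equiv Equiv.Perm
open Matrix hiding mul_apply'
open Cfsg.Agent.H637.JW Cfsg.Agent.H637.SevenA7
open Cfsg.Agent.H908.Lam (fx fx_conj)

universe u

theorem type_one {x : A7} (h : (x : Perm (Fin 7)).cycleType = 0) : x = 1 := Subtype.ext (cycleType_eq_zero.1 h)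

/-- the conjugacy classes of elements of order not seven -/
theorem classes (x : A7) : x = 1 ∨ IsConj a x ∨ IsConj y5 x ∨ (x : Perm (Fin 7)).cycleType = {7} ∨ IsConj s x ∨
    IsConj (a * b) x ∨ IsConj r x ∨ IsConj (c * s) x := by
  rcases Cfsg.Agent.H525.AltK.mem_types (le_refl 7) x with h | h | h | h | h | h | h | h
  · exact Or.inl (type_one h)
  · exact Or.inr (Or.inl (Alt.conj_of_type (κ := swap 3 4) (by rw [h]; decide +kernel) (by decide +kernel) (by decide +kernel)))
  · exact Or.inr (Or.inr (Or.inl (Alt.conj_of_type (κ := swap 5 6) (by rw [h]; decide +kernel) (by decide +kernel)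
      (by decide +kernel))))
  · exact Or.inr (Or.inr (Or.inr (Or.inl h)))
  · exact Or.inr (Or.inr (Or.inr (Or.inr (Or.inl (Alt.conj_of_type (κ := swap 5 6) (by rw [h]; decide +kernel)
      (by decide +kernel) (by decide +kernel))))))
  · exact Or.inr (Or.inr (Or.inr (Or.inr (Or.inr (Or.inl (Alt.conj_of_type (κ := swap 0 3 * swap 1 4 * swap 2 5)
      (by rw [h]; decide +kernel) (by decide +kernel) (by decide +kernel)))))))
  · exact Or.inr (Or.inr (Or.inr (Or.inr (Or.inr (Or.inr (Or.inl (Alt.conj_of_type (κ := swap 4 5)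
      (by rw [h]; decide +kernel) (by decide +kernel) (by decide +kernel))))))))
  · exact Or.inr (Or.inr (Or.inr (Or.inr (Or.inr (Or.inr (Or.inr (Alt.conj_of_type (κ := swap 0 1)
      (by rw [h]; decide +kernel) (by decide +kernel) (by decide +kernel))))))))

/-- seven-cycles -/
theorem conj_seven {x : A7} (h : (x : Perm (Fin 7)).cycleType = {7}) : IsConj (y2 : Perm (Fin 7)) x :=
  isConj_iff_cycleType_eq.2 (by rw [h]; decide +kernel)

theorem fx_of_isConj {F : Type*} [Field F] {x y : Perm (Fin 7)} (h : IsConj x y) : fx F x = fx F y := by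
  obtain ⟨g, rfl⟩ := isConj_iff.1 h
  exact (fx_conj g x).symm

theorem fx_sq_of_isConj {F : Type*} [Field F] {x y : Perm (Fin 7)} (h : IsConj x y) : fx F (x * x) = fx F (y * y) := by
  obtain ⟨g, rfl⟩ := isConj_iff.1 h
  have h1 : g * x * g⁻¹ * (g * x * g⁻¹) = g * (x * x) * g⁻¹ := by group
  rw [h1, fx_conj]

theorem isConj_coe {x y : A7} (h : IsConj x y) : IsConj (x : Perm (Fin 7)) (y : Perm (Fin 7)) := by
  obtain ⟨g, rfl⟩ := isConj_iff.1 h
  exact isConj_iff.2 ⟨g, rfl⟩

theorem fx_card {F : Type*} [Field F] (σ : Perm (Fin 7)) {n : ℕ} (h : (Finset.univ.filter fun a => σ a = a).card = n) :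
    fx F σ = n := by
  unfold fx
  rw [Finset.sum_boole, h]

theorem a_sq_conj : IsConj a (a ^ 2) := isConj_of_eq (mk (swap 0 1 * swap 3 4)) (by decide +kernel)
theorem ab_sq_conj : IsConj (a * b) ((a * b) ^ 2) := isConj_of_eq (mk (swap 0 1 * swap 3 4)) (by decide +kernel)
theorem r_two_conj : IsConj s (r ^ 2) := isConj_of_eq (mk ((swap 1 2 * swap 2 3))) (by decide +kernel)
theorem r_three_conj : IsConj r (r ^ 3) := isConj_of_eq (mk (swap 1 3 * swap 4 5)) (by decide +kernel)
theorem y5_two_conj : IsConj y5 (y5 ^ 2) := isConj_of_eq (mk (swap 1 3 * swap 3 4 * swap 4 2 * swap 5 6)⁻¹) (by decide +kernel)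
theorem y5_four_conj : IsConj (y5 ^ 2) (y5 ^ 4) := isConj_of_eq (mk (swap 1 3 * swap 3 4 * swap 4 2 * swap 5 6)⁻¹) (by decide +kernel)
theorem y5_three_conj : IsConj (y5 ^ 4) (y5 ^ 3) := isConj_of_eq (mk (swap 1 3 * swap 3 4 * swap 4 2 * swap 5 6)⁻¹) (by decide +kernel)
theorem cs_two_conj : IsConj a ((c * s) ^ 2) := isConj_of_eq (mk (swap 0 4 * (swap 1 6 * swap 6 2 * swap 2 5))) (by decide +kernel)
theorem cs_five_conj : IsConj (c * s) ((c * s) ^ 5) := isConj_of_eq (mk (swap 4 5 * swap 0 1)) (by decide +kernel)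

variable {F : Type u} [Field F]

namespace OT

variable (h : OT F A7)

/-- the trace -/
def χ (x : A7) : F := (h.ρ x : Matrix (Fin 10) (Fin 10) F).trace

theorem χ_conj {x y : A7} (hxy : IsConj x y) : h.χ x = h.χ y := by
  obtain ⟨g, rfl⟩ := isConj_iff.1 hxy
  unfold χ
  rw [map_mul, map_mul, map_inv, Units.val_mul, Units.val_mul, Matrix.trace_mul_comm, ← mul_assoc, ← Units.val_mul,
    inv_mul_cancel, Units.val_one, one_mul]

theorem χ_one : h.χ 1 = 10 := by
  unfold χ
  rw [map_one, Units.val_one, Matrix.trace_one, Fintype.card_fin]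
  norm_num

/-- the traces on the `7'`-classes -/
theorem χ_vals [CharP F 7] : h.χ s = 2 * (h.d s : F) - 10 ∧ 2 * h.χ a = 3 * (h.d a : F) - 10 ∧
    2 * h.χ (a * b) = 3 * (h.d (a * b) : F) - 10 ∧ 2 * h.χ r = 4 * (h.d r : F) - 10 - h.χ s ∧
    4 * h.χ y5 = 5 * (h.d y5 : F) - 10 ∧ 2 * h.χ (c * s) = 6 * (h.d (c * s) : F) - 10 - 2 * h.χ a - h.χ s := by
  have hc : ∀ n : ℕ, ¬ 7 ∣ n → (n : F) ≠ 0 := by
    intro n hn h0
    exact hn ((CharP.cast_eq_zero_iff F 7 n).1 h0)
  have t2 := h.sum_tr (N := 2) (hc 2 (by norm_num)) (x := s) (by decide +kernel)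
  have t3 := h.sum_tr (N := 3) (hc 3 (by norm_num)) (x := a) (by decide +kernel)
  have t33 := h.sum_tr (N := 3) (hc 3 (by norm_num)) (x := a * b) (by decide +kernel)
  have t4 := h.sum_tr (N := 4) (hc 4 (by norm_num)) (x := r) (by decide +kernel)
  have t5 := h.sum_tr (N := 5) (hc 5 (by norm_num)) (x := y5) (by decide +kernel)
  have t6 := h.sum_tr (N := 6) (hc 6 (by norm_num)) (x := c * s) (by decide +kernel)
  simp only [Finset.sum_range_succ, Finset.sum_range_zero, zero_add] at t2 t3 t33 t4 t5 t6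
  change h.χ _ + h.χ _ = _ at t2
  change h.χ _ + h.χ _ + h.χ _ = _ at t3
  change h.χ _ + h.χ _ + h.χ _ = _ at t33
  change h.χ _ + h.χ _ + h.χ _ + h.χ _ = _ at t4
  change h.χ _ + h.χ _ + h.χ _ + h.χ _ + h.χ _ = _ at t5
  change h.χ _ + h.χ _ + h.χ _ + h.χ _ + h.χ _ + h.χ _ = _ at t6
  rw [pow_zero, h.χ_one, pow_one] at t2 t3 t33 t4 t5 t6
  rw [← h.χ_conj a_sq_conj] at t3
  rw [← h.χ_conj ab_sq_conj] at t33
  rw [← h.χ_conj r_two_conj, ← h.χ_conj r_three_conj] at t4
  rw [← h.χ_conj y5_three_conj, ← h.χ_conj y5_four_conj, ← h.χ_conj y5_two_conj] at t5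
  rw [← h.χ_conj cs_two_conj, ← h.χ_conj cs_five_conj, cs3, cs4, ← h.χ_conj cj_c] at t6
  push_cast at t2 t3 t33 t4 t5 t6
  refine ⟨?_, ?_, ?_, ?_, ?_, ?_⟩
  · linear_combination t2
  · linear_combination t3
  · linear_combination t33
  · linear_combination t4
  · linear_combination t5
  · linear_combination t6

theorem χ_seven [CharP F 7] {x : A7} (hx : (x : Perm (Fin 7)).cycleType = {7}) : h.χ x = 3 := by
  have hF : Fact (Nat.Prime 7) := ⟨by norm_num⟩
  have h7 : (7 : F) = 0 := by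
    have := CharP.cast_eq_zero F 7
    exact_mod_cast this
  have h1 : x ^ 7 = 1 := by
    apply Subtype.ext
    have h2 : orderOf (x : Perm (Fin 7)) = 7 := by rw [← lcm_cycleType, hx]; rfl
    have h3 := pow_orderOf_eq_one (x : Perm (Fin 7))
    rw [h2] at h3
    exact h3
  have h2 : h.χ x ^ 7 = h.χ (x ^ 7) := by
    unfold χ
    rw [map_pow, Units.val_pow_eq_pow_val]
    have := H911.Base.trace_pow_char_pow 7 (h.ρ x : Matrix (Fin 10) (Fin 10) F) 1
    rw [pow_one] at this
    exact this.symm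
  rw [h1, h.χ_one] at h2
  apply frobenius_inj F 7
  rw [frobenius_def, frobenius_def, h2]
  linear_combination (-311 : F) * h7

/-- **Case A**: the traces are those of `Λ²` of the heart. -/
theorem trace_A [CharP F 7] (hd : h.d s = 4 ∧ h.d a = 4 ∧ h.d (a * b) = 4 ∧ h.d r = 2 ∧ h.d y5 = 2 ∧ h.d (c * s) = 2) (x : A7) :
    2 * h.χ x = (fx F (x : Perm (Fin 7)) - 2) ^ 2 - (fx F ((x : Perm (Fin 7)) * (x : Perm (Fin 7))) - 2) := by
  obtain ⟨e1, e2, e3, e4, e5, e6⟩ := hd
  obtain ⟨f1, f2, f3, f4, f5, f6⟩ := h.χ_vals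
  rw [e1] at f1
  rw [e2] at f2
  rw [e3] at f3
  rw [e4] at f4
  rw [e5] at f5
  rw [e6] at f6
  push_cast at f1 f2 f3 f4 f5 f6
  have h7 : (7 : F) = 0 := by
    have := CharP.cast_eq_zero F 7
    exact_mod_cast this
  rcases classes x with rfl | hx | hx | hx | hx | hx | hx | hx
  · rw [h.χ_one, fx_card (n := 7) _ (by decide +kernel), fx_card (n := 7) _ (by decide +kernel)]
    push_cast
    ring
  · rw [← h.χ_conj hx, ← fx_of_isConj (isConj_coe hx), ← fx_sq_of_isConj (isConj_coe hx),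
      fx_card (n := 4) _ (by decide +kernel), fx_card (n := 4) _ (by decide +kernel)]
    push_cast
    linear_combination f2
  · rw [← h.χ_conj hx, ← fx_of_isConj (isConj_coe hx), ← fx_sq_of_isConj (isConj_coe hx),
      fx_card (n := 2) _ (by decide +kernel), fx_card (n := 2) _ (by decide +kernel)]
    push_cast
    have h4 : (4 : F) ≠ 0 := by
      intro h4
      exact one_ne_zero (α := F) (by linear_combination 2 * h4 - h7)
    have h5 : h.χ y5 = 0 := by
      have h6 : 4 * h.χ y5 = 0 := by linear_combination f5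
      exact (mul_eq_zero.1 h6).resolve_left h4
    rw [h5]
    ring
  · rw [h.χ_seven hx, ← fx_of_isConj (conj_seven hx), ← fx_sq_of_isConj (conj_seven hx),
      fx_card (n := 0) _ (by decide +kernel), fx_card (n := 0) _ (by decide +kernel)]
    push_cast
    ring
  · rw [← h.χ_conj hx, ← fx_of_isConj (isConj_coe hx), ← fx_sq_of_isConj (isConj_coe hx),
      fx_card (n := 3) _ (by decide +kernel), fx_card (n := 7) _ (by decide +kernel)]
    push_cast
    linear_combination 2 * f1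
  · rw [← h.χ_conj hx, ← fx_of_isConj (isConj_coe hx), ← fx_sq_of_isConj (isConj_coe hx),
      fx_card (n := 1) _ (by decide +kernel), fx_card (n := 1) _ (by decide +kernel)]
    push_cast
    linear_combination f3
  · rw [← h.χ_conj hx, ← fx_of_isConj (isConj_coe hx), ← fx_sq_of_isConj (isConj_coe hx),
      fx_card (n := 1) _ (by decide +kernel), fx_card (n := 3) _ (by decide +kernel)]
    push_cast
    linear_combination f4 - f1
  · rw [← h.χ_conj hx, ← fx_of_isConj (isConj_coe hx), ← fx_sq_of_isConj (isConj_coe hx),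
      fx_card (n := 0) _ (by decide +kernel), fx_card (n := 4) _ (by decide +kernel)]
    push_cast
    linear_combination f6 - f2 - f1

/-- **Case C**: the traces are those of twice the heart. -/
theorem trace_C [CharP F 7] (hd : h.d s = 6 ∧ h.d a = 6 ∧ h.d (a * b) = 2 ∧ h.d r = 2 ∧ h.d y5 = 2 ∧ h.d (c * s) = 2) (x : A7) :
    h.χ x = 2 * (fx F (x : Perm (Fin 7)) - 2) := by
  obtain ⟨e1, e2, e3, e4, e5, e6⟩ := hd
  obtain ⟨f1, f2, f3, f4, f5, f6⟩ := h.χ_vals
  rw [e1] at f1
  rw [e2] at f2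
  rw [e3] at f3
  rw [e4] at f4
  rw [e5] at f5
  rw [e6] at f6
  push_cast at f1 f2 f3 f4 f5 f6
  have h7 : (7 : F) = 0 := by
    have := CharP.cast_eq_zero F 7
    exact_mod_cast this
  have h2 : (2 : F) ≠ 0 := by
    intro h2
    exact one_ne_zero (α := F) (by linear_combination h7 - 3 * h2)
  have h4 : (4 : F) ≠ 0 := by
    intro h4
    exact one_ne_zero (α := F) (by linear_combination 2 * h4 - h7)
  rcases classes x with rfl | hx | hx | hx | hx | hx | hx | hx
  · rw [h.χ_one, fx_card (n := 7) _ (by decide +kernel)]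
    push_cast
    ring
  · rw [← h.χ_conj hx, ← fx_of_isConj (isConj_coe hx), fx_card (n := 4) _ (by decide +kernel)]
    push_cast
    apply mul_left_cancel₀ h2
    linear_combination f2
  · rw [← h.χ_conj hx, ← fx_of_isConj (isConj_coe hx), fx_card (n := 2) _ (by decide +kernel)]
    push_cast
    apply mul_left_cancel₀ h4
    linear_combination f5
  · rw [h.χ_seven hx, ← fx_of_isConj (conj_seven hx), fx_card (n := 0) _ (by decide +kernel)]
    push_cast
    linear_combination h7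
  · rw [← h.χ_conj hx, ← fx_of_isConj (isConj_coe hx), fx_card (n := 3) _ (by decide +kernel)]
    push_cast
    linear_combination f1
  · rw [← h.χ_conj hx, ← fx_of_isConj (isConj_coe hx), fx_card (n := 1) _ (by decide +kernel)]
    push_cast
    apply mul_left_cancel₀ h2
    linear_combination f3
  · rw [← h.χ_conj hx, ← fx_of_isConj (isConj_coe hx), fx_card (n := 1) _ (by decide +kernel)]
    push_cast
    apply mul_left_cancel₀ h2
    linear_combination f4 - f1
  · rw [← h.χ_conj hx, ← fx_of_isConj (isConj_coe hx), fx_card (n := 0) _ (by decide +kernel)]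
    push_cast
    apply mul_left_cancel₀ h2
    linear_combination f6 - f2 - f1

/-- two equal diagonal blocks -/
noncomputable def dg : Matrix (Fin 5) (Fin 5) F →* Matrix (Fin 10) (Fin 10) F where
  toFun M := Matrix.reindexAlgEquiv F F (finSumFinEquiv : Fin 5 ⊕ Fin 5 ≃ Fin 10) (Matrix.fromBlocks M 0 0 M)
  map_one' := by rw [Matrix.fromBlocks_one, map_one]
  map_mul' M N := by
    rw [← map_mul, Matrix.fromBlocks_multiply]
    simp

theorem dg_trace (M : Matrix (Fin 5) (Fin 5) F) : (dg M).trace = 2 * M.trace := by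
  change (Matrix.reindex (finSumFinEquiv : Fin 5 ⊕ Fin 5 ≃ Fin 10) finSumFinEquiv (Matrix.fromBlocks M 0 0 M)).trace = _
  rw [Matrix.trace, ← Equiv.sum_comp (finSumFinEquiv : Fin 5 ⊕ Fin 5 ≃ Fin 10)]
  simp [Matrix.diag_apply, Matrix.trace, two_mul]

theorem dg_zero (M : Matrix (Fin 5) (Fin 5) F) : dg M 0 5 = 0 := by
  change Matrix.fromBlocks M 0 0 M ((finSumFinEquiv : Fin 5 ⊕ Fin 5 ≃ Fin 10).symm 0)
    ((finSumFinEquiv : Fin 5 ⊕ Fin 5 ≃ Fin 10).symm 5) = 0
  have h1 : (finSumFinEquiv : Fin 5 ⊕ Fin 5 ≃ Fin 10).symm 0 = Sum.inl 0 := by decide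
  have h2 : (finSumFinEquiv : Fin 5 ⊕ Fin 5 ≃ Fin 10).symm 5 = Sum.inr 0 := by decide
  rw [h1, h2]
  rfl

/-- **Case C is impossible.** -/
theorem not_C (h7 : (7 : F) = 0) (hx : ∀ x : A7, h.χ x = 2 * (fx F (x : Perm (Fin 7)) - 2)) : False := by
  let ρ₁ : A7 →* Matrix (Fin 10) (Fin 10) F := (Units.coeHom _).comp h.ρ
  let ρ₂ : A7 →* Matrix (Fin 10) (Fin 10) F := (dg.comp (Units.coeHom _)).comp ((Lam.ψ7 h7).comp (alternatingGroup (Fin 7)).subtype)
  have h1 : Submodule.span F (Set.range ρ₁) = ⊤ := by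
    rw [← H920.span_eq_top h.irr]
    congr 1
    ext M
    constructor
    · rintro ⟨g, rfl⟩
      exact ⟨h.ρ g, ⟨g, rfl⟩, rfl⟩
    · rintro ⟨_, ⟨g, rfl⟩, rfl⟩
      exact ⟨g, rfl⟩
  have h2 := Lam.span_of_trace ρ₁ ρ₂ h1 (fun g => by
    change h.χ g = (dg ((Lam.ψ7 h7 (g : Perm (Fin 7)) : GL (Fin 5) F) : Matrix (Fin 5) (Fin 5) F)).trace
    rw [dg_trace, Lam.ψ7_trace, hx])
  have h3 : (Matrix.single 0 5 (1 : F) : Matrix (Fin 10) (Fin 10) F) ∈ Submodule.span F (Set.range ρ₂) := by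
    rw [h2]; trivial
  have h4 : ∀ M ∈ Submodule.span F (Set.range ρ₂), M 0 5 = 0 := by
    intro M hM
    induction hM using Submodule.span_induction with
    | mem M hM =>
      obtain ⟨g, rfl⟩ := hM
      exact dg_zero ((Lam.ψ7 h7 (g : Perm (Fin 7)) : GL (Fin 5) F) : Matrix (Fin 5) (Fin 5) F)
    | zero => rfl
    | add M N _ _ hM hN => rw [Matrix.add_apply, hM, hN, add_zero]
    | smul c M _ hM => rw [Matrix.smul_apply, hM, smul_zero]
  have h5 := h4 _ h3
  rw [Matrix.single_apply_same] at h5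
  exact one_ne_zero h5

/-- **The traces.** -/
theorem trace_formula [CharP F 7] (x : A7) :
    2 * h.χ x = (fx F (x : Perm (Fin 7)) - 2) ^ 2 - (fx F ((x : Perm (Fin 7)) * (x : Perm (Fin 7))) - 2) := by
  rcases h.dims with hd | hd
  · exact h.trace_A hd x
  · have h7 : (7 : F) = 0 := by
      have := CharP.cast_eq_zero F 7
      exact_mod_cast this
    exact (h.not_C h7 (h.trace_C hd)).elim

end OT

end Cfsg.Agent.H908.Ten
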