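import Cfsg.Agent.H908.SpTenSeven
import Cfsg.Agent.H908.TenTrace

/-!
# `A₇` in `Sp₁₀(q)`, `q` a power of seven: the traces (helper908)
-/

set_option autoImplicit false
set_option linter.unusedSectionVars false

namespace Cfsg.Agent.H908.SpTen

open Cfsg Cfsg.Geo Module Equiv Equiv.Perm
open Matrix hiding mul_apply'
open Cfsg.Agent.H637.JW Cfsg.Agent.H637.SevenA7 Cfsg.Agent.H908.Ten
open Cfsg.Agent.H908.Lam (fx fx_conj)

universe u

variable {F : Type u} [Field F]

namespace AT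

variable (h : AT F A7)

/-- the trace -/
def χ (x : A7) : F := (h.ρ x : Matrix (Fin 10) (Fin 10) F).trace

theorem χ_conj {x y : A7} (hxy : IsConj x y) : h.χ x = h.χ y := by
  obtain ⟨g, rfl⟩ := isConj_iff.1 hxy
  unfold χ
  rw [map_mul, map_mul, map_inv, Units.val_mul, Units.val_mul, Matrix.trace_mul_comm, ← mul_assoc, ← Units.val_mul,
    inv_mul_cancel, Units.val_one, one_mul]

theorem χ_one : h.χ 1 = 10 := by
  unfold χ
  rw [map_one, Units.val_one, Matrix.trace_one, Fintype.card_fin]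
  norm_num

/-- the traces on the `7'`-classes -/
theorem χ_vals [CharP F 7] : h.χ s = 2 * (h.d s : F) - 10 ∧ 2 * h.χ a = 3 * (h.d a : F) - 10 ∧
    2 * h.χ (a * b) = 3 * (h.d (a * b) : F) - 10 ∧ 2 * h.χ r = 4 * (h.d r : F) - 10 - h.χ s ∧
    4 * h.χ y5 = 5 * (h.d y5 : F) - 10 ∧ 2 * h.χ (c * s) = 6 * (h.d (c * s) : F) - 10 - 2 * h.χ a - h.χ s := by
  have hc : ∀ n : ℕ, ¬ 7 ∣ n → (n : F) ≠ 0 := by
    intro n hn h0
    exact hn ((CharP.cast_eq_zero_iff F 7 n).1 h0)
  have t2 := h.sum_tr (N := 2) (hc 2 (by norm_num)) (x := s) (by decide +kernel)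
  have t3 := h.sum_tr (N := 3) (hc 3 (by norm_num)) (x := a) (by decide +kernel)
  have t33 := h.sum_tr (N := 3) (hc 3 (by norm_num)) (x := a * b) (by decide +kernel)
  have t4 := h.sum_tr (N := 4) (hc 4 (by norm_num)) (x := r) (by decide +kernel)
  have t5 := h.sum_tr (N := 5) (hc 5 (by norm_num)) (x := y5) (by decide +kernel)
  have t6 := h.sum_tr (N := 6) (hc 6 (by norm_num)) (x := c * s) (by decide +kernel)
  simp only [Finset.sum_range_succ, Finset.sum_range_zero, zero_add] at t2 t3 t33 t4 t5 t6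
  change h.χ _ + h.χ _ = _ at t2
  change h.χ _ + h.χ _ + h.χ _ = _ at t3
  change h.χ _ + h.χ _ + h.χ _ = _ at t33
  change h.χ _ + h.χ _ + h.χ _ + h.χ _ = _ at t4
  change h.χ _ + h.χ _ + h.χ _ + h.χ _ + h.χ _ = _ at t5
  change h.χ _ + h.χ _ + h.χ _ + h.χ _ + h.χ _ + h.χ _ = _ at t6
  rw [pow_zero, h.χ_one, pow_one] at t2 t3 t33 t4 t5 t6
  rw [← h.χ_conj a_sq_conj] at t3
  rw [← h.χ_conj ab_sq_conj] at t33
  rw [← h.χ_conj r_two_conj, ← h.χ_conj r_three_conj] at t4
  rw [← h.χ_conj y5_three_conj, ← h.χ_conj y5_four_conj, ← h.χ_conj y5_two_conj] at t5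
  rw [← h.χ_conj cs_two_conj, ← h.χ_conj cs_five_conj, cs3, cs4, ← h.χ_conj cj_c] at t6
  push_cast at t2 t3 t33 t4 t5 t6
  refine ⟨?_, ?_, ?_, ?_, ?_, ?_⟩
  · linear_combination t2
  · linear_combination t3
  · linear_combination t33
  · linear_combination t4
  · linear_combination t5
  · linear_combination t6

theorem χ_seven [CharP F 7] {x : A7} (hx : (x : Perm (Fin 7)).cycleType = {7}) : h.χ x = 3 := by
  have hF : Fact (Nat.Prime 7) := ⟨by norm_num⟩
  have h7 : (7 : F) = 0 := by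
    have := CharP.cast_eq_zero F 7
    exact_mod_cast this
  have h1 : x ^ 7 = 1 := by
    apply Subtype.ext
    have h2 : orderOf (x : Perm (Fin 7)) = 7 := by rw [← lcm_cycleType, hx]; rfl
    have h3 := pow_orderOf_eq_one (x : Perm (Fin 7))
    rw [h2] at h3
    exact h3
  have h2 : h.χ x ^ 7 = h.χ (x ^ 7) := by
    unfold χ
    rw [map_pow, Units.val_pow_eq_pow_val]
    have := H911.Base.trace_pow_char_pow 7 (h.ρ x : Matrix (Fin 10) (Fin 10) F) 1
    rw [pow_one] at this
    exact this.symm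
  rw [h1, h.χ_one] at h2
  apply frobenius_inj F 7
  rw [frobenius_def, frobenius_def, h2]
  linear_combination (-311 : F) * h7

/-- **Case C**: the traces are those of twice the heart. -/
theorem trace_C [CharP F 7] (hd : h.d s = 6 ∧ h.d a = 6 ∧ h.d (a * b) = 2 ∧ h.d r = 2 ∧ h.d y5 = 2 ∧ h.d (c * s) = 2) (x : A7) :
    h.χ x = 2 * (fx F (x : Perm (Fin 7)) - 2) := by
  obtain ⟨e1, e2, e3, e4, e5, e6⟩ := hd
  obtain ⟨f1, f2, f3, f4, f5, f6⟩ := h.χ_vals
  rw [e1] at f1
  rw [e2] at f2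
  rw [e3] at f3
  rw [e4] at f4
  rw [e5] at f5
  rw [e6] at f6
  push_cast at f1 f2 f3 f4 f5 f6
  have h7 : (7 : F) = 0 := by
    have := CharP.cast_eq_zero F 7
    exact_mod_cast this
  have h2 : (2 : F) ≠ 0 := by
    intro h2
    exact one_ne_zero (α := F) (by linear_combination h7 - 3 * h2)
  have h4 : (4 : F) ≠ 0 := by
    intro h4
    exact one_ne_zero (α := F) (by linear_combination 2 * h4 - h7)
  rcases classes x with rfl | hx | hx | hx | hx | hx | hx | hx
  · rw [h.χ_one, fx_card (n := 7) _ (by decide +kernel)]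
    push_cast
    ring
  · rw [← h.χ_conj hx, ← fx_of_isConj (isConj_coe hx), fx_card (n := 4) _ (by decide +kernel)]
    push_cast
    apply mul_left_cancel₀ h2
    linear_combination f2
  · rw [← h.χ_conj hx, ← fx_of_isConj (isConj_coe hx), fx_card (n := 2) _ (by decide +kernel)]
    push_cast
    apply mul_left_cancel₀ h4
    linear_combination f5
  · rw [h.χ_seven hx, ← fx_of_isConj (conj_seven hx), fx_card (n := 0) _ (by decide +kernel)]
    push_cast
    linear_combination h7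
  · rw [← h.χ_conj hx, ← fx_of_isConj (isConj_coe hx), fx_card (n := 3) _ (by decide +kernel)]
    push_cast
    linear_combination f1
  · rw [← h.χ_conj hx, ← fx_of_isConj (isConj_coe hx), fx_card (n := 1) _ (by decide +kernel)]
    push_cast
    apply mul_left_cancel₀ h2
    linear_combination f3
  · rw [← h.χ_conj hx, ← fx_of_isConj (isConj_coe hx), fx_card (n := 1) _ (by decide +kernel)]
    push_cast
    apply mul_left_cancel₀ h2
    linear_combination f4 - f1
  · rw [← h.χ_conj hx, ← fx_of_isConj (isConj_coe hx), fx_card (n := 0) _ (by decide +kernel)]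
    push_cast
    apply mul_left_cancel₀ h2
    linear_combination f6 - f2 - f1

/-- **Case C is impossible.** -/
theorem not_C (h7 : (7 : F) = 0) (hx : ∀ x : A7, h.χ x = 2 * (fx F (x : Perm (Fin 7)) - 2)) : False := by
  let ρ₁ : A7 →* Matrix (Fin 10) (Fin 10) F := (Units.coeHom _).comp h.ρ
  let ρ₂ : A7 →* Matrix (Fin 10) (Fin 10) F := (OT.dg.comp (Units.coeHom _)).comp ((Lam.ψ7 h7).comp (alternatingGroup (Fin 7)).subtype)
  have h1 : Submodule.span F (Set.range ρ₁) = ⊤ := by
    rw [← H920.span_eq_top h.irr]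
    congr 1
    ext M
    constructor
    · rintro ⟨g, rfl⟩
      exact ⟨h.ρ g, ⟨g, rfl⟩, rfl⟩
    · rintro ⟨_, ⟨g, rfl⟩, rfl⟩
      exact ⟨g, rfl⟩
  have h2 := Lam.span_of_trace ρ₁ ρ₂ h1 (fun g => by
    change h.χ g = (OT.dg ((Lam.ψ7 h7 (g : Perm (Fin 7)) : GL (Fin 5) F) : Matrix (Fin 5) (Fin 5) F)).trace
    rw [OT.dg_trace, Lam.ψ7_trace, hx])
  have h3 : (Matrix.single 0 5 (1 : F) : Matrix (Fin 10) (Fin 10) F) ∈ Submodule.span F (Set.range ρ₂) := by
    rw [h2]; trivial
  have h4 : ∀ M ∈ Submodule.span F (Set.range ρ₂), M 0 5 = 0 := by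
    intro M hM
    induction hM using Submodule.span_induction with
    | mem M hM =>
      obtain ⟨g, rfl⟩ := hM
      exact OT.dg_zero ((Lam.ψ7 h7 (g : Perm (Fin 7)) : GL (Fin 5) F) : Matrix (Fin 5) (Fin 5) F)
    | zero => rfl
    | add M N _ _ hM hN => rw [Matrix.add_apply, hM, hN, add_zero]
    | smul c M _ hM => rw [Matrix.smul_apply, hM, smul_zero]
  have h5 := h4 _ h3
  rw [Matrix.single_apply_same] at h5
  exact one_ne_zero h5

include h in
/-- **`A₇` has no irreducible representation in `Sp₁₀(q)`, `q` a power of seven.** -/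
theorem false7 [CharP F 7] : False := by
  have h7 : (7 : F) = 0 := by
    have := CharP.cast_eq_zero F 7
    exact_mod_cast this
  exact h.not_C h7 (h.trace_C h.dims)

end AT

end Cfsg.Agent.H908.SpTen
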