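import Cfsg.Agent.H917.OmBase
import Cfsg.Agent.H915.LD

/-!
# Representations in `Ω₁₀(q)` (helper908, after helper917's `OmBase`, `OmTools`)

`OT F T` : a faithful absolutely irreducible representation of `T` in `Ω(Q)`, `Q` a quadratic form on `F¹⁰`.

* `even_fix` : the fixed space of every element has even dimension;
* `scott` : Scott's lemma.
-/

set_option autoImplicit false
set_option linter.unusedSectionVars false

namespace Cfsg.Agent.H908.Ten

open Cfsg Cfsg.Geo Module
open Matrix hiding mul_apply'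
open Cfsg.Agent.H637.JW Cfsg.Agent.H917.Om

universe u v

/-! ### The context -/

/-- A faithful absolutely irreducible representation in `Ω(Q)`, `Q` a quadratic form on `F¹⁰`. -/
structure OT (F : Type u) [Field F] (T : Type v) [Group T] where
  ρ : T →* GL (Fin 10) F
  Q : (Fin 10 → F) → F
  nd : IsNondegenerateQuadraticForm Q
  mem : ∀ g, ρ g ∈ omegaGL Q
  irr : ActsAbsolutelyIrreducibly (matrixSet ρ.range)
  inj : Function.Injective ρ

variable {F : Type u} [Field F] {T : Type v} [Group T]

theorem mem_omegaGL_fix {Q : (Fin 10 → F) → F} {g : GL (Fin 10) F} (h : g ∈ omegaGL Q) (v : Fin 10 → F) :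
    Q ((g : Matrix (Fin 10) (Fin 10) F) *ᵥ v) = Q v := by
  obtain ⟨w, -, rfl⟩ := h
  exact (ClassicalGeometry.Reflection.mem_isometryGroup_iff _ _).1 w.2 v

namespace OT

variable (h : OT F T)

theorem fixQ (g : T) (v : Fin 10 → F) : h.Q ((h.ρ g : Matrix (Fin 10) (Fin 10) F) *ᵥ v) = h.Q v :=
  mem_omegaGL_fix (h.mem g) v

/-- Pull back to another group. -/
def congr {T' : Type*} [Group T'] (e : T' ≃* T) : OT F T' where
  ρ := h.ρ.comp e.toMonoidHom
  Q := h.Q
  nd := h.nd
  mem := fun g => h.mem (e g)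
  irr := by
    have h1 : (h.ρ.comp e.toMonoidHom).range = h.ρ.range := by
      ext x
      constructor
      · rintro ⟨y, rfl⟩
        exact ⟨e y, rfl⟩
      · rintro ⟨y, rfl⟩
        exact ⟨e.symm y, by simp⟩
    rw [h1]
    exact h.irr
  inj := h.inj.comp e.injective

/-- **The fixed space of every element has even dimension** (over `F`). -/
theorem even_fixF (g : T) :
    Even (finrank F (LinearMap.ker ((h.ρ g : Matrix (Fin 10) (Fin 10) F) - 1).mulVecLin)) := by
  obtain ⟨w, hw, hwg⟩ : ∃ w : isometryGroup F (⇑(H925.qf h.nd)), w ∈ commutator (isometryGroup F (⇑(H925.qf h.nd))) ∧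
      (w : GL (Fin 10) F) = h.ρ g := h.mem g
  have hnd : (QuadraticMap.polarBilin (H925.qf h.nd)).Nondegenerate := by
    refine H932.nondegenerate_polarBilin ?_
    intro x hx
    by_contra h0
    obtain ⟨-, y, hxy⟩ := h.nd.nondegenerate x h0
    exact hxy (hx y)
  have h1 := ClassicalGeometry.OrthDickson.dsign_eq_one_of_mem_commutator (H925.qf h.nd) hnd
    (Or.inr (by rw [Fintype.card_fin]; norm_num)) w hw
  have h1 := (ClassicalGeometry.OrthDickson.dsign_def (H925.qf h.nd) w).symm.trans h1
  rw [Fintype.card_fin] at h1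
  have h2 : Even (finrank F (ClassicalGeometry.OrthCharTwo.fixSp (Q := H925.qf h.nd) w) + 10) := by
    by_contra hodd
    rw [Nat.not_even_iff_odd] at hodd
    rw [hodd.neg_one_pow] at h1
    exact absurd h1 (by decide)
  have h3 : ClassicalGeometry.OrthCharTwo.fixSp (Q := H925.qf h.nd) w =
      LinearMap.ker ((h.ρ g : Matrix (Fin 10) (Fin 10) F) - 1).mulVecLin := by
    ext x
    rw [ClassicalGeometry.OrthCharTwo.mem_fixSp, ClassicalGeometry.OrthCharTwo.act_def, LinearMap.mem_ker,
      Matrix.mulVecLin_apply, Matrix.sub_mulVec, Matrix.one_mulVec, sub_eq_zero]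
    rw [← hwg]
  rw [h3] at h2
  have h4 : Even 10 := by decide
  exact (Nat.even_add.1 h2).2 h4

/-- The representation over the algebraic closure. -/
noncomputable def σ : T →* Module.End (AlgebraicClosure F) (Fin 10 → AlgebraicClosure F) :=
  ext h.ρ (AlgebraicClosure F)

theorem σ_apply (g : T) (v : Fin 10 → AlgebraicClosure F) :
    h.σ g v = ((h.ρ g : Matrix (Fin 10) (Fin 10) F).map (algebraMap F (AlgebraicClosure F))) *ᵥ v := rfl

theorem even_fix (g : T) : Even (finrank (AlgebraicClosure F) (Fix h.σ g)) := by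
  have h1 : Fix h.σ g = LinearMap.ker
      ((((h.ρ g : Matrix (Fin 10) (Fin 10) F) - 1).map (algebraMap F (AlgebraicClosure F)))).mulVecLin := by
    ext v
    rw [mem_Fix, LinearMap.mem_ker, Matrix.mulVecLin_apply, σ_apply, Matrix.map_sub _ (fun a b => map_sub _ a b),
      Matrix.map_one _ (map_zero _) (map_one _), Matrix.sub_mulVec, Matrix.one_mulVec, sub_eq_zero]
  have h2 := finrank_ker_add_rank (((h.ρ g : Matrix (Fin 10) (Fin 10) F) - 1).map (algebraMap F (AlgebraicClosure F)))
  have h3 := finrank_ker_add_rank ((h.ρ g : Matrix (Fin 10) (Fin 10) F) - 1)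
  rw [rank_map_field] at h2
  rw [h1, show finrank (AlgebraicClosure F) _ = finrank F _ from Nat.add_right_cancel (h2.trans h3.symm)]
  exact h.even_fixF g

/-! ### The bilinear form over the algebraic closure -/

/-- The Gram matrix of the polar form. -/
noncomputable def gram : Matrix (Fin 10) (Fin 10) F :=
  Matrix.of fun i j => QuadraticMap.polar h.Q (Pi.single i 1) (Pi.single j 1)

theorem polar_eq (u v : Fin 10 → F) : QuadraticMap.polar h.Q u v = u ⬝ᵥ (h.gram *ᵥ v) := by
  have hb := h.nd.polar_bilinear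
  have e : ∀ u v, QuadraticMap.polar h.Q u v = (QuadraticMap.polarBilin (H925.qf h.nd)) u v := fun u v => rfl
  rw [e, ← LinearMap.sum_repr_mul_repr_mul (Pi.basisFun F (Fin 10)) (Pi.basisFun F (Fin 10)) (B := QuadraticMap.polarBilin (H925.qf h.nd))]
  rw [Finsupp.sum_fintype _ _ (by intro i; simp)]
  simp only [dotProduct, mulVec]
  refine Finset.sum_congr rfl fun i _ => ?_
  rw [Finsupp.sum_fintype _ _ (by intro j; simp), Finset.mul_sum]
  refine Finset.sum_congr rfl fun j _ => ?_
  simp only [Pi.basisFun_repr, Pi.basisFun_apply, smul_eq_mul]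
  change u i * (v j * h.gram i j) = u i * (h.gram i j * v j)
  ring

theorem gram_symm : h.gramᵀ = h.gram := by
  ext i j
  exact QuadraticMap.polar_comm _ _ _

theorem gram_det : h.gram.det ≠ 0 := by
  intro h0
  obtain ⟨v, hv, hv2⟩ := Matrix.exists_mulVec_eq_zero_iff.2 h0
  obtain ⟨⟨x, hx⟩, -⟩ := h.nd.nondegenerate v hv
  apply hx
  rw [polar_eq, hv2, dotProduct_zero]

theorem gram_inv (g : T) : (h.ρ g : Matrix (Fin 10) (Fin 10) F)ᵀ * h.gram * (h.ρ g : Matrix (Fin 10) (Fin 10) F) = h.gram := by
  have key : ∀ u v, u ⬝ᵥ (((h.ρ g : Matrix (Fin 10) (Fin 10) F)ᵀ * h.gram * (h.ρ g : Matrix (Fin 10) (Fin 10) F)) *ᵥ v) =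
      u ⬝ᵥ (h.gram *ᵥ v) := by
    intro u v
    rw [← polar_eq, ← Matrix.mulVec_mulVec, ← Matrix.mulVec_mulVec, Matrix.dotProduct_mulVec, Matrix.vecMul_transpose,
      ← polar_eq]
    simp only [QuadraticMap.polar, ← Matrix.mulVec_add]
    rw [h.fixQ, h.fixQ, h.fixQ]
  ext i j
  have := key (Pi.single i 1) (Pi.single j 1)
  simpa using this

/-- The bilinear form over the algebraic closure. -/
noncomputable def B (u v : Fin 10 → AlgebraicClosure F) : AlgebraicClosure F :=
  u ⬝ᵥ (h.gram.map (algebraMap F (AlgebraicClosure F)) *ᵥ v)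

theorem B_add_left (u u' v : Fin 10 → AlgebraicClosure F) : h.B (u + u') v = h.B u v + h.B u' v := by
  rw [B, B, B, add_dotProduct]

theorem B_smul_left (c : AlgebraicClosure F) (u v : Fin 10 → AlgebraicClosure F) : h.B (c • u) v = c * h.B u v := by
  rw [B, B, smul_dotProduct, smul_eq_mul]

theorem B_comm (u v : Fin 10 → AlgebraicClosure F) : h.B u v = h.B v u := by
  rw [B, B, Matrix.dotProduct_mulVec, dotProduct_comm, ← Matrix.mulVec_transpose, ← Matrix.transpose_map, h.gram_symm]

theorem B_add_right (u v v' : Fin 10 → AlgebraicClosure F) : h.B u (v + v') = h.B u v + h.B u v' := by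
  rw [B_comm, B_add_left, h.B_comm v, h.B_comm v']

theorem B_smul_right (c : AlgebraicClosure F) (u v : Fin 10 → AlgebraicClosure F) : h.B u (c • v) = c * h.B u v := by
  rw [B_comm, B_smul_left, h.B_comm v]

theorem B_inv (g : T) (u v : Fin 10 → AlgebraicClosure F) : h.B (h.σ g u) (h.σ g v) = h.B u v := by
  have h1 := congrArg (fun M : Matrix (Fin 10) (Fin 10) F => M.map (algebraMap F (AlgebraicClosure F))) (h.gram_inv g)
  simp only [Matrix.map_mul] at h1
  have h2 : h.B u v = u ⬝ᵥ (((h.ρ g : Matrix (Fin 10) (Fin 10) F)ᵀ.map (algebraMap F (AlgebraicClosure F)) *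
      h.gram.map (algebraMap F (AlgebraicClosure F)) *
      (h.ρ g : Matrix (Fin 10) (Fin 10) F).map (algebraMap F (AlgebraicClosure F))) *ᵥ v) := by
    rw [h1]; rfl
  rw [h2, ← Matrix.mulVec_mulVec, ← Matrix.mulVec_mulVec, Matrix.dotProduct_mulVec u,
    Matrix.transpose_map, Matrix.vecMul_transpose]
  rfl

theorem B_nondeg {v : Fin 10 → AlgebraicClosure F} (hv : ∀ u, h.B u v = 0) : v = 0 := by
  by_contra h0
  have h1 : (h.gram.map (algebraMap F (AlgebraicClosure F))) *ᵥ v = 0 := by
    funext i
    have := hv (Pi.single i 1)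
    rw [B, single_one_dotProduct] at this
    exact this
  have h2 := Matrix.exists_mulVec_eq_zero_iff.1 ⟨v, h0, h1⟩
  have h3 := RingHom.map_det (algebraMap F (AlgebraicClosure F)) h.gram
  rw [RingHom.mapMatrix_apply, h2] at h3
  exact h.gram_det ((map_eq_zero _).1 h3)

/-! ### Irreducibility over the algebraic closure -/

theorem map_mem (W : Submodule (AlgebraicClosure F) (Fin 10 → AlgebraicClosure F))
    (hW : ∀ g, ∀ v ∈ W, h.σ g v ∈ W) (M : Matrix (Fin 10) (Fin 10) F) {v : Fin 10 → AlgebraicClosure F} (hv : v ∈ W) :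
    (M.map (algebraMap F (AlgebraicClosure F))) *ᵥ v ∈ W := by
  have h1 : M ∈ Submodule.span F (matrixSet h.ρ.range) := by
    rw [H920.span_eq_top h.irr]; trivial
  induction h1 using Submodule.span_induction with
  | mem x hx =>
    obtain ⟨y, ⟨g, rfl⟩, rfl⟩ := hx
    exact hW g v hv
  | zero =>
    rw [Matrix.map_zero _ (map_zero _), Matrix.zero_mulVec]
    exact W.zero_mem
  | add x y _ _ hx hy =>
    rw [Matrix.map_add _ (fun a b => map_add _ a b), Matrix.add_mulVec]
    exact W.add_mem hx hy
  | smul c x _ hx =>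
    have : (c • x).map (algebraMap F (AlgebraicClosure F)) =
        algebraMap F (AlgebraicClosure F) c • x.map (algebraMap F (AlgebraicClosure F)) := by
      ext i j
      simp
    rw [this, Matrix.smul_mulVec]
    exact W.smul_mem _ hx

/-- **Irreducibility over the algebraic closure.** -/
theorem eq_top_of_inv (W : Submodule (AlgebraicClosure F) (Fin 10 → AlgebraicClosure F))
    (hW : ∀ g, ∀ v ∈ W, h.σ g v ∈ W) {w : Fin 10 → AlgebraicClosure F} (hw : w ∈ W) (hw0 : w ≠ 0) : W = ⊤ := by
  obtain ⟨j, hj⟩ : ∃ j, w j ≠ 0 := by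
    by_contra hno
    push Not at hno
    exact hw0 (funext hno)
  have h1 : ∀ i, (Pi.single i 1 : Fin 10 → AlgebraicClosure F) ∈ W := by
    intro i
    have h2 := h.map_mem W hW (Matrix.single i j 1) hw
    have h3 : ((Matrix.single i j (1 : F)).map (algebraMap F (AlgebraicClosure F))) *ᵥ w = w j • Pi.single i 1 := by
      funext k
      simp only [mulVec, dotProduct, Matrix.map_apply, Matrix.single_apply]
      by_cases hk : i = k
      · subst hk
        simp
      · simp [hk, Ne.symm hk]
    rw [h3] at h2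
    have h4 := W.smul_mem (w j)⁻¹ h2
    rwa [smul_smul, inv_mul_cancel₀ hj, one_smul] at h4
  rw [eq_top_iff]
  intro v _
  rw [show v = ∑ i, v i • (Pi.single i 1 : Fin 10 → AlgebraicClosure F) by
    funext k; simp [Finset.sum_apply, Pi.single_apply]]
  exact W.sum_mem fun i _ => W.smul_mem _ (h1 i)

/-- no fixed vectors -/
theorem eq_zero_of_fixed {v : Fin 10 → AlgebraicClosure F} (hv : ∀ g, h.σ g v = v) : v = 0 := by
  by_contra h0
  have h1 := h.eq_top_of_inv (Submodule.span (AlgebraicClosure F) {v}) (by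
    intro g w hw
    obtain ⟨c, rfl⟩ := Submodule.mem_span_singleton.1 hw
    rw [map_smul, hv g]
    exact hw) (Submodule.mem_span_singleton_self v) h0
  have h2 := finrank_span_singleton (K := AlgebraicClosure F) h0
  rw [h1, finrank_top, Module.finrank_fin_fun] at h2
  omega

/-- the span of an orbit is everything -/
theorem span_orbit {v : Fin 10 → AlgebraicClosure F} (h0 : v ≠ 0) :
    Submodule.span (AlgebraicClosure F) (Set.range fun g => h.σ g v) = ⊤ := by
  refine h.eq_top_of_inv _ ?_ (Submodule.subset_span ⟨1, by simp⟩) h0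
  intro g w hw
  induction hw using Submodule.span_induction with
  | mem x hx =>
    obtain ⟨y, rfl⟩ := hx
    refine Submodule.subset_span ⟨g * y, ?_⟩
    exact mul_apply' g y v
  | zero => rw [map_zero]; exact Submodule.zero_mem _
  | add x y _ _ hx hy => rw [map_add]; exact Submodule.add_mem _ hx hy
  | smul c x _ hx => rw [map_smul]; exact Submodule.smul_mem _ _ hx

theorem σ_injective : Function.Injective h.σ := by
  intro a b hab
  apply h.inj
  apply Units.ext
  have h1 : ((h.ρ a : Matrix (Fin 10) (Fin 10) F).map (algebraMap F (AlgebraicClosure F))) =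
      ((h.ρ b : Matrix (Fin 10) (Fin 10) F).map (algebraMap F (AlgebraicClosure F))) := by
    ext i j
    have h2 := congrFun (LinearMap.congr_fun hab (Pi.single j 1)) i
    rw [σ_apply, σ_apply] at h2
    simpa using h2
  ext i j
  have h2 := congrFun (congrFun h1 i) j
  simpa using h2

/-! ### Weights -/

section weights

variable {κ : Type*} [Fintype κ] {N : ℕ} [NeZero N] (hN : (N : AlgebraicClosure F) ≠ 0) {ζ : AlgebraicClosure F}
  (hζ : IsPrimitiveRoot ζ N) {x : κ → T} (hc : ∀ j k, x j * x k = x k * x j) (hx : ∀ k, x k ^ N = 1)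

theorem B_eq_zero {c d : κ → ZMod N} (hζ : IsPrimitiveRoot ζ N) {x : κ → T} (hcd : c + d ≠ 0)
    {u v : Fin 10 → AlgebraicClosure F} (hu : u ∈ W N ζ (fun k => h.σ (x k)) c)
    (hv : v ∈ W N ζ (fun k => h.σ (x k)) d) : h.B u v = 0 := by
  obtain ⟨k, hk⟩ : ∃ k, (c + d) k ≠ 0 := by
    by_contra hno
    push Not at hno
    exact hcd (funext hno)
  have h1 := mem_W.1 hu k
  have h2 := mem_W.1 hv k
  have h3 := h.B_inv (x k) u v
  rw [h1, h2, B_smul_left, B_smul_right, ← mul_assoc, ← pow_val_add hζ.pow_eq_one] at h3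
  have h4 : ζ ^ (c k + d k).val ≠ 1 := by
    intro h5
    apply hk
    have h6 := hζ.pow_inj (ZMod.val_lt (c k + d k)) (NeZero.pos N) (by rw [h5, pow_zero])
    exact (ZMod.val_eq_zero _).1 h6
  have h5 : (ζ ^ (c k + d k).val - 1) * h.B u v = 0 := by linear_combination h3
  exact (mul_eq_zero.1 h5).resolve_left (sub_ne_zero.2 h4)

include hN hζ hc hx in
theorem finrank_W_neg_le (c : κ → ZMod N) :
    finrank (AlgebraicClosure F) (W N ζ (fun k => h.σ (x k)) c) ≤
      finrank (AlgebraicClosure F) (W N ζ (fun k => h.σ (x k)) (-c)) := by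
  classical
  have hcomm : ∀ j k, h.σ (x j) * h.σ (x k) = h.σ (x k) * h.σ (x j) := fun j k => by
    rw [← map_mul, ← map_mul, hc]
  have hpow : ∀ k, h.σ (x k) ^ N = 1 := fun k => by rw [← map_pow, hx, map_one]
  have htop := iSup_W hN hζ hcomm hpow
  let f : W N ζ (fun k => h.σ (x k)) c →ₗ[AlgebraicClosure F] Module.Dual (AlgebraicClosure F) (W N ζ (fun k => h.σ (x k)) (-c)) :=
    { toFun := fun u =>
        { toFun := fun v => h.B u.1 v.1
          map_add' := fun v w => h.B_add_right _ _ _
          map_smul' := fun a v => h.B_smul_right _ _ _ }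
      map_add' := fun u v => by
        ext w
        exact h.B_add_left _ _ _
      map_smul' := fun a v => by
        ext w
        exact h.B_smul_left _ _ _ }
  have hf : Function.Injective f := by
    rw [← LinearMap.ker_eq_bot, LinearMap.ker_eq_bot']
    intro u hu
    apply Subtype.ext
    apply h.B_nondeg
    intro w
    have hw : w ∈ (⨆ d, W N ζ (fun k => h.σ (x k)) d) := by rw [htop]; trivial
    induction hw using Submodule.iSup_induction' with
    | mem d w hw =>
      by_cases hd : d = -c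
      · subst hd
        rw [h.B_comm]
        exact LinearMap.congr_fun hu ⟨w, hw⟩
      · refine h.B_eq_zero hζ ?_ hw u.2
        intro h0
        exact hd (eq_neg_of_add_eq_zero_left h0)
    | zero => rw [h.B_comm]; rw [show (0 : Fin 10 → AlgebraicClosure F) = (0 : AlgebraicClosure F) • 0 by simp, B_smul_right, zero_mul]
    | add a b _ _ ha hb => rw [B_add_left, ha, hb, add_zero]
  have h1 := LinearMap.finrank_le_finrank_of_injective hf
  rwa [Subspace.dual_finrank_eq] at h1

include hN hζ hc hx in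
/-- **Self-duality of weights.** -/
theorem finrank_W_neg (c : κ → ZMod N) :
    finrank (AlgebraicClosure F) (W N ζ (fun k => h.σ (x k)) (-c)) =
      finrank (AlgebraicClosure F) (W N ζ (fun k => h.σ (x k)) c) := by
  refine le_antisymm ?_ (h.finrank_W_neg_le hN hζ hc hx c)
  have := h.finrank_W_neg_le hN hζ hc hx (-c)
  rwa [neg_neg] at this

end weights

/-- The invariant form as a bilinear form. -/
noncomputable def Bf : LinearMap.BilinForm (AlgebraicClosure F) (Fin 10 → AlgebraicClosure F) :=
  LinearMap.mk₂ (AlgebraicClosure F) h.B h.B_add_left h.B_smul_left h.B_add_right h.B_smul_right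

theorem Bf_apply (u v : Fin 10 → AlgebraicClosure F) : h.Bf u v = h.B u v := rfl

theorem Bf_symm : h.Bf.IsSymm := ⟨fun u v => h.B_comm u v⟩

theorem Bf_nondeg : h.Bf.Nondegenerate := by
  refine ⟨fun v hv => ?_, fun v hv => ?_⟩
  · exact h.B_nondeg fun u => by rw [h.B_comm]; exact hv u
  · exact h.B_nondeg hv

theorem finrank_orth (U : Submodule (AlgebraicClosure F) (Fin 10 → AlgebraicClosure F)) :
    finrank (AlgebraicClosure F) (h.Bf.orthogonal U) + finrank (AlgebraicClosure F) U = 10 := by
  have h1 := LinearMap.BilinForm.finrank_orthogonal h.Bf_nondeg U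
  have h2 := Submodule.finrank_le U
  rw [Module.finrank_fin_fun] at h1 h2
  omega

/-- the range of `g - 1` -/
noncomputable def R (g : T) : Submodule (AlgebraicClosure F) (Fin 10 → AlgebraicClosure F) :=
  LinearMap.range (h.σ g - 1)

theorem finrank_R (g : T) : finrank (AlgebraicClosure F) (h.R g) + finrank (AlgebraicClosure F) (Fix h.σ g) = 10 := by
  have h1 := LinearMap.finrank_range_add_finrank_ker (h.σ g - 1)
  rw [Module.finrank_fin_fun] at h1
  have h2 : Fix h.σ g = LinearMap.ker (h.σ g - 1) := by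
    ext v
    rw [mem_Fix, LinearMap.mem_ker, LinearMap.sub_apply, Module.End.one_apply, sub_eq_zero]
  rw [h2]
  exact h1

/-- a vector orthogonal to `(g - 1) V` is fixed by `g` -/
theorem fixed_of_orth {g : T} {v : Fin 10 → AlgebraicClosure F} (hv : ∀ u, h.B (h.σ g u - u) v = 0) : h.σ g v = v := by
  have h1 : h.σ g⁻¹ v = v := by
    rw [← sub_eq_zero]
    apply h.B_nondeg
    intro u
    have h2 := hv u
    rw [sub_eq_add_neg, h.B_add_left, ← neg_one_smul (AlgebraicClosure F) u, h.B_smul_left] at h2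
    have h3 := h.B_inv g⁻¹ (h.σ g u) v
    rw [← mul_apply', inv_mul_cancel, map_one, Module.End.one_apply] at h3
    rw [sub_eq_add_neg, h.B_add_right, ← neg_one_smul (AlgebraicClosure F) v, h.B_smul_right, h3]
    linear_combination h2
  have h2 := congrArg (h.σ g) h1
  rw [← mul_apply', mul_inv_cancel, map_one, Module.End.one_apply] at h2
  exact h2.symm

/-- **Scott's lemma.** -/
theorem scott {x y : T} (hxy : ∀ v, h.σ x v = v → h.σ y v = v → v = 0) :
    finrank (AlgebraicClosure F) (Fix h.σ x) + finrank (AlgebraicClosure F) (Fix h.σ y) +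
      finrank (AlgebraicClosure F) (Fix h.σ (x * y)) ≤ 10 := by
  have hx := h.finrank_R x
  have hy := h.finrank_R y
  have hz := h.finrank_R (x * y)
  -- `R x ⊔ R y = ⊤`
  have htop : h.R x ⊔ h.R y = ⊤ := by
    have h1 := h.finrank_orth (h.R x ⊔ h.R y)
    have h2 : h.Bf.orthogonal (h.R x ⊔ h.R y) = ⊥ := by
      rw [eq_bot_iff]
      intro v hv
      rw [LinearMap.BilinForm.mem_orthogonal_iff] at hv
      rw [Submodule.mem_bot]
      refine hxy v (h.fixed_of_orth fun u => ?_) (h.fixed_of_orth fun u => ?_)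
      · exact hv _ (Submodule.mem_sup_left ⟨u, rfl⟩)
      · exact hv _ (Submodule.mem_sup_right ⟨u, rfl⟩)
    rw [h2, finrank_bot, zero_add] at h1
    exact Submodule.eq_top_of_finrank_eq (by rw [h1, Module.finrank_fin_fun])
  let δ : (h.R x × h.R y) × h.R (x * y) →ₗ[AlgebraicClosure F] (Fin 10 → AlgebraicClosure F) :=
    ((h.R x).subtype.coprod (h.R y).subtype).coprod (h.R (x * y)).subtype
  have hδ : LinearMap.range δ = ⊤ := by
    rw [eq_top_iff, ← htop]
    intro v hv
    obtain ⟨a, ha, b, hb, rfl⟩ := Submodule.mem_sup.1 hv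
    exact ⟨((⟨a, ha⟩, ⟨b, hb⟩), 0), by simp [δ]⟩
  let β : (Fin 10 → AlgebraicClosure F) →ₗ[AlgebraicClosure F] LinearMap.ker δ :=
    { toFun := fun v => ⟨((⟨h.σ x (h.σ y v) - h.σ y v, ⟨h.σ y v, rfl⟩⟩, ⟨h.σ y v - v, ⟨v, rfl⟩⟩),
        ⟨-(h.σ (x * y) v - v), neg_mem ⟨v, rfl⟩⟩), by
          rw [LinearMap.mem_ker]
          simp only [δ, LinearMap.coprod_apply, Submodule.subtype_apply, mul_apply']
          abel⟩
      map_add' := fun u v => by
        apply Subtype.ext
        refine Prod.ext (Prod.ext (Subtype.ext ?_) (Subtype.ext ?_)) (Subtype.ext ?_) <;>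
          simp only [map_add, Prod.fst_add, Prod.snd_add, Submodule.coe_add] <;> abel
      map_smul' := fun c v => by
        apply Subtype.ext
        refine Prod.ext (Prod.ext (Subtype.ext ?_) (Subtype.ext ?_)) (Subtype.ext ?_) <;>
          simp only [map_smul, Prod.smul_fst, Prod.smul_snd, Submodule.coe_smul, RingHom.id_apply, smul_sub, smul_neg] }
  have hβ : Function.Injective β := by
    refine (injective_iff_map_eq_zero β).2 fun v hv => ?_
    have h1 := congrArg Subtype.val hv
    have h2 : h.σ y v - v = 0 := congrArg (fun z => ((z.1.2 : h.R y) : Fin 10 → AlgebraicClosure F)) h1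
    have h3 : h.σ x (h.σ y v) - h.σ y v = 0 := congrArg (fun z => ((z.1.1 : h.R x) : Fin 10 → AlgebraicClosure F)) h1
    rw [sub_eq_zero] at h2
    rw [h2, sub_eq_zero] at h3
    exact hxy v h3 h2
  have h1 := LinearMap.finrank_le_finrank_of_injective hβ
  have h2 := LinearMap.finrank_range_add_finrank_ker δ
  rw [hδ, finrank_top, Module.finrank_fin_fun, Module.finrank_prod, Module.finrank_prod] at h2
  rw [Module.finrank_fin_fun] at h1
  omega


end OT

end Cfsg.Agent.H908.Ten
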