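import Cfsg.Agent.H908.TenBase

/-!
# Dimensions of fixed spaces (helper908)

* `sum_inf_eigen` : decomposition of an invariant subspace under an operator of finite order;
* `klein`, `klein3` : Klein four groups;
* `OT.dim7`, `OT.dim5`, `OT.dim3`, `OT.dimE` : elements of order 7, 5, 3 in dimension ten;
* `sum_trace` : traces and the dimension of the fixed space.
-/

set_option autoImplicit false
set_option linter.unusedSectionVars false

namespace Cfsg.Agent.H908.Ten

open Cfsg Cfsg.Geo Module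
open Matrix hiding mul_apply'
open Cfsg.Agent.H637.JW Cfsg.Agent.H917.Om

universe u v

section gen

variable {K : Type*} [Field K] {V : Type*} [AddCommGroup V] [Module K V] [FiniteDimensional K V]

theorem finrank_map_sub {U : Submodule K V} (W : Submodule K U) :
    finrank K (W.map U.subtype) = finrank K W :=
  (Submodule.equivMapOfInjective U.subtype U.injective_subtype W).finrank_eq.symm

/-- An invariant subspace is the direct sum of its intersections with the eigenspaces. -/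
theorem sum_inf_eigen [IsAlgClosed K] {N : ℕ} [NeZero N] (hN : (N : K) ≠ 0) {ζ : K} (hζ : IsPrimitiveRoot ζ N)
    {A : Module.End K V} (hA : A ^ N = 1) {U : Submodule K V} (hU : ∀ v ∈ U, A v ∈ U) :
    ∑ i : ZMod N, finrank K (U ⊓ A.eigenspace (ζ ^ i.val) : Submodule K V) = finrank K U := by
  have hpow : ∀ (k : ℕ) (v : U), (((A.restrict hU) ^ k) v : V) = (A ^ k) v := by
    intro k
    induction k with
    | zero => intro v; rfl
    | succ k ih =>
      intro v
      rw [pow_succ, pow_succ, Module.End.mul_apply, Module.End.mul_apply, ih]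
      rfl
  have h1 : (A.restrict hU) ^ N = 1 := by
    ext v
    rw [hpow, hA]
    rfl
  have h2 := sum_W (κ := Unit) hN hζ (f := fun _ => A.restrict hU) (fun _ _ => rfl) (fun _ => h1)
  rw [← h2, ← (Equiv.funUnique Unit (ZMod N)).symm.sum_comp]
  refine Finset.sum_congr rfl fun i _ => ?_
  have h3 : (W N ζ (fun _ : Unit => A.restrict hU) ((Equiv.funUnique Unit (ZMod N)).symm i)).map U.subtype =
      (U ⊓ A.eigenspace (ζ ^ i.val) : Submodule K V) := by
    ext v
    rw [Submodule.mem_map, Submodule.mem_inf, Module.End.mem_eigenspace_iff]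
    constructor
    · rintro ⟨w, hw, rfl⟩
      rw [mem_W] at hw
      exact ⟨w.2, congrArg Subtype.val (hw ())⟩
    · rintro ⟨hv, hv2⟩
      refine ⟨⟨v, hv⟩, ?_, rfl⟩
      rw [mem_W]
      intro _
      exact Subtype.ext hv2
  rw [← h3]
  exact finrank_map_sub _

/-- Involutions. -/
theorem two_inf (h2 : (2 : K) ≠ 0) {A : Module.End K V} {U : Submodule K V} (hA : ∀ v ∈ U, A (A v) = v)
    (hU : ∀ v ∈ U, A v ∈ U) :
    finrank K (U ⊓ A.eigenspace 1 : Submodule K V) + finrank K (U ⊓ A.eigenspace (-1) : Submodule K V) = finrank K U := by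
  rw [← Submodule.finrank_sup_add_finrank_inf_eq]
  have h3 : (U ⊓ A.eigenspace 1) ⊓ (U ⊓ A.eigenspace (-1)) = (⊥ : Submodule K V) := by
    rw [eq_bot_iff]
    rintro v ⟨⟨_, h4⟩, ⟨_, h5⟩⟩
    rw [SetLike.mem_coe, Module.End.mem_eigenspace_iff] at h4 h5
    rw [h4, one_smul, neg_one_smul] at h5
    have h6 : (2 : K) • v = 0 := by
      rw [two_smul]
      nth_rewrite 1 [h5]
      exact neg_add_cancel v
    exact (smul_eq_zero.1 h6).resolve_left h2
  have h4 : (U ⊓ A.eigenspace 1) ⊔ (U ⊓ A.eigenspace (-1)) = U := by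
    refine le_antisymm (sup_le inf_le_left inf_le_left) ?_
    intro v hv
    rw [Submodule.mem_sup]
    refine ⟨(2 : K)⁻¹ • (v + A v), ⟨U.smul_mem _ (U.add_mem hv (hU v hv)), ?_⟩, (2 : K)⁻¹ • (v - A v),
      ⟨U.smul_mem _ (U.sub_mem hv (hU v hv)), ?_⟩, ?_⟩
    · rw [SetLike.mem_coe, Module.End.mem_eigenspace_iff, map_smul, map_add, hA v hv, one_smul, add_comm]
    · rw [SetLike.mem_coe, Module.End.mem_eigenspace_iff, map_smul, map_sub, hA v hv, neg_one_smul, ← smul_neg, neg_sub]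
    · rw [← smul_add, show v + A v + (v - A v) = (2 : K) • v by rw [two_smul]; abel, smul_smul,
        inv_mul_cancel₀ h2, one_smul]
  rw [h3, finrank_bot, add_zero, h4]

end gen

section rep

variable {K : Type*} [Field K] {V : Type*} [AddCommGroup V] [Module K V] [FiniteDimensional K V]
variable {G : Type*} [Group G] {σ : G →* Module.End K V}

/-- **Klein four groups.** -/
theorem klein (h2 : (2 : K) ≠ 0) {a b : G} {U : Submodule K V}
    (haa : ∀ v ∈ U, σ a (σ a v) = v) (hbb : ∀ v ∈ U, σ b (σ b v) = v) (hcab : ∀ v ∈ U, σ a (σ b v) = σ b (σ a v))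
    (hUa : ∀ v ∈ U, σ a v ∈ U) (hUb : ∀ v ∈ U, σ b v ∈ U) :
    finrank K U + 2 * finrank K (U ⊓ Fix σ a ⊓ Fix σ b : Submodule K V) =
      finrank K (U ⊓ Fix σ a : Submodule K V) + finrank K (U ⊓ Fix σ b : Submodule K V) +
        finrank K (U ⊓ Fix σ (a * b) : Submodule K V) := by
  -- invariance
  have i1 : ∀ (c : K) (v : V), v ∈ U ⊓ (σ a).eigenspace c → σ b v ∈ U ⊓ (σ a).eigenspace c := by
    rintro c v ⟨h1, h3⟩
    rw [SetLike.mem_coe, Module.End.mem_eigenspace_iff] at h3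
    refine ⟨hUb v h1, ?_⟩
    rw [SetLike.mem_coe, Module.End.mem_eigenspace_iff, hcab v h1, h3, map_smul]
  have i2 : ∀ (c : K) (v : V), v ∈ U ⊓ (σ b).eigenspace c → σ a v ∈ U ⊓ (σ b).eigenspace c := by
    rintro c v ⟨h1, h3⟩
    rw [SetLike.mem_coe, Module.End.mem_eigenspace_iff] at h3
    refine ⟨hUa v h1, ?_⟩
    rw [SetLike.mem_coe, Module.End.mem_eigenspace_iff, ← hcab v h1, h3, map_smul]
  have i3 : ∀ (v : V), v ∈ U ⊓ Fix σ (a * b) → σ a v ∈ U ⊓ Fix σ (a * b) := by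
    rintro v ⟨h1, h3⟩
    rw [SetLike.mem_coe, mem_Fix, mul_apply'] at h3
    refine ⟨hUa v h1, ?_⟩
    rw [SetLike.mem_coe, mem_Fix, mul_apply', ← hcab v h1, h3]
  have e0 := two_inf h2 haa hUa
  have e1 := two_inf h2 (U := U ⊓ (σ a).eigenspace 1) (fun v hv => hbb v hv.1) (i1 1)
  have e2 := two_inf h2 (U := U ⊓ (σ a).eigenspace (-1)) (fun v hv => hbb v hv.1) (i1 (-1))
  have e3 := two_inf h2 (U := U ⊓ (σ b).eigenspace 1) (fun v hv => haa v hv.1) (i2 1)
  have e4 := two_inf h2 (U := U ⊓ Fix σ (a * b)) (fun v hv => haa v hv.1) i3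
  have j1 : (U ⊓ (σ b).eigenspace 1) ⊓ (σ a).eigenspace 1 = (U ⊓ (σ a).eigenspace 1) ⊓ (σ b).eigenspace 1 := by
    rw [inf_assoc, inf_assoc, inf_comm ((σ b).eigenspace 1)]
  have j2 : (U ⊓ (σ b).eigenspace 1) ⊓ (σ a).eigenspace (-1) = (U ⊓ (σ a).eigenspace (-1)) ⊓ (σ b).eigenspace 1 := by
    rw [inf_assoc, inf_assoc, inf_comm ((σ b).eigenspace 1)]
  have j3 : (U ⊓ Fix σ (a * b)) ⊓ (σ a).eigenspace 1 = (U ⊓ (σ a).eigenspace 1) ⊓ (σ b).eigenspace 1 := by
    ext v
    simp only [Submodule.mem_inf, Module.End.mem_eigenspace_iff, mem_Fix, mul_apply', one_smul]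
    constructor
    · rintro ⟨⟨h1, h3⟩, h4⟩
      refine ⟨⟨h1, h4⟩, ?_⟩
      rw [hcab v h1, h4] at h3
      exact h3
    · rintro ⟨⟨h1, h3⟩, h4⟩
      refine ⟨⟨h1, ?_⟩, h3⟩
      rw [h4, h3]
  have j4 : (U ⊓ Fix σ (a * b)) ⊓ (σ a).eigenspace (-1) = (U ⊓ (σ a).eigenspace (-1)) ⊓ (σ b).eigenspace (-1) := by
    ext v
    simp only [Submodule.mem_inf, Module.End.mem_eigenspace_iff, mem_Fix, mul_apply', neg_one_smul]
    constructor
    · rintro ⟨⟨h1, h3⟩, h4⟩
      refine ⟨⟨h1, h4⟩, ?_⟩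
      rw [hcab v h1, h4, map_neg] at h3
      exact neg_eq_iff_eq_neg.1 h3
    · rintro ⟨⟨h1, h3⟩, h4⟩
      refine ⟨⟨h1, ?_⟩, h3⟩
      rw [h4, map_neg, h3, neg_neg]
  rw [j1, j2] at e3
  rw [j3, j4] at e4
  have k1 : finrank K (U ⊓ Fix σ a ⊓ Fix σ b : Submodule K V) =
    finrank K ((U ⊓ (σ a).eigenspace 1) ⊓ (σ b).eigenspace 1 : Submodule K V) := rfl
  have k2 : finrank K (U ⊓ Fix σ a : Submodule K V) = finrank K (U ⊓ (σ a).eigenspace 1 : Submodule K V) := rfl
  have k3 : finrank K (U ⊓ Fix σ b : Submodule K V) = finrank K (U ⊓ (σ b).eigenspace 1 : Submodule K V) := rfl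
  rw [k1, k2, k3]
  omega

/-- **Klein four groups normalised by an element of order three.** -/
theorem klein3 (h2 : (2 : K) ≠ 0) {a b s : G} (ha : a * a = 1) (hb : b * b = 1) (hab : a * b = b * a)
    (hs1 : s * a * s⁻¹ = b) (hs2 : s * b * s⁻¹ = a * b) {U : Submodule K V}
    (hUa : ∀ v ∈ U, σ a v ∈ U) (hUb : ∀ v ∈ U, σ b v ∈ U) (hUs : ∀ v ∈ U, σ s v ∈ U) :
    finrank K U + 2 * finrank K (U ⊓ Fix σ a ⊓ Fix σ b : Submodule K V) =
      3 * finrank K (U ⊓ Fix σ a : Submodule K V) := by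
  have h := klein (σ := σ) h2 (fun v _ => by rw [← mul_apply', ha, map_one]; rfl)
    (fun v _ => by rw [← mul_apply', hb, map_one]; rfl) (fun v _ => by rw [← mul_apply', ← mul_apply', hab]) hUa hUb
  have key : ∀ x y : G, s * x * s⁻¹ = y → finrank K (U ⊓ Fix σ x : Submodule K V) ≤
      finrank K (U ⊓ Fix σ y : Submodule K V) := by
    intro x y hxy
    refine finrank_le_of_map (σ := σ) s fun v hv => ⟨hUs v hv.1, ?_⟩
    have h1 := mem_Fix.1 hv.2
    rw [SetLike.mem_coe, mem_Fix, ← hxy, ← mul_apply', inv_mul_cancel_right, mul_apply', h1]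
  have h1 := key a b hs1
  have h3 := key b (a * b) hs2
  have h4 := key (a * b) a (by
    have : s * (a * b) * s⁻¹ = (s * a * s⁻¹) * (s * b * s⁻¹) := by group
    rw [this, hs1, hs2, hab, ← mul_assoc, hb, one_mul])
  omega

/-- **Traces and fixed spaces.** -/
theorem sum_trace {N : ℕ} (hN : (N : K) ≠ 0) {x : G} (hx : x ^ N = 1) :
    ∑ k ∈ Finset.range N, LinearMap.trace K V (σ (x ^ k)) = N * (finrank K (Fix σ x) : K) := by
  set p : Module.End K V := (N : K)⁻¹ • ∑ k ∈ Finset.range N, σ (x ^ k) with hp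
  have hproj : LinearMap.IsProj (Fix σ x) p := by
    refine ⟨fun v => ?_, fun v hv => ?_⟩
    · rw [mem_Fix, hp, LinearMap.smul_apply, map_smul, LinearMap.sum_apply, map_sum]
      congr 1
      have h1 : ∀ k, σ x (σ (x ^ k) v) = σ (x ^ (k + 1)) v := fun k => by rw [← mul_apply', ← pow_succ']
      simp only [h1]
      have h3 := Finset.sum_range_succ (fun k => σ (x ^ k) v) N
      rw [Finset.sum_range_succ', hx, pow_zero] at h3
      exact add_right_cancel h3
    · rw [hp, LinearMap.smul_apply, LinearMap.sum_apply]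
      have h1 : ∀ k, σ (x ^ k) v = v := by
        intro k
        induction k with
        | zero => rw [pow_zero, map_one, Module.End.one_apply]
        | succ k ih => rw [pow_succ', mul_apply', ih]; exact mem_Fix.1 hv
      simp only [h1]
      rw [Finset.sum_const, Finset.card_range, ← Nat.cast_smul_eq_nsmul K, smul_smul, inv_mul_cancel₀ hN, one_smul]
  have h1 := hproj.trace
  rw [hp, map_smul, map_sum, smul_eq_mul] at h1
  rw [← h1, ← mul_assoc, mul_inv_cancel₀ hN, one_mul]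

theorem eig_conj {N : ℕ} [NeZero N] {ζ : K} (hζ : IsPrimitiveRoot ζ N) {x d : G} {m : ℕ} (hd : d⁻¹ * x * d = x ^ m)
    (i : ZMod N) : finrank K ((σ x).eigenspace (ζ ^ i.val)) ≤ finrank K ((σ x).eigenspace (ζ ^ ((m : ZMod N) * i).val)) := by
  refine finrank_le_of_map (σ := σ) d fun v hv => ?_
  rw [Module.End.mem_eigenspace_iff] at hv ⊢
  have h1 : ((m : ZMod N) * i).val = (m * i.val) % N := by
    rw [ZMod.val_mul, ZMod.val_natCast, Nat.mod_mul_mod]
  have h2 : σ x (σ d v) = σ d (σ (d⁻¹ * x * d) v) := by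
    rw [← mul_apply', ← mul_apply']
    congr 2
    group
  rw [h2, hd, map_pow, pow_apply hv, map_smul, h1, pow_mod_of_pow_eq_one hζ.pow_eq_one, ← pow_mul, mul_comm]

end rep

namespace OT

variable {F : Type u} [Field F] {T : Type v} [Group T] (h : OT F T)

/-- the dimension of the fixed space -/
noncomputable def d (g : T) : ℕ := finrank (AlgebraicClosure F) (Fix h.σ g)

theorem d_conj {g g' : T} (hc : IsConj g g') : h.d g = h.d g' := finrank_Fix_of_isConj hc

theorem d_even (g : T) : Even (h.d g) := h.even_fix g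

theorem d_le (g : T) : h.d g ≤ 10 := by
  have := Submodule.finrank_le (Fix h.σ g)
  rwa [Module.finrank_fin_fun] at this

theorem d_ne {g : T} (hg : g ≠ 1) : h.d g ≠ 10 := by
  intro h10
  apply hg
  apply h.σ_injective
  have h1 : Fix h.σ g = ⊤ := Submodule.eq_top_of_finrank_eq (by rw [Module.finrank_fin_fun]; exact h10)
  refine LinearMap.ext fun v => ?_
  have h2 : v ∈ Fix h.σ g := by rw [h1]; trivial
  rw [map_one, Module.End.one_apply]
  exact mem_Fix.1 h2

theorem sum_eig {N : ℕ} [NeZero N] (hN : (N : AlgebraicClosure F) ≠ 0) {ζ : AlgebraicClosure F}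
    (hζ : IsPrimitiveRoot ζ N) {x : T} (hx : x ^ N = 1) :
    ∑ i : ZMod N, finrank (AlgebraicClosure F) ((h.σ x).eigenspace (ζ ^ i.val)) = 10 := by
  have h1 := sum_inf_eigen hN hζ (A := h.σ x) (by rw [← map_pow, hx, map_one]) (U := ⊤) (fun v _ => trivial)
  rw [finrank_top, Module.finrank_fin_fun] at h1
  refine Eq.trans (Finset.sum_congr rfl fun i _ => ?_) h1
  have h2 : (⊤ ⊓ (h.σ x).eigenspace (ζ ^ i.val) : Submodule (AlgebraicClosure F) _) = (h.σ x).eigenspace (ζ ^ i.val) :=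
    top_inf_eq _
  rw [h2]

theorem eig_neg {N : ℕ} [NeZero N] (hN : (N : AlgebraicClosure F) ≠ 0) {ζ : AlgebraicClosure F}
    (hζ : IsPrimitiveRoot ζ N) {x : T} (hx : x ^ N = 1) (i : ZMod N) :
    finrank (AlgebraicClosure F) ((h.σ x).eigenspace (ζ ^ (-i).val)) =
      finrank (AlgebraicClosure F) ((h.σ x).eigenspace (ζ ^ i.val)) := by
  have h1 := h.finrank_W_neg (κ := Unit) hN hζ (x := fun _ => x) (fun _ _ => rfl) (fun _ => hx) (fun _ => i)
  have h2 : ∀ j : ZMod N, W N ζ (fun _ : Unit => h.σ x) (fun _ => j) = (h.σ x).eigenspace (ζ ^ j.val) := fun j => iInf_const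
  have h3 : (-fun _ : Unit => i) = fun _ => -i := rfl
  rw [h3, h2, h2] at h1
  exact h1

theorem eig_zero {ζ : AlgebraicClosure F} (N : ℕ) [NeZero N] (x : T) :
    finrank (AlgebraicClosure F) ((h.σ x).eigenspace (ζ ^ (0 : ZMod N).val)) = h.d x := by
  rw [ZMod.val_zero, pow_zero]
  rfl

/-- **Elements of order seven.** -/
theorem dim7 (h7 : (7 : AlgebraicClosure F) ≠ 0) {x d : T} (hx : x ^ 7 = 1) (hx1 : x ≠ 1) (hd : d⁻¹ * x * d = x ^ 2) :
    h.d x = 4 := by
  have h7' : ((7 : ℕ) : AlgebraicClosure F) ≠ 0 := by exact_mod_cast h7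
  obtain ⟨ζ, hζ⟩ := exists_root (K := AlgebraicClosure F) (N := 7) h7'
  have hsum := h.sum_eig h7' hζ hx
  have hneg := h.eig_neg h7' hζ hx
  have hconj := fun i : ZMod 7 => eig_conj (σ := h.σ) hζ hd i
  have h0 := h.eig_zero (ζ := ζ) 7 x
  set D : ZMod 7 → ℕ := fun i => finrank (AlgebraicClosure F) ((h.σ x).eigenspace (ζ ^ i.val)) with hD
  have e1 : D 1 ≤ D 2 := hconj 1
  have e2 : D 2 ≤ D 4 := hconj 2
  have e3 : D 4 ≤ D 1 := hconj 4
  have e4 : D 6 = D 1 := hneg 1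
  have e5 : D 5 = D 2 := hneg 2
  have e6 : D 3 = D 4 := hneg 4
  have e0 : D 0 = h.d x := h0
  have hs : D 0 + D 1 + D 2 + D 3 + D 4 + D 5 + D 6 = 10 := by
    rw [← hsum]
    exact (Fin.sum_univ_seven (fun i : Fin 7 => D i)).symm
  have hne := h.d_ne hx1
  have hd10 := h.d_le x
  omega

/-- **Elements of order five.** -/
theorem dim5 (h5 : (5 : AlgebraicClosure F) ≠ 0) {x d : T} (hx : x ^ 5 = 1) (hx1 : x ≠ 1) (hd : d⁻¹ * x * d = x ^ 2) :
    h.d x = 2 ∨ h.d x = 6 := by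
  have h5' : ((5 : ℕ) : AlgebraicClosure F) ≠ 0 := by exact_mod_cast h5
  obtain ⟨ζ, hζ⟩ := exists_root (K := AlgebraicClosure F) (N := 5) h5'
  have hsum := h.sum_eig h5' hζ hx
  have hconj := fun i : ZMod 5 => eig_conj (σ := h.σ) hζ hd i
  have h0 := h.eig_zero (ζ := ζ) 5 x
  set D : ZMod 5 → ℕ := fun i => finrank (AlgebraicClosure F) ((h.σ x).eigenspace (ζ ^ i.val)) with hD
  have e1 : D 1 ≤ D 2 := hconj 1
  have e2 : D 2 ≤ D 4 := hconj 2
  have e3 : D 4 ≤ D 3 := hconj 4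
  have e4 : D 3 ≤ D 1 := hconj 3
  have e0 : D 0 = h.d x := h0
  have hs : D 0 + D 1 + D 2 + D 3 + D 4 = 10 := by
    rw [← hsum]
    exact (Fin.sum_univ_five (fun i : Fin 5 => D i)).symm
  have hne := h.d_ne hx1
  omega

/-- **Elements of order three.** -/
theorem dim3 (h3 : (3 : AlgebraicClosure F) ≠ 0) {ζ : AlgebraicClosure F} (hζ : IsPrimitiveRoot ζ 3) {x : T} (hx : x ^ 3 = 1) :
    h.d x + 2 * finrank (AlgebraicClosure F) ((h.σ x).eigenspace ζ) = 10 ∧
      finrank (AlgebraicClosure F) ((h.σ x).eigenspace (ζ ^ 2)) = finrank (AlgebraicClosure F) ((h.σ x).eigenspace ζ) := by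
  have h3' : ((3 : ℕ) : AlgebraicClosure F) ≠ 0 := by exact_mod_cast h3
  have hsum := h.sum_eig h3' hζ hx
  have hneg := h.eig_neg h3' hζ hx
  have h0 := h.eig_zero (ζ := ζ) 3 x
  set D : ZMod 3 → ℕ := fun i => finrank (AlgebraicClosure F) ((h.σ x).eigenspace (ζ ^ i.val)) with hD
  have e1 : D 2 = D 1 := hneg 1
  have e0 : D 0 = h.d x := h0
  have hs : D 0 + D 1 + D 2 = 10 := by
    rw [← hsum]
    exact (Fin.sum_univ_three (fun i : Fin 3 => D i)).symm
  have f1 : D 1 = finrank (AlgebraicClosure F) ((h.σ x).eigenspace ζ) := by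
    change finrank (AlgebraicClosure F) ((h.σ x).eigenspace (ζ ^ 1)) = _
    rw [pow_one]
  have f2 : D 2 = finrank (AlgebraicClosure F) ((h.σ x).eigenspace (ζ ^ 2)) := rfl
  omega

/-- **Elementary abelian groups of order nine.** -/
theorem dimE (h3 : (3 : AlgebraicClosure F) ≠ 0) {a b g : T} (ha : a ^ 3 = 1) (hb : b ^ 3 = 1) (hab : a * b = b * a)
    (hga : g⁻¹ * a * g = b) (hgb : g⁻¹ * b * g = a * a) :
    ∃ x y : ℕ, finrank (AlgebraicClosure F) (Fix h.σ a ⊓ Fix h.σ b : Submodule _ _) + 4 * x + 4 * y = 10 ∧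
      h.d a = finrank (AlgebraicClosure F) (Fix h.σ a ⊓ Fix h.σ b : Submodule _ _) + 2 * x ∧
      h.d (a * b) = finrank (AlgebraicClosure F) (Fix h.σ a ⊓ Fix h.σ b : Submodule _ _) + 2 * y := by
  have h3' : ((3 : ℕ) : AlgebraicClosure F) ≠ 0 := by exact_mod_cast h3
  obtain ⟨ζ, hζ⟩ := exists_root (K := AlgebraicClosure F) (N := 3) h3'
  have hζ3 := hζ.pow_eq_one
  have hsum := h.sum_eig h3' hζ ha
  have hcomm : ∀ v, h.σ a (h.σ b v) = h.σ b (h.σ a v) := fun v => by rw [← mul_apply', ← mul_apply', hab]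
  set D : ZMod 3 → ZMod 3 → ℕ := fun i j => finrank (AlgebraicClosure F)
    ((h.σ a).eigenspace (ζ ^ i.val) ⊓ (h.σ b).eigenspace (ζ ^ j.val) : Submodule _ _) with hD
  have hrow : ∀ i, ∑ j, D i j = finrank (AlgebraicClosure F) ((h.σ a).eigenspace (ζ ^ i.val)) := by
    intro i
    refine sum_inf_eigen h3' hζ (A := h.σ b) (by rw [← map_pow, hb, map_one]) (fun v hv => ?_)
    rw [Module.End.mem_eigenspace_iff] at hv ⊢
    rw [hcomm, hv, map_smul]
  have hdiag : ∑ i, D i (-i) = h.d (a * b) := by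
    have h1 := sum_inf_eigen h3' hζ (A := h.σ a) (by rw [← map_pow, ha, map_one]) (U := Fix h.σ (a * b)) (fun v hv => by
      rw [mem_Fix] at hv ⊢
      rw [mul_apply', ← hcomm, ← mul_apply' a b, hv])
    rw [d, ← h1]
    refine Finset.sum_congr rfl fun i _ => ?_
    have h2 : (Fix h.σ (a * b) ⊓ (h.σ a).eigenspace (ζ ^ i.val) : Submodule (AlgebraicClosure F) _) =
        (h.σ a).eigenspace (ζ ^ i.val) ⊓ (h.σ b).eigenspace (ζ ^ (-i).val) := by
      ext v
      simp only [Submodule.mem_inf, Module.End.mem_eigenspace_iff, mem_Fix, mul_apply']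
      have h4 : ζ ^ (-i).val * ζ ^ i.val = 1 := by
        rw [← pow_val_add hζ3, neg_add_cancel, ZMod.val_zero, pow_zero]
      constructor
      · rintro ⟨h5, h6⟩
        refine ⟨h6, ?_⟩
        rw [hcomm, h6, map_smul] at h5
        have h7 := congrArg (fun z => ζ ^ (-i).val • z) h5
        simp only [smul_smul, h4, one_smul] at h7
        exact h7
      · rintro ⟨h5, h6⟩
        refine ⟨?_, h5⟩
        rw [h6, map_smul, h5, smul_smul, h4, one_smul]
    rw [h2]
  have hDle : ∀ i j, D i j ≤ D j (i + i) := by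
    intro i j
    refine finrank_le_of_map (σ := h.σ) g fun v hv => ?_
    rw [Submodule.mem_inf, Module.End.mem_eigenspace_iff, Module.End.mem_eigenspace_iff] at hv ⊢
    have e1 : ∀ z : T, h.σ z (h.σ g v) = h.σ g (h.σ (g⁻¹ * z * g) v) := by
      intro z
      rw [← mul_apply', ← mul_apply']
      congr 2
      group
    refine ⟨?_, ?_⟩
    · rw [e1, hga, hv.2, map_smul]
    · rw [e1, hgb, act_mul hv.1 hv.1, ← pow_val_add hζ3, map_smul]
  have r : ∀ f : ZMod 3 → ℕ, ∑ i, f i = f 0 + f 1 + f 2 := fun f => Fin.sum_univ_three (fun i : Fin 3 => f i)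
  have r0 := hrow 0
  have r1 := hrow 1
  have r2 := hrow 2
  rw [r] at r0 r1 r2
  rw [r] at hsum hdiag
  have hz := h.eig_zero (ζ := ζ) 3 a
  rw [hz] at r0 hsum
  have e1 : D 1 0 ≤ D 0 2 := hDle 1 0
  have e2 : D 0 2 ≤ D 2 0 := hDle 0 2
  have e3 : D 2 0 ≤ D 0 1 := hDle 2 0
  have e4 : D 0 1 ≤ D 1 0 := hDle 0 1
  have f1 : D 1 1 ≤ D 1 2 := hDle 1 1
  have f2 : D 1 2 ≤ D 2 2 := hDle 1 2
  have f3 : D 2 2 ≤ D 2 1 := hDle 2 2
  have f4 : D 2 1 ≤ D 1 1 := hDle 2 1
  have hdiag' : D 0 0 + D 1 2 + D 2 1 = h.d (a * b) := hdiag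
  have h00 : D 0 0 = finrank (AlgebraicClosure F) (Fix h.σ a ⊓ Fix h.σ b : Submodule _ _) := by
    change finrank (AlgebraicClosure F) ((h.σ a).eigenspace (ζ ^ 0) ⊓ (h.σ b).eigenspace (ζ ^ 0) : Submodule _ _) = _
    rw [pow_zero]
    rfl
  refine ⟨D 1 0, D 1 1, ?_, ?_, ?_⟩ <;> rw [← h00] <;> omega

/-- **Traces.** -/
theorem sum_tr {N : ℕ} (hN : (N : F) ≠ 0) {x : T} (hx : x ^ N = 1) :
    ∑ k ∈ Finset.range N, ((h.ρ (x ^ k) : Matrix (Fin 10) (Fin 10) F)).trace = N * (h.d x : F) := by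
  have hN' : (N : AlgebraicClosure F) ≠ 0 := by
    have := (map_ne_zero (algebraMap F (AlgebraicClosure F))).2 hN
    rwa [map_natCast] at this
  have h1 := sum_trace (σ := h.σ) hN' hx
  apply (algebraMap F (AlgebraicClosure F)).injective
  rw [map_sum, map_mul, map_natCast, map_natCast]
  refine Eq.trans (Finset.sum_congr rfl fun k _ => ?_) h1
  have h2 : h.σ (x ^ k) = Matrix.toLin' ((h.ρ (x ^ k) : Matrix (Fin 10) (Fin 10) F).map (algebraMap F (AlgebraicClosure F))) := by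
    refine LinearMap.ext fun v => ?_
    rw [σ_apply, Matrix.toLin'_apply]
  rw [h2, Matrix.trace_toLin'_eq]
  simp [Matrix.trace]

end OT

end Cfsg.Agent.H908.Ten
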